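import Mathlib.Data.List.Basic

/-!
Data in a Sylow two-subgroup of the symplectic group in six dimensions: central involutions, the fixed subspaces and
words conjugating its involutions to standard ones.
-/

set_option autoImplicit false

namespace Cfsg.Agent.Co2Recog

/-- The central involution with a plane of commutators. -/
def y0W : List ℕ :=
  [3, 2, 6, 5, 2, 3, 1, 2, 0, 1, 3, 2, 6, 5, 2, 3, 4, 3, 2, 6, 5, 2, 3, 1, 2, 0, 1, 3, 2, 6, 5, 2, 3, 3, 2, 6,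
    5, 2, 3, 4, 3, 2, 6, 5, 2, 3, 1, 2, 0, 1, 3, 2, 6, 5, 2, 3, 4, 3, 2, 6, 5, 2, 3, 1, 2, 0, 1, 4]

/-- The central involution with a singular four-space of commutators. -/
def y1W : List ℕ :=
  [2, 0]

/-- The central transvection. -/
def tauW : List ℕ :=
  [3, 2, 6, 5, 2, 3, 1, 2, 0, 1, 3, 2, 6, 5, 2, 3, 4, 3, 2, 6, 5, 2, 3, 1, 2, 0, 1, 3, 2, 6, 5, 2, 3, 3, 2, 6,
    5, 2, 3, 4, 3, 2, 6, 5, 2, 3, 1, 2, 0, 1, 3, 2, 6, 5, 2, 3, 4, 3, 2, 6, 5, 2, 3, 1, 2, 0, 1, 4, 2, 0]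

/-- The fixed maximal singular subspace. -/
def W0 : List ℕ :=
  [0, 4, 8, 12, 64, 68, 72, 76, 128, 132, 136, 140, 192, 196, 200, 204]

/-- The plane of commutators of the first involution. -/
def l0 : List ℕ :=
  [0, 8, 128, 136]

/-- The maximal singular subspace invariant under the stabiliser of the fixed vector. -/
def W5 : List ℕ :=
  [0, 8, 32, 40, 64, 72, 96, 104, 128, 136, 160, 168, 192, 200, 224, 232]

/-- A basis of the fixed space of the first involution. -/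
def fbase : List ℕ :=
  [2, 4, 8, 32, 64, 128]

/-- Generators of the stabiliser of the fixed vector. -/
def stabW : List (List ℕ) :=
  [[0], [2], [4], [1, 0, 2, 1], [3, 2, 4, 3], [3, 2, 5, 4, 6, 3]]

/-- Words in that stabiliser moving vectors to ones not orthogonal. -/
def perpW : List (List ℕ) :=
  [[0, 3, 2, 5, 4, 6, 3], [1, 0, 2, 1, 3, 2, 5, 4, 6, 3], [4, 1, 0, 2, 1, 3, 2, 5, 4, 6, 3]]

/-- A word with image of order seven fixing the fixed vector. -/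
def w7 : List ℕ :=
  [0, 1, 0, 2, 1, 2, 3, 2, 5, 4, 6, 3, 0, 2]

/-- The unit vectors in a basis cyclic for it. -/
def um : List ℕ :=
  [52, 35, 57, 1, 59, 36]

/-- The start of that basis. -/
def v7 : ℕ :=
  8

/-- Codes of the transvections, with conjugating words. -/
def bad63 : List (ℕ × List ℕ) :=
  [(34630549633, []), (34681405569, [1, 2, 0, 1]), (41173401729, [3, 4, 2, 3, 1, 2, 0, 1]), (40000307329, [6,
    5, 4, 3, 1, 2, 0, 1]), (42265755777, [1, 2, 6, 5, 4, 3, 2, 1]), (38925254785, [6, 2, 3, 1, 2, 6, 4, 3, 2,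
    1]), (34663841921, [3, 4, 2, 3, 1, 2, 6, 5, 4, 3, 2, 1])]

/-- Codes of the conjugates of the first involution, with conjugating words. -/
def bad315 : List (ℕ × List ℕ) :=
  [(36844880001, [3, 4, 2, 3, 1, 2, 6, 5, 4, 3, 0, 1]), (37936971905, [1, 2, 3, 4, 0, 1, 2, 3]), (35722379393,
    [3, 4, 2, 3]), (36862181505, [5, 4, 3, 1, 2, 6, 2, 3, 0, 1]), (36996399235, [5, 4, 3, 2, 6, 2, 3, 0, 1]),
    (36979097731, [5, 4, 3, 2, 6, 2, 3, 1]), (34764505219, [0, 1]), (34781806723, [1]), (34647588993, []),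
    (35705077889, [6, 5, 4, 3]), (37919670401, [1, 2, 6, 5, 4, 3, 0, 1]), (35167166593, [4, 5, 3, 4, 2, 3, 1,
    2, 6, 5, 4, 3, 0, 1]), (37399060609, [4, 3, 1, 2, 6, 2, 3, 0, 1]), (37533278339, [4, 3, 2, 6, 2, 3, 0,
    1]), (37515976835, [4, 3, 2, 6, 2, 3, 1]), (37381759105, [5, 3, 4, 2, 3, 1, 2, 6, 5, 4, 3, 0, 1]),
    (35184468097, [3, 1, 2, 6, 2, 3, 0, 1]), (35318685827, [3, 2, 6, 2, 3, 0, 1]), (35301384323, [3, 2, 6, 2,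
    3, 1]), (35175559297, [4, 5, 1, 2, 3, 4, 0, 1, 2, 3]), (38482243713, [5, 1, 2, 3, 4, 0, 1, 2, 3]),
    (35192860801, [1, 2, 6, 3, 0, 1]), (38464942209, [1, 2, 6, 4, 3, 0, 1]), (34638680193, [4, 5, 3, 4, 2,
    3]), (35730772097, [5, 3, 4, 2, 3]), (34655981697, [6, 3]), (35713470593, [6, 4, 3])]

/-- Codes of the conjugates of the second involution, with conjugating words. -/
def k945 : List (ℕ × List ℕ) :=
  [(34681143425, []), (41173663873, [3, 4, 2, 3]), (41157410945, [1, 2, 3, 4, 0, 1, 2, 3]), (34815361155,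
    [1]), (34798059651, [0, 1]), (37012652163, [5, 4, 3, 2, 6, 2, 3, 1]), (37029953667, [5, 4, 3, 2, 6, 2, 3,
    0, 1]), (36895735937, [5, 4, 3, 1, 2, 6, 2, 3, 0, 1]), (38958809217, [3, 2, 6, 4, 1, 2, 3, 0, 1, 2, 6, 4,
    5, 3, 4, 2, 3, 1]), (40000045185, [6, 5, 4, 3]), (40050901121, [3, 2, 6, 5, 1, 2, 3, 4, 0, 1, 2, 3, 0,
    1]), (37953486977, [6, 3, 4, 5, 1, 2, 3, 4, 0, 1, 2, 3, 0, 1]), (42265493633, [1, 2, 3, 0, 1, 2, 6, 5, 1,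
    2, 3, 4, 0, 1, 2, 3, 0, 1]), (42214637697, [1, 2, 6, 5, 4, 3, 0, 1]), (35722641537, [1, 2, 6, 3, 4, 5, 2,
    3, 4, 1, 2, 3, 0, 1]), (38925516929, [6, 1, 2, 3, 0, 1, 2, 6, 2, 3, 4, 1, 2, 3, 0, 1]), (38976372865, [6,
    2, 3, 1, 2, 6, 4, 1, 2, 3, 0, 1]), (36878434433, [6, 3, 4, 2, 3, 1, 2, 6, 4, 3, 0, 1]), (41139847297, [3,
    4, 2, 3, 1, 2, 6, 5, 4, 3, 0, 1]), (34647851137, [3, 4, 2, 3, 1, 2, 6, 3, 4, 5, 2, 3, 4, 1, 2, 3, 0, 1]),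
    (34664104065, [3, 4, 1, 2, 3, 0, 1, 2, 6, 5, 2, 3, 4, 1, 2, 3, 0, 1]), (35705340033, [6, 2, 3, 1, 2, 6, 3,
    4, 5, 2, 3, 4, 1, 2, 3, 1]), (42232201345, [5, 3, 4, 1, 2, 3, 0, 1, 2, 6, 4, 5, 3, 4, 2, 3, 0, 1]),
    (37970788481, [6, 1, 2, 3, 0, 1, 2, 6, 4, 5, 3, 4, 1, 2, 3, 1]), (40033861761, [5, 3, 4, 2, 3, 1, 2, 6, 5,
    4, 2, 3, 0, 1]), (35334938755, [3, 2, 6, 2, 3, 1]), (35352240259, [3, 2, 6, 2, 3, 0, 1]), (35218022529,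
    [3, 1, 2, 6, 2, 3, 0, 1]), (37415313537, [6, 5, 3, 4, 2, 3, 1, 2, 6, 4, 3, 0, 1]), (37549531267, [4, 3, 2,
    6, 2, 3, 1]), (37566832771, [4, 3, 2, 6, 2, 3, 0, 1]), (37432615041, [4, 3, 1, 2, 6, 2, 3, 0, 1]),
    (35200721025, [6, 4, 5, 3, 4, 2, 3, 1, 2, 6, 4, 3, 0, 1]), (35226677377, [6, 3, 4, 5, 1, 2, 3, 4, 0, 1, 2,
    3]), (38498758785, [6, 3, 4, 5, 1, 2, 3, 4, 0, 1, 2, 3, 1]), (35209375873, [6, 4, 1, 2, 3, 0, 1, 2, 6, 4,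
    5, 3, 4, 1, 2, 3, 0, 1]), (38516060289, [6, 1, 2, 3, 0, 1, 2, 6, 4, 5, 3, 4, 1, 2, 3, 0, 1]),
    (34638942337, [1, 2, 6, 3, 4, 5, 2, 3, 4, 1, 2, 3]), (35731034241, [1, 2, 6, 3, 4, 5, 2, 3, 4, 1, 2, 3,
    1]), (34656243841, [6, 4, 2, 3, 1, 2, 6, 3, 4, 5, 2, 3, 4, 1, 2, 3, 0, 1]), (35713732737, [6, 2, 3, 1, 2,
    6, 3, 4, 5, 2, 3, 4, 1, 2, 3, 0, 1])]

/-- Words fixing the four-space and conjugating the first involution over its class in the fixer. -/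
def u315 : List (List ℕ) :=
  [[], [1], [0, 1], [6, 2, 3, 2, 6, 1], [6, 2, 3, 2, 6, 0, 1], [4, 6, 2, 3, 2, 6, 1], [4, 6, 2, 3, 2, 6, 0,
    1], [1, 6, 2, 3, 2, 6, 0, 1], [5, 4, 6, 2, 3, 2, 6, 1], [5, 4, 6, 2, 3, 2, 6, 0, 1], [1, 4, 6, 2, 3, 2, 6,
    0, 1], [1, 5, 4, 6, 2, 3, 2, 6, 0, 1], [6, 2, 3, 2, 6, 1, 4, 6, 2, 3, 2, 6, 0, 1], [6, 2, 3, 2, 6, 1, 5,
    4, 6, 2, 3, 2, 6, 0, 1], [4, 6, 2, 3, 2, 6, 1, 5, 4, 6, 2, 3, 2, 6, 0, 1]]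

/-- The same for the second involution. -/
def u945 : List (List ℕ) :=
  [[], [1], [0, 1], [6, 2, 3, 2, 6, 1], [6, 2, 3, 2, 6, 0, 1], [4, 6, 2, 3, 2, 6, 1], [4, 6, 2, 3, 2, 6, 0,
    1], [1, 6, 2, 3, 2, 6, 0, 1], [5, 4, 6, 2, 3, 2, 6, 1], [5, 4, 6, 2, 3, 2, 6, 0, 1], [1, 4, 6, 2, 3, 2, 6,
    0, 1], [1, 5, 4, 6, 2, 3, 2, 6, 0, 1], [6, 2, 3, 2, 6, 1, 4, 6, 2, 3, 2, 6, 0, 1], [6, 2, 3, 2, 6, 1, 5,
    4, 6, 2, 3, 2, 6, 0, 1], [4, 6, 2, 3, 2, 6, 1, 5, 4, 6, 2, 3, 2, 6, 0, 1]]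

/-- Words giving conjugates with disjoint planes. -/
def disj : List (List ℕ) :=
  [[1], [0, 1], [6, 2, 3, 2, 6, 1], [4, 6, 2, 3, 2, 6, 1]]

/-- The fixed singular vector. -/
def c0 : ℕ :=
  128

end Cfsg.Agent.Co2Recog
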