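import Cfsg.Agent.Lib.Co2Recog.Syl
import Cfsg.Agent.Lib.Co2Recog.TwoData

/-!
Boolean searches in the Sylow two-subgroup of the symplectic group in six dimensions and on the spin module.
-/

set_option autoImplicit false

namespace Cfsg.Agent.Co2Recog

open Cfsg.Agent.ThRec.Eight (ap odd)

/-- Membership in a list of numbers. -/
def memN (l : List ℕ) (n : ℕ) : Bool := l.any (Nat.beq n)

/-- The nonzero singular vectors. -/
def sing : List ℕ := (List.range 256).filter fun v => !(Nat.beq v 0) && !(qv v)

/-- Extending a subspace by a vector. -/
def xext (sp : List ℕ) (v : ℕ) : List ℕ := sp ++ sp.map (Nat.xor v)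

/-- Least vectors extending a singular subspace. -/
def kids (sp : List ℕ) (last : ℕ) : List ℕ :=
  sing.filter fun v => Nat.blt last v && sp.all fun s => !(Bv v s) && Nat.ble v (Nat.xor v s)

/-- No singular subspace reaches dimension five. -/
def deep : ℕ → List ℕ → ℕ → Bool
  | 0, _, _ => false
  | n + 1, sp, last => (kids sp last).all fun v => deep n (xext sp v) v

/-- A fixed vector. -/
def fixV (e : Elt) (v : ℕ) : Bool := Nat.beq (ap e.2 v) v

/-- An element of order at most two. -/
def isInv (e : Elt) : Bool := Nat.beq (key (eMul e e)) (key eId)

/-- The elements of order at most two. -/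
def sylI : List Elt := sylE.filter isInv

/-- The same subspace as `W0`. -/
def isW0 (sp : List ℕ) : Bool := sp.all (memN W0) && W0.all (memN sp)

/-- The search behind uniqueness. -/
def uok : ℕ → List ℕ → ℕ → List Elt → Bool
  | 0, _, _, L => Nat.blt L.length 32
  | n + 1, sp, last, L => Nat.blt L.length 32 ||
      ((Nat.blt (sp.length * L.length) 512 || isW0 sp) &&
        (kids sp last).all fun v => uok n (xext sp v) v (L.filter fun e => fixV e v))

/-- Conjugation by a word. -/
def eConj (w : List ℕ) (x : Elt) : Elt := eMul (eMul (eW w) x) (eW w.reverse)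

/-- A transvection or a conjugate of the first involution, by code. -/
def isBad (n : ℕ) : Bool := (bad63.any fun p => Nat.beq p.1 n) || (bad315.any fun p => Nat.beq p.1 n)

/-- A conjugate of the second involution, by code. -/
def is945 (n : ℕ) : Bool := k945.any fun p => Nat.beq p.1 n

/-- The commutators on the module. -/
def comL (e : Elt) : List ℕ := (List.range 256).map fun v => Nat.xor (ap e.2 v) v

/-- Every fixed vector is a commutator. -/
def fixInCom (e : Elt) : Bool := (List.range 256).all fun v => !(fixV e v) || memN (comL e) v

/-- A nonsingular commutator exists. -/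
def comNonsing (e : Elt) : Bool := (List.range 256).any fun v => qv (Nat.xor (ap e.2 v) v)

/-- Not the unit, a transvection or a conjugate of the first involution. -/
def good (e : Elt) : Bool := !(Nat.beq (key e) (key eId)) && !(isBad (key e))

/-- The same code. -/
def sameK (a b : Elt) : Bool := Nat.beq (key a) (key b)

/-- An extension stays in the set and is commutative. -/
def extOK (G : List Elt) (x : Elt) (cands : List Elt) : Bool :=
  G.all fun g => cands.any (sameK (eMul x g)) && sameK (eMul x g) (eMul g x)

/-- One level of the search. -/
def gstep (self : List Elt → List Elt → Bool) (G : List Elt) : List Elt → Bool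
  | [] => true
  | x :: rest => (!(extOK G x (x :: rest)) || self (G ++ G.map (eMul x)) rest) && gstep self G rest

/-- A search through the elementary subgroups of a set. -/
def gsearch : ℕ → ℕ → List Elt → List Elt → Bool
  | 0, _, _, _ => false
  | f + 1, n, G, cands => Nat.blt G.length n && gstep (gsearch f n) G cands

/-- The parity of the common bits. -/
def parM : ℕ → ℕ → ℕ → Bool
  | 0, _, _ => false
  | n + 1, c, i => (odd c && odd i) ^^ parM n (Nat.div c 2) (Nat.div i 2)

/-- The kernel of the functional given by a mask on a basis. -/
def hOf (fb : List ℕ) (c : ℕ) : List ℕ :=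
  ((List.range 64).filter fun i => !(parM 6 c i)).map (ap fb)

/-- Elements fixing a list. -/
def fixAll (L : List Elt) (H : List ℕ) : List Elt := L.filter fun e => H.all (fixV e)

/-- Elements fixing a vector and moving a list within it. -/
def fixMove (L : List Elt) (i : ℕ) (H : List ℕ) : List Elt :=
  L.filter fun e => fixV e i && H.all fun h => fixV e h || Nat.beq (Nat.xor (ap e.2 h) h) i

/-- The vectors allowed in the meet for a nonzero functional. -/
def candI (H : List ℕ) : List ℕ :=
  H.filter fun i => !(Nat.beq i 0) && !(qv i) && !(memN l0 i) && H.all fun h => !(Bv i h)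

/-- The case check for the first involution. -/
def lamOK (c : ℕ) : Bool :=
  let H := hOf fbase c
  !(l0.all (memN H)) ||
    bif Nat.beq c 0 then Nat.blt (fixAll sylE H).length 16
    else
      Nat.ble (fixAll sylE H).length 4 &&
        (candI H).all fun i =>
          ((candI H).all fun j => !(memN (candI H) (Nat.xor i j))) && Nat.ble (fixMove sylE i H).length 8

/-- Admissible images beside the second involution for a given meet. -/
def adm (Ib : List ℕ) : List Elt :=
  sylI.filter fun e => sameK (eMul e (eW y1W)) (eMul (eW y1W) e) &&
    (Ib.all (fixV e) && W0.all fun h => memN Ib (Nat.xor (ap e.2 h) h)) &&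
    (sameK e eId || sameK e (eW y1W) ||
      bif Nat.blt Ib.length 4 then good e || good (eMul e (eW y1W)) else good e)

/-- A member of a preimage of a commutator. -/
def preOf (e : Elt) (v : ℕ) : ℕ :=
  ((List.range 256).find? fun u => Nat.beq (Nat.xor (ap e.2 u) u) v).getD 0

/-- The pairing on commutators. -/
def beta1 (u v : ℕ) : Bool := Bv (preOf (eW y1W) u) v

/-- The possible meets beside the second involution. -/
def meets : List (List ℕ) :=
  [0] :: ((W0.filter fun a => !(Nat.beq a 0)).flatMap fun a =>
    [0, a] :: ((W0.filter fun b => !(Nat.beq b 0) && beta1 a b).map fun b => [0, a, b, Nat.xor a b]))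

/-- The check for the second involution. -/
def meetOK (Ib : List ℕ) : Bool :=
  gsearch 7 (32 / Ib.length) [eId, eW y1W]
    ((adm Ib).filter fun e => !(sameK e eId) && !(sameK e (eW y1W)))

/-- The vectors orthogonal to `c0`. -/
def perp0 : List ℕ := (List.range 256).filter fun v => !(Bv v c0)

/-- The elements moving `perp0` into `W5`. -/
def moveW5 : List Elt := sylE.filter fun e => perp0.all fun v => memN W5 (Nat.xor (ap e.2 v) v)

/-- Adding new nontrivial elements. -/
def addNew : List Elt → List Elt → List Elt
  | L, [] => L
  | L, x :: xs => bif sameK x eId || L.any (sameK x) then addNew L xs else addNew (L ++ [x]) xs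

/-- Closing under conjugation and products, up to eight elements. -/
def grow : ℕ → List Elt → Bool
  | 0, L => Nat.ble 8 L.length
  | n + 1, L => Nat.ble 8 L.length ||
      grow n (addNew L ((L.flatMap fun x => stabW.map fun w => eConj w x) ++ L.map (eMul (L.getD 0 eId))))

/-- Reaching the orbit of a vector. -/
def reachV : ℕ → List ℕ → List ℕ
  | 0, L => L
  | n + 1, L => reachV n ((List.range 7).foldl (fun acc k =>
      L.foldl (fun acc v => bif memN acc (ap (eGen k).2 v) then acc else ap (eGen k).2 v :: acc) acc) L)

/-- Closing a subspace under the stabiliser. -/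
def spanW : ℕ → List ℕ → List ℕ
  | 0, sp => sp
  | n + 1, sp => spanW n (stabW.foldl (fun acc w =>
      sp.foldl (fun acc v => bif memN acc (ap (eW w).2 v) then acc else xext acc (ap (eW w).2 v)) acc) sp)

/-- The orbit of a vector under the word of order seven. -/
def pow7 (u : ℕ) : ℕ → List ℕ
  | 0 => []
  | n + 1 => u :: pow7 (ap (eW w7).1 u) n

/-- The map commuting with the word of order seven with a given value. -/
def com7 (u : ℕ) : List ℕ := um.map fun m => ap (pow7 u 6) m

end Cfsg.Agent.Co2Recog
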