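import Cfsg.Agent.Lib.Co2Recog.NA.Basic
import Cfsg.Agent.Lib.Co2Recog.TwoDefs

/-!
Elements of the centraliser of `t` and their words: lifts, the action on coordinates, orders.
-/

set_option autoImplicit false
set_option maxRecDepth 100000

namespace Cfsg.Agent.Co2Recog.Two

open Equiv
open Cfsg.Agent.ThRec.Eight (ap ap_xor ap_zero)

variable {G : Type*} [Group G] {t : G} {Q : Subgroup G}

theorem mem_C {x : G} : x ∈ Subgroup.centralizer ({t} : Set G) ↔ x * t = t * x :=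
  Subgroup.mem_centralizer_singleton_iff

theorem exists_perm_lift (K : Coords t Q) {p : Perm (Fin 63)} (hp : p ∈ Sp63) :
    ∃ x : ↥(Subgroup.centralizer ({t} : Set G)), K.π x = p :=
  MonoidHom.mem_range.1 (by rw [K.range]; exact hp)

theorem exists_lift (K : Coords t Q) (w : List ℕ) :
    ∃ x : ↥(Subgroup.centralizer ({t} : Set G)), K.π x = permW w :=
  exists_perm_lift K (permW_mem w)

theorem pi_mem (K : Coords t Q) (x : ↥(Subgroup.centralizer ({t} : Set G))) : K.π x ∈ Sp63 := by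
  rw [← K.range]; exact ⟨x, rfl⟩

theorem exists_wd (K : Coords t Q) (x : ↥(Subgroup.centralizer ({t} : Set G))) : ∃ w, permW w = K.π x :=
  exists_word (pi_mem K x)

/-- Conjugation in coordinates. -/
theorem c_conj (K : Coords t Q) {x : G} (hx : x ∈ Subgroup.centralizer ({t} : Set G)) {w : List ℕ}
    (hw : permW w = K.π ⟨x, hx⟩) {q : G} (hq : q ∈ Q) : K.c (x * q * x⁻¹) = ap (eW w).2 (K.c q) :=
  (K.act ⟨x, hx⟩ w hw q hq).trans (act_eW w (K.c_lt q hq)).symm

/-- The image of a conjugate in the centraliser. -/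
theorem pi_conj (K : Coords t Q) {x y : G} (hx : x ∈ Subgroup.centralizer ({t} : Set G))
    (hy : y ∈ Subgroup.centralizer ({t} : Set G)) (h : x * y * x⁻¹ ∈ Subgroup.centralizer ({t} : Set G)) :
    K.π ⟨x * y * x⁻¹, h⟩ = K.π ⟨x, hx⟩ * K.π ⟨y, hy⟩ * (K.π ⟨x, hx⟩)⁻¹ := by
  rw [← map_mul, ← map_inv, ← map_mul]
  exact congrArg K.π (Subtype.ext rfl)

theorem pi_mul (K : Coords t Q) {x y : G} (hx : x ∈ Subgroup.centralizer ({t} : Set G))
    (hy : y ∈ Subgroup.centralizer ({t} : Set G)) (h : x * y ∈ Subgroup.centralizer ({t} : Set G)) :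
    K.π ⟨x * y, h⟩ = K.π ⟨x, hx⟩ * K.π ⟨y, hy⟩ := by
  rw [← map_mul]
  exact congrArg K.π (Subtype.ext rfl)

/-- Conjugation by an element of the centraliser keeps `Q`. -/
theorem conj_mem_iff (S : Setup t Q) {x q : G} (hx : x ∈ Subgroup.centralizer ({t} : Set G)) :
    x * q * x⁻¹ ∈ Q ↔ q ∈ Q := by
  refine ⟨fun h => ?_, S.norm x hx q⟩
  have := S.norm x⁻¹ (Subgroup.inv_mem _ hx) _ h
  rwa [show x⁻¹ * (x * q * x⁻¹) * x⁻¹⁻¹ = q by group] at this

theorem finite_Q (S : Setup t Q) : Finite ↥Q := Nat.finite_of_card_ne_zero (by rw [S.card]; norm_num)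

/-- The order of the centraliser. -/
theorem card_C (S : Setup t Q) (K : Coords t Q) :
    Nat.card ↥(Subgroup.centralizer ({t} : Set G)) = 512 * 1451520 := by
  have hk : K.π.ker = Q.subgroupOf (Subgroup.centralizer ({t} : Set G)) := by
    ext x
    rw [MonoidHom.mem_ker, K.ker, Subgroup.mem_subgroupOf]
  rw [← K.π.ker.card_mul_index, Subgroup.index_ker, K.range, card_Sp63, hk,
    Nat.card_congr (Subgroup.subgroupOfEquivOfLe S.le).toEquiv, S.card]

theorem finite_C (S : Setup t Q) (K : Coords t Q) : Finite ↥(Subgroup.centralizer ({t} : Set G)) :=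
  Nat.finite_of_card_ne_zero (by rw [card_C S K]; norm_num)

theorem Bv_comm (u v : ℕ) : Bv u v = Bv v u := by
  have e : Nat.xor u v = Nat.xor v u := Nat.xor_comm u v
  unfold Bv
  rw [e]
  cases qv (Nat.xor v u) <;> cases qv u <;> cases qv v <;> rfl

theorem memN_iff {l : List ℕ} {n : ℕ} : memN l n = true ↔ n ∈ l := by
  rw [memN, List.any_eq_true]
  exact ⟨fun ⟨x, hx, e⟩ => (Nat.eq_of_beq_eq_true e).symm ▸ hx, fun h => ⟨n, h, Nat.beq_refl n⟩⟩

theorem sameK_iff {u w : List ℕ} : sameK (eW u) (eW w) = true ↔ permW u = permW w := by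
  rw [permW_eq_iff, sameK]
  exact ⟨fun h => Nat.eq_of_beq_eq_true h, fun h => by rw [h]; exact Nat.beq_refl _⟩

theorem sameK_id {u : List ℕ} : sameK (eW u) eId = true ↔ permW u = 1 := sameK_iff (w := [])

theorem eConj_eW (w v : List ℕ) : eConj w (eW v) = eW (w ++ v ++ w.reverse) := by
  rw [eConj, eW_append, eW_append]

theorem permW_conj (w v : List ℕ) : permW (w ++ v ++ w.reverse) = permW w * permW v * (permW w)⁻¹ := by
  rw [permW_append, permW_append, permW_reverse]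

/-- The listed elements as words. -/
theorem mem_sylE {e : Elt} (h : e ∈ sylE) : ∃ w ∈ sylW, eW w = e ∧ permW w ∈ Syl := by
  rw [sylE_eq] at h
  obtain ⟨w, hw, rfl⟩ := List.mem_map.1 h
  exact ⟨w, hw, rfl, w, hw, rfl⟩

theorem isInv_iff {w : List ℕ} : isInv (eW w) = true ↔ permW w * permW w = 1 := by
  rw [← permW_append, ← sameK_id, eW_append]
  rfl

theorem mem_sylI {w : List ℕ} (hw : w ∈ sylW) (h2 : permW w * permW w = 1) : eW w ∈ sylI :=
  List.mem_filter.2 ⟨sylE_eq ▸ List.mem_map_of_mem hw, isInv_iff.2 h2⟩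

theorem syl_act {p : Perm (Fin 63)} (hp : p ∈ Syl) : ∃ w ∈ sylW, permW w = p ∧ eW w ∈ sylE := by
  obtain ⟨w, hw, rfl⟩ := hp
  exact ⟨w, hw, rfl, sylE_eq ▸ List.mem_map_of_mem hw⟩

end Cfsg.Agent.Co2Recog.Two
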