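import Cfsg.Agent.Lib.Co2Recog.TwoDefs

/-!
Table checks: the elements fixing the maximal singular subspace.
-/

set_option autoImplicit false
set_option maxRecDepth 100000

namespace Cfsg.Agent.Co2Recog

open Cfsg.Agent.ThRec.Eight (ap)

/-- The listed elements fixing the maximal singular subspace. -/
def fixW0 : List Elt := sylE.filter fun e => W0.all (fixV e)

/-- The words normalising the subspace and its fixer. -/
def nW : List (List ℕ) := (u315 ++ u945) ++ (u315 ++ u945).map List.reverse

/-- Generators of the fixer. -/
def fixGens : List (List ℕ) := y0W :: disj.map fun w => w ++ y0W ++ w.reverse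

/-- The fixer by classes. -/
def fixClasses : List (List ℕ) :=
  [] :: tauW :: (u315.map fun w => w ++ y0W ++ w.reverse) ++ u945.map fun w => w ++ y1W ++ w.reverse

theorem fix_gen_ok : (fixW0.all fun e => (double fixGens [[]]).any fun u => sameK e (eW u)) = true ∧
    ((double fixGens [[]]).map fun u => key (eW u)).Nodup ∧ (double fixGens [[]]).length = 32 := by
  decide +kernel

theorem nW_ok : (nW.all fun w => (W0.all fun v => memN W0 (ap (eW w).2 v)) &&
    fixW0.all fun e => inSyl (key (eConj w e))) = true := by decide +kernel

theorem disj_ok : (disj.all fun w => (u315.any fun u => u == w) &&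
    sameK (eMul (eConj w (eW y0W)) (eW y0W)) (eMul (eW y0W) (eConj w (eW y0W))) &&
      l0.all fun v => Nat.beq v 0 || !(memN l0 (ap (eW w).2 v))) = true := by decide +kernel

theorem classes_ok : (fixW0.all fun e => fixClasses.any fun u => sameK e (eW u)) = true ∧
    (fixClasses.map fun u => key (eW u)).Nodup ∧ u315.length = 15 ∧ u945.length = 15 := by decide +kernel

theorem y_syl : inSyl (key (eW y0W)) = true ∧ inSyl (key (eW y1W)) = true ∧
    sameK (eW y0W) eId = false := by decide +kernel

theorem tau_root : (bad63.any fun p => sameK (eConj p.2 (eW [0])) (eW tauW)) = true := by decide +kernel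

theorem fb_lt : ((List.range 64).all fun i => Nat.blt (ap fbase i) 256) = true ∧ l0.length = 4 ∧ l0.Nodup := by
  decide +kernel

theorem y_inv : sameK (eW y0W.reverse) (eW y0W) = true ∧ sameK (eW y1W.reverse) (eW y1W) = true := by
  decide +kernel

theorem xor_closed : ((l0.all fun u => l0.all fun v => memN l0 (Nat.xor u v))) = true ∧
    ((W0.all fun u => W0.all fun v => memN W0 (Nat.xor u v))) = true := by decide +kernel

end Cfsg.Agent.Co2Recog
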