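import Cfsg.Agent.Lib.Co2Recog.TwoDefs

/-!
Table checks: the kinds of involutions.
-/

set_option autoImplicit false
set_option maxRecDepth 100000

namespace Cfsg.Agent.Co2Recog

open Cfsg.Agent.ThRec.Eight (ap)

theorem bad63_ok : (bad63.all fun p => Nat.beq (key (eConj p.2 (eGen 0))) p.1) = true := by decide +kernel

theorem bad315_ok : (bad315.all fun p => Nat.beq (key (eConj p.2 (eW y0W))) p.1) = true := by decide +kernel

theorem k945_ok : (k945.all fun p => Nat.beq (key (eConj p.2 (eW y1W))) p.1) = true := by decide +kernel

theorem kind_ok : (sylI.all fun e => Nat.beq (key e) (key eId) || isBad (key e) || is945 (key e) ||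
    (fixInCom e && comNonsing e)) = true := by decide +kernel

theorem y_central : (sylGens.all fun g =>
    sameK (eMul (eW g) (eW y0W)) (eMul (eW y0W) (eW g)) &&
      sameK (eMul (eW g) (eW y1W)) (eMul (eW y1W) (eW g))) = true := by decide +kernel

theorem y1_com : ((List.range 256).all fun v => memN W0 (Nat.xor (ap (eW y1W).2 v) v) &&
    (!(fixV (eW y1W) v) || memN W0 v)) = true ∧ (W0.all (memN (comL (eW y1W)))) = true ∧
      (W0.all (fixV (eW y1W))) = true := by decide +kernel

theorem y0_com : ((List.range 256).all fun v => memN l0 (Nat.xor (ap (eW y0W).2 v) v) &&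
    (!(fixV (eW y0W) v) || (List.range 64).any fun i => Nat.beq (ap fbase i) v)) = true ∧
      (l0.all (memN (comL (eW y0W)))) = true ∧ (fbase.all (fixV (eW y0W))) = true ∧
        (W0.all (fixV (eW y0W))) = true ∧ (l0.all fun v => memN W0 v && !(qv v)) = true := by decide +kernel

theorem pairs_free : gsearch 7 16 [eId] (sylI.filter good) = true := by decide +kernel

end Cfsg.Agent.Co2Recog
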