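import Cfsg.Agent.Lib.Co2Recog.TwoDefs

/-!
Table checks: the functionals beside the first involution.
-/

set_option autoImplicit false
set_option maxRecDepth 100000

namespace Cfsg.Agent.Co2Recog

open Cfsg.Agent.ThRec.Eight (ap)

theorem lam_ok : ((List.range 64).all lamOK) = true := by decide +kernel

end Cfsg.Agent.Co2Recog
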