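import Cfsg.Agent.Lib.Co2Recog.TwoDefs

/-!
Table checks: the case of no fusion.
-/

set_option autoImplicit false
set_option maxRecDepth 100000

namespace Cfsg.Agent.Co2Recog

open Cfsg.Agent.ThRec.Eight (ap)

theorem grow_ok : (moveW5.all fun h => W5.all (fixV h) || grow 6 [h]) = true := by decide +kernel

theorem move_small : Nat.ble
    (sylE.filter fun e => perp0.all fun v => memN [0, c0] (Nat.xor (ap e.2 v) v)).length 8 = true := by
  decide +kernel

theorem w7_ok : Nat.beq (ap (eW w7).2 c0) c0 = true ∧
    key (eW (w7 ++ w7 ++ w7 ++ w7 ++ w7 ++ w7 ++ w7)) = key eId ∧ key (eW w7) ≠ key eId := by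
  decide +kernel

theorem um_ok : com7 v7 = id6 := by decide +kernel

theorem com7_ok : ((List.range 64).all fun u =>
    !(Nat.beq (key6 (ThRec.Eight.mulM (com7 u) (com7 u))) (key6 id6)) ||
      Nat.beq (key6 (com7 u)) (key6 id6)) = true := by decide +kernel

end Cfsg.Agent.Co2Recog
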