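import Cfsg.Agent.Lib.Co2Recog.TwoDefs

/-!
Table checks: fixed vectors of the involutions and the standard involutions in the Sylow subgroup.
-/

set_option autoImplicit false
set_option maxRecDepth 100000

namespace Cfsg.Agent.Co2Recog

theorem fix_count : (sylI.all fun e => Nat.ble 16 ((List.range 256).filter (fixV e)).length) = true := by
  decide +kernel

theorem y_inSyl : inSyl (key (eW y0W)) = true ∧ inSyl (key (eW y1W)) = true := by decide +kernel

theorem y_sq : Nat.beq (key (eMul (eW y0W) (eW y0W))) (key eId) = true ∧
    Nat.beq (key (eMul (eW y1W) (eW y1W))) (key eId) = true := by decide +kernel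

end Cfsg.Agent.Co2Recog
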