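import Cfsg.Agent.Lib.Co2Recog.TwoDefs

/-!
Table checks: the spin module.
-/

set_option autoImplicit false
set_option maxRecDepth 100000

namespace Cfsg.Agent.Co2Recog

open Cfsg.Agent.ThRec.Eight (ap)

theorem deep_c0 : deep 4 [0, c0] 0 = true := by decide +kernel

theorem reach_c0 : (sing.all (memN (reachV 12 [c0]))) = true := by decide +kernel

theorem perp_wit : ((List.range 256).all fun v =>
    Nat.beq v 0 || Nat.beq v c0 || qv v || Bv v c0 || memN W5 v ||
      perpW.any fun w => Bv v (ap (eW w).2 v)) = true := by decide +kernel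

theorem span_W5 : (W5.all fun v =>
    Nat.beq v 0 || Nat.beq v c0 || W5.all (memN (spanW 5 [0, c0, v, Nat.xor c0 v]))) = true := by decide +kernel

theorem W5_ok : W5.length = 16 ∧ W5.Nodup ∧ 0 ∈ W5 ∧ c0 ∈ W5 := by decide +kernel

theorem B_nondeg : ((List.range 256).all fun v => Nat.beq v 0 ||
    (List.range 256).any fun u => Bv v u) = true := by decide +kernel

theorem B_sep : ((List.range 256).all fun u => (List.range 256).all fun j =>
    Nat.beq u 0 || Nat.beq j 0 || Nat.beq j u ||
      (List.range 256).any fun v => !(Bv u v) && Bv j v) = true := by decide +kernel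

theorem stab_fix : (stabW.all fun w => Nat.beq (ap (eW w).2 c0) c0) = true ∧
    (perpW.all fun w => Nat.beq (ap (eW w).2 c0) c0) = true := by decide +kernel

theorem syl_fix : (sylGens.all fun w => Nat.beq (ap (eW w).2 c0) c0) = true := by decide +kernel

theorem c0_ok : c0 ≠ 0 ∧ c0 < 256 ∧ qv c0 = false := by decide +kernel

theorem W0_perp : ((List.range 256).all fun v => memN W0 v == W0.all fun w => !(Bv v w)) = true := by
  decide +kernel

theorem W0_ok : W0.length = 16 ∧ W0.Nodup ∧ (W0.all fun w => !(qv w) && Nat.blt w 256) = true := by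
  decide +kernel

theorem l0_perp : ((List.range 256).all fun v => memN l0 v ==
    ((List.range 64).all fun i => !(Bv v (ap fbase i)))) = true := by decide +kernel

end Cfsg.Agent.Co2Recog
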