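import Cfsg.Agent.Lib.Co2Recog.TwoDefs

/-!
Table checks: the elementary subgroups fixing singular subspaces.
-/

set_option autoImplicit false
set_option maxRecDepth 100000

namespace Cfsg.Agent.Co2Recog

open Cfsg.Agent.ThRec.Eight (ap)

theorem uok_root : uok 5 [0] 0 sylI = true := by decide +kernel

theorem sylI_length : Nat.ble sylI.length 144 = true := by decide +kernel

theorem kids_W0 : ((sing.all fun v => memN W0 v || W0.any fun w => Bv v w)) = true := by decide +kernel

end Cfsg.Agent.Co2Recog
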