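import Cfsg.Agent.Lib.Co2Recog.ModuleData
import Cfsg.Agent.Lib.ThRec.ModuleLin
import Cfsg.Agent.Lib.SchurMult.Sp62Hom
import Cfsg.Prelude.Def_Transfer

/-!
The setting of the recognition of the second Conway group: an involution whose centraliser is an extension of
an extraspecial group of order 512 by the symplectic group in six dimensions over the field of two elements,
and coordinates in which it acts as on the spin module.
-/

set_option autoImplicit false
set_option maxRecDepth 100000

namespace Cfsg.Agent.Co2Recog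

open Equiv
open Cfsg.Agent.ThRec.Eight (act ap)

/-- The alternating form on six-bit vectors. -/
def bil6 (x v : ℕ) : Bool :=
  ((((x.testBit 0 && v.testBit 3) ^^ (x.testBit 1 && v.testBit 4)) ^^ (x.testBit 2 && v.testBit 5)) ^^
    (x.testBit 3 && v.testBit 0)) ^^ ((x.testBit 4 && v.testBit 1) ^^ (x.testBit 5 && v.testBit 2))

/-- A transvection on the numbered nonzero vectors. -/
def tvStep (v : ℕ) (i : Fin 63) : Fin 63 :=
  Fin.ofNat 63 ((cond (bil6 (i.val + 1) v) (Nat.xor (i.val + 1) v) (i.val + 1)) - 1)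

/-- The centre of a letter. -/
def tvC (k : ℕ) : ℕ := tvec.getD (k % 7) 0

theorem tvStep_invol : ∀ (k : Fin 7) (i : Fin 63),
    tvStep (tvC k) (tvStep (tvC k) i) = i := by decide +kernel

/-- A letter as a permutation of the 63 nonzero vectors. -/
def tv (k : ℕ) : Perm (Fin 63) :=
  Function.Involutive.toPerm (tvStep (tvC k)) (by
    intro i
    have h := tvStep_invol ⟨k % 7, Nat.mod_lt _ (by norm_num)⟩ i
    simpa only [tvC, Nat.mod_mod] using h)

/-- A word in the seven transvections as a permutation. -/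
def permW : List ℕ → Perm (Fin 63)
  | [] => 1
  | k :: w => tv k * permW w

/-- The squaring form on the spin module. -/
def qv (v : ℕ) : Bool := qS.testBit v

/-- Its polar form. -/
def Bv (u v : ℕ) : Bool := (qv (Nat.xor u v) ^^ qv u) ^^ qv v

/-- The group on 63 points. -/
abbrev Sp63 : Subgroup (Perm (Fin 63)) := PermCert.genGroup 6 63 SchurMult.sp62Gens

variable {G : Type*} [Group G]

/-- A power of an element given by a bit. -/
def tw (t : G) (e : Bool) : G := cond e t 1

/-- **The hypotheses**: `Q` is normal extraspecial of order 512 in the centraliser of `t`, contains its own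
centraliser there, and the quotient is the symplectic group on the 63 nonzero vectors. -/
structure Setup (t : G) (Q : Subgroup G) : Prop where
  ht : orderOf t = 2
  le : Q ≤ Subgroup.centralizer {t}
  norm : ∀ x ∈ Subgroup.centralizer ({t} : Set G), ∀ q ∈ Q, x * q * x⁻¹ ∈ Q
  extra : Cfsg.IsExtraspecial 2 Q
  card : Nat.card Q = 512
  self : ∀ x ∈ Subgroup.centralizer ({t} : Set G), (∀ q ∈ Q, x * q = q * x) → x ∈ Q
  quot : ∃ f : ↥(Subgroup.centralizer ({t} : Set G)) →* Perm (Fin 63),
    f.range = Sp63 ∧ f.ker = Q.subgroupOf (Subgroup.centralizer {t})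
  moved : ∃ g : G, g * t * g⁻¹ ∈ Subgroup.centralizer {t} ∧ g * t * g⁻¹ ≠ t

/-- `t` is conjugate to another element of `Q`. -/
def Fused (t : G) (Q : Subgroup G) : Prop := ∃ g : G, g * t * g⁻¹ ∈ Q ∧ g * t * g⁻¹ ≠ t

/-- Spin coordinates on `Q` modulo `t`. -/
structure Coords (t : G) (Q : Subgroup G) where
  /-- The action on the 63 vectors. -/
  π : ↥(Subgroup.centralizer ({t} : Set G)) →* Perm (Fin 63)
  range : π.range = Sp63
  ker : ∀ x : ↥(Subgroup.centralizer ({t} : Set G)), π x = 1 ↔ (x : G) ∈ Q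
  /-- The coordinates. -/
  c : G → ℕ
  c_lt : ∀ q ∈ Q, c q < 256
  c_mul : ∀ q ∈ Q, ∀ r ∈ Q, c (q * r) = c q ^^^ c r
  c_ker : ∀ q ∈ Q, c q = 0 ↔ q = 1 ∨ q = t
  c_surj : ∀ v < 256, ∃ q ∈ Q, c q = v
  sq : ∀ q ∈ Q, q * q = tw t (qv (c q))
  act : ∀ (x : ↥(Subgroup.centralizer ({t} : Set G))) (w : List ℕ), permW w = π x →
    ∀ q ∈ Q, c ((x : G) * q * (x : G)⁻¹) = act sX w (c q)

/-- The conjugates of `t` in its centraliser outside `Q` include one acting as a transvection. -/
def RootConj (t : G) (Q : Subgroup G) (K : Coords t Q) : Prop :=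
  ∃ g : G, ∃ h : g * t * g⁻¹ ∈ Subgroup.centralizer {t}, ∃ k : ℕ,
    ∃ p ∈ Sp63, K.π ⟨g * t * g⁻¹, h⟩ = p * tv k * p⁻¹

end Cfsg.Agent.Co2Recog
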