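import Cfsg.Agent.Lib.Co2Recog.Base
import Cfsg.Agent.Lib.Co2Recog.ChecksKinds

/-!
A conjugate `b = g t g⁻¹ ≠ t` in the centraliser of `t` when `t` is not fused: the centraliser `Y` of `b` in `Q`, the
centraliser `Z` of `t` in the other extraspecial group, and their meet `I`.
-/

set_option autoImplicit false
set_option maxRecDepth 100000

namespace Cfsg.Agent.Co2Recog.Two

open Equiv
open Cfsg.Agent.ThRec.Eight (ap ap_xor ap_zero)
open NA (eq_of_xor lt8)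

variable {G : Type*} [Group G] {t : G} {Q : Subgroup G}

/-- A conjugate of `t`. -/
def IsK (t x : G) : Prop := ∃ h : G, h * t * h⁻¹ = x

theorem IsK.sq (S : Setup t Q) {x : G} (h : IsK t x) : x * x = 1 := by
  obtain ⟨u, rfl⟩ := h
  rw [show u * t * u⁻¹ * (u * t * u⁻¹) = u * (t * t) * u⁻¹ by group, NA.Setup.na_sq S]
  group

theorem IsK.conj {x : G} (h : IsK t x) (y : G) : IsK t (y * x * y⁻¹) := by
  obtain ⟨u, rfl⟩ := h
  exact ⟨y * u, by group⟩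

theorem isK_self : IsK t t := ⟨1, by group⟩

theorem nf_eq (nf : ¬ Fused t Q) {x : G} (h : IsK t x) (hx : x ∈ Q) : x = t := by
  obtain ⟨u, rfl⟩ := h
  by_contra hne
  exact nf ⟨u, hx, hne⟩

theorem mul_t_conj (S : Setup t Q) {h : G} (hh : h * t = t * h) (x : G) : h * (x * t) * h⁻¹ = h * x * h⁻¹ * t := by
  calc h * (x * t) * h⁻¹ = h * x * h⁻¹ * (h * t * h⁻¹) := by group
    _ = _ := by rw [hh, mul_inv_cancel_right]

/-- A conjugate in the centraliser other than `t`. -/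
structure Pr (K : Coords t Q) (g : G) : Prop where
  S : Setup t Q
  nf : ¬ Fused t Q
  mem : g * t * g⁻¹ ∈ Subgroup.centralizer ({t} : Set G)
  ne : g * t * g⁻¹ ≠ t

/-- The centraliser of the conjugate in `Q`. -/
def YY (t : G) (Q : Subgroup G) (g : G) : Subgroup G := Q ⊓ Subgroup.centralizer {g * t * g⁻¹}

/-- The other extraspecial group. -/
def RR (Q : Subgroup G) (g : G) : Subgroup G := Q.comap (MulAut.conj g⁻¹).toMonoidHom

/-- The centraliser of `t` there. -/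
def ZZ (t : G) (Q : Subgroup G) (g : G) : Subgroup G := RR Q g ⊓ Subgroup.centralizer {t}

/-- The meet. -/
def II (Q : Subgroup G) (g : G) : Subgroup G := Q ⊓ RR Q g

theorem mem_RR {g x : G} : x ∈ RR Q g ↔ g⁻¹ * x * g ∈ Q := by
  show g⁻¹ * x * g⁻¹⁻¹ ∈ Q ↔ _
  rw [inv_inv]

theorem mem_YY {g q : G} : q ∈ YY t Q g ↔ q ∈ Q ∧ q * (g * t * g⁻¹) = g * t * g⁻¹ * q :=
  Iff.trans Subgroup.mem_inf (and_congr_right' Subgroup.mem_centralizer_singleton_iff)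

theorem mem_ZZ {g x : G} : x ∈ ZZ t Q g ↔ g⁻¹ * x * g ∈ Q ∧ x * t = t * x :=
  Iff.trans Subgroup.mem_inf (and_congr mem_RR Subgroup.mem_centralizer_singleton_iff)

theorem mem_II {g x : G} : x ∈ II Q g ↔ x ∈ Q ∧ g⁻¹ * x * g ∈ Q :=
  Iff.trans Subgroup.mem_inf (and_congr_right' mem_RR)

/-- The centraliser of `t` in the other group is the conjugate of the partner's `Y`. -/
theorem ZZ_iff_YY {g x : G} : x ∈ ZZ t Q g ↔ g⁻¹ * x * g ∈ YY t Q g⁻¹ := by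
  rw [mem_ZZ, mem_YY, inv_inv]
  refine and_congr_right' ⟨fun h => ?_, fun h => ?_⟩
  · calc g⁻¹ * x * g * (g⁻¹ * t * g) = g⁻¹ * (x * t) * g := by group
      _ = _ := by rw [h]; group
  · calc x * t = g * (g⁻¹ * x * g * (g⁻¹ * t * g)) * g⁻¹ := by group
      _ = _ := by rw [h]; group

theorem card_ZZ (g : G) : Nat.card ↥(ZZ t Q g) = Nat.card ↥(YY t Q g⁻¹) :=
  Nat.card_congr
    { toFun := fun x => ⟨g⁻¹ * x.1 * g, ZZ_iff_YY.1 x.2⟩
      invFun := fun y => ⟨g * y.1 * g⁻¹, ZZ_iff_YY.2 (by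
        rw [show g⁻¹ * (g * y.1 * g⁻¹) * g = y.1 by group]; exact y.2)⟩
      left_inv := fun x => Subtype.ext (by simp [mul_assoc])
      right_inv := fun y => Subtype.ext (by simp [mul_assoc]) }

/-- The elements of `Q` with coordinates in a list. -/
theorem card_pre (S : Setup t Q) (K : Coords t Q) (l : List ℕ) (hn : l.Nodup) (hl : ∀ v ∈ l, v < 256) :
    Nat.card {q : G // q ∈ Q ∧ K.c q ∈ l} = 2 * l.length := by
  classical
  have hs : ∀ v : ↥l.toFinset, ∃ q ∈ Q, K.c q = v.1 := fun v => K.c_surj _ (hl _ (List.mem_toFinset.1 v.2))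
  choose s hs1 hs2 using hs
  have hc : ∀ (v : ↥l.toFinset) (e : Bool), K.c (s v * tw t e) = v.1 := fun v e => by
    rw [K.c_mul _ (hs1 v) _ (NA.Setup.tw_mem S e), hs2, NA.Coord.c_tw S K, Nat.xor_zero]
  let f : ↥l.toFinset × Bool → {q : G // q ∈ Q ∧ K.c q ∈ l} := fun p =>
    ⟨s p.1 * tw t p.2, Q.mul_mem (hs1 p.1) (NA.Setup.tw_mem S p.2), by
      rw [hc]; exact List.mem_toFinset.1 p.1.2⟩
  have hf : Function.Bijective f := by
    refine ⟨?_, ?_⟩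
    · rintro ⟨v, e⟩ ⟨v', e'⟩ h
      have h' := congrArg Subtype.val h
      obtain rfl : v = v' := Subtype.ext (by rw [← hc v e, ← hc v' e']; exact congrArg K.c h')
      exact Prod.ext rfl (NA.Setup.tw_inj S (mul_left_cancel h'))
    · rintro ⟨q, hq, hv⟩
      let v : ↥l.toFinset := ⟨K.c q, List.mem_toFinset.2 hv⟩
      obtain ⟨e, he⟩ := NA.Coord.eq_of_c S K hq (hs1 v) (hs2 v).symm
      exact ⟨(v, e), Subtype.ext he.symm⟩
  rw [← Nat.card_eq_of_bijective f hf, Nat.card_prod, Nat.card_eq_finsetCard,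
    List.toFinset_card_of_nodup hn, Nat.card_eq_fintype_card, Fintype.card_bool, mul_comm]

variable {K : Coords t Q} {g : G}

/-- The commutator with the conjugate. -/
def mm (t g q : G) : G := g * t * g⁻¹ * q * (g * t * g⁻¹)⁻¹ * q⁻¹

namespace Pr

variable (P : Pr K g)
include P

theorem bt : g * t * g⁻¹ * t = t * (g * t * g⁻¹) := mem_C.1 P.mem

theorem b_isK : IsK t (g * t * g⁻¹) := ⟨g, rfl⟩

theorem b_sq : g * t * g⁻¹ * (g * t * g⁻¹) = 1 := P.b_isK.sq P.S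

theorem b_inv : (g * t * g⁻¹)⁻¹ = g * t * g⁻¹ := inv_eq_of_mul_eq_one_right P.b_sq

theorem b_not_mem : g * t * g⁻¹ ∉ Q := fun h => P.ne (nf_eq P.nf P.b_isK h)

theorem t_not_RR : t ∉ RR Q g := fun h => P.ne (by
  have e := nf_eq P.nf (IsK.conj (isK_self (t := t)) g⁻¹)
    (show g⁻¹ * t * g⁻¹⁻¹ ∈ Q by rw [inv_inv]; exact mem_RR.1 h)
  calc g * t * g⁻¹ = g * (g⁻¹ * t * g⁻¹⁻¹) * g⁻¹ := by rw [e]
    _ = t := by group)

theorem partner : Pr K g⁻¹ where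
  S := P.S
  nf := P.nf
  mem := mem_C.2 (by
    have h := P.bt
    rw [inv_inv]
    calc g⁻¹ * t * g * t = g⁻¹ * (t * (g * t * g⁻¹)) * g := by group
      _ = g⁻¹ * (g * t * g⁻¹ * t) * g := by rw [h]
      _ = _ := by group)
  ne := fun h => P.ne (by
    calc g * t * g⁻¹ = g * (g⁻¹ * t * g⁻¹⁻¹) * g⁻¹ := by rw [h]
      _ = t := by group)

theorem move {x : G} (hx : x ∈ Subgroup.centralizer ({t} : Set G)) : Pr K (x * g) where
  S := P.S
  nf := P.nf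
  mem := by
    rw [show x * g * t * (x * g)⁻¹ = x * (g * t * g⁻¹) * x⁻¹ by group]
    exact mul_mem (mul_mem hx P.mem) (inv_mem hx)
  ne := fun h => P.ne (by
    calc g * t * g⁻¹ = x⁻¹ * (x * g * t * (x * g)⁻¹) * x := by group
      _ = x⁻¹ * (t * x) := by rw [h, mul_assoc]
      _ = t := by rw [← mem_C.1 hx]; group)

/-- An element of the other group conjugate to `t` is the conjugate itself. -/
theorem R_nf {x : G} (hx : x ∈ RR Q g) (h : IsK t x) : x = g * t * g⁻¹ := by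
  have := nf_eq P.nf (h.conj g⁻¹) (show g⁻¹ * x * g⁻¹⁻¹ ∈ Q by rw [inv_inv]; exact mem_RR.1 hx)
  calc x = g * (g⁻¹ * x * g⁻¹⁻¹) * g⁻¹ := by group
    _ = _ := by rw [this]

theorem b_RR : g * t * g⁻¹ ∈ RR Q g := mem_RR.2 (by
  rw [show g⁻¹ * (g * t * g⁻¹) * g = t by group]; exact NA.Setup.na_mem P.S)

theorem RR_comm {x : G} (hx : x ∈ RR Q g) : x * (g * t * g⁻¹) = g * t * g⁻¹ * x := by
  have h := NA.Setup.na_comm P.S (mem_RR.1 hx)
  calc x * (g * t * g⁻¹) = g * (g⁻¹ * x * g * t) * g⁻¹ := by group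
    _ = _ := by rw [h]; group

theorem RR_norm {x y : G} (hy : y * (g * t * g⁻¹) = g * t * g⁻¹ * y) (hx : x ∈ RR Q g) :
    y * x * y⁻¹ ∈ RR Q g := by
  have hm : g⁻¹ * y * g ∈ Subgroup.centralizer ({t} : Set G) := mem_C.2 (by
    calc g⁻¹ * y * g * t = g⁻¹ * (y * (g * t * g⁻¹)) * g := by group
      _ = _ := by rw [hy]; group)
  have := P.S.norm _ hm _ (mem_RR.1 hx)
  rw [mem_RR]
  rwa [show g⁻¹ * y * g * (g⁻¹ * x * g) * (g⁻¹ * y * g)⁻¹ = g⁻¹ * (y * x * y⁻¹) * g by group] at this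

theorem II_YY {i : G} (h : i ∈ II Q g) : i ∈ YY t Q g := mem_YY.2 ⟨h.1, P.RR_comm h.2⟩

theorem II_ZZ {i : G} (h : i ∈ II Q g) : i ∈ ZZ t Q g :=
  Subgroup.mem_inf.2 ⟨h.2, mem_C.2 (NA.Setup.na_comm P.S h.1)⟩

theorem II_comm {i y : G} (hi : i ∈ II Q g) (hy : y ∈ YY t Q g) : y * i = i * y := by
  obtain ⟨hyQ, hyb⟩ := mem_YY.1 hy
  have h := NA.Coord.rule P.S K hyQ hi.1
  cases hB : Bv (K.c y) (K.c i) <;> rw [hB] at h
  · rw [NA.tw_false, mul_one] at h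
    exact mul_inv_eq_iff_eq_mul.1 h
  · exfalso
    refine P.t_not_RR ?_
    have := (RR Q g).mul_mem ((RR Q g).inv_mem hi.2) (P.RR_norm hyb hi.2)
    rwa [h, NA.tw_true, inv_mul_cancel_left] at this

theorem II_B {i y : G} (hi : i ∈ II Q g) (hy : y ∈ YY t Q g) : Bv (K.c i) (K.c y) = false :=
  NA.Coord.bil_of P.S K hi.1 (mem_YY.1 hy).1 (P.II_comm hi hy).symm

theorem II_sq {i : G} (hi : i ∈ II Q g) : i * i = 1 := by
  rw [K.sq i hi.1]
  cases hq : qv (K.c i)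
  · rfl
  · exfalso
    refine P.t_not_RR ?_
    have := (RR Q g).mul_mem hi.2 hi.2
    rwa [K.sq i hi.1, hq, NA.tw_true] at this

theorem II_q {i : G} (hi : i ∈ II Q g) : qv (K.c i) = false := by
  have h := P.II_sq hi
  rw [K.sq i hi.1] at h
  exact NA.Setup.tw_inj P.S (h.trans (NA.tw_false t).symm)

theorem II_c {i : G} (hi : i ∈ II Q g) (h : K.c i = 0) : i = 1 :=
  ((K.c_ker i hi.1).1 h).resolve_right fun e => P.t_not_RR (e ▸ hi.2)

theorem II_inj {i j : G} (hi : i ∈ II Q g) (hj : j ∈ II Q g) (h : K.c i = K.c j) : i = j := by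
  have := P.II_c ((II Q g).mul_mem hi ((II Q g).inv_mem hj))
    (by rw [K.c_mul _ hi.1 _ (Q.inv_mem hj.1), NA.Coord.c_inv P.S K hj.1, h, Nat.xor_self])
  exact mul_inv_eq_one.1 this

theorem z_II {z i : G} (hz : z ∈ ZZ t Q g) (hi : i ∈ II Q g) : z * i * z⁻¹ = i := by
  have h := NA.Coord.rule P.S K (mem_ZZ.1 hz).1 (mem_RR.1 hi.2)
  cases hB : Bv (K.c (g⁻¹ * z * g)) (K.c (g⁻¹ * i * g)) <;> rw [hB] at h
  · rw [NA.tw_false, mul_one] at h
    calc z * i * z⁻¹ = g * (g⁻¹ * z * g * (g⁻¹ * i * g) * (g⁻¹ * z * g)⁻¹) * g⁻¹ := by group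
      _ = i := by rw [h]; group
  · exfalso
    refine P.b_not_mem ?_
    rw [NA.tw_true] at h
    have e : g * t * g⁻¹ = i⁻¹ * (z * i * z⁻¹) := by
      calc g * t * g⁻¹ = i⁻¹ * (g * (g⁻¹ * i * g * t) * g⁻¹) := by group
        _ = _ := by rw [← h]; group
    rw [e]
    exact Q.mul_mem (Q.inv_mem hi.1) (P.S.norm z (Subgroup.mem_inf.1 hz).2 i hi.1)

theorem z_move {z y : G} (hz : z ∈ ZZ t Q g) (hy : y ∈ YY t Q g) : z * y * z⁻¹ * y⁻¹ ∈ II Q g := by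
  obtain ⟨hyQ, hyb⟩ := mem_YY.1 hy
  refine Subgroup.mem_inf.2 ⟨Q.mul_mem (P.S.norm z (Subgroup.mem_inf.1 hz).2 y hyQ) (Q.inv_mem hyQ), ?_⟩
  rw [show z * y * z⁻¹ * y⁻¹ = z * (y * z⁻¹ * y⁻¹) by group]
  exact (RR Q g).mul_mem hz.1 (P.RR_norm hyb ((RR Q g).inv_mem hz.1))

theorem b_ZZ : g * t * g⁻¹ ∈ ZZ t Q g := Subgroup.mem_inf.2 ⟨P.b_RR, P.mem⟩

theorem mm_mem {q : G} (hq : q ∈ Q) : mm t g q ∈ Q := Q.mul_mem (P.S.norm _ P.mem q hq) (Q.inv_mem hq)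

theorem b_mm (q : G) : g * t * g⁻¹ * mm t g q = q * (g * t * g⁻¹) * q⁻¹ := by
  unfold mm
  generalize hb : g * t * g⁻¹ = b
  have h2 : b * b = 1 := hb ▸ P.b_sq
  have h3 : b⁻¹ = b := hb ▸ P.b_inv
  rw [h3]
  calc b * (b * q * b * q⁻¹) = b * b * q * b * q⁻¹ := by group
    _ = _ := by rw [h2, one_mul]

theorem b_mm_isK (q : G) : IsK t (g * t * g⁻¹ * mm t g q) := by
  rw [P.b_mm]; exact P.b_isK.conj q

theorem mm_RR {q : G} (h : mm t g q ∈ RR Q g) : mm t g q = 1 := by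
  have := P.R_nf ((RR Q g).mul_mem P.b_RR h) (P.b_mm_isK q)
  exact mul_eq_left.1 this

theorem mm_inv (q : G) : g * t * g⁻¹ * mm t g q * (g * t * g⁻¹)⁻¹ = (mm t g q)⁻¹ := by
  unfold mm
  generalize hb : g * t * g⁻¹ = b
  have h2 : b * b = 1 := hb ▸ P.b_sq
  have h3 : b⁻¹ = b := hb ▸ P.b_inv
  calc b * (b * q * b⁻¹ * q⁻¹) * b⁻¹ = (b * b) * q * (b⁻¹ * q⁻¹ * b⁻¹) := by group
    _ = q * (b * q⁻¹ * b⁻¹) := by rw [h2, h3]; group
    _ = _ := by group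

theorem c_mm {w : List ℕ} (hw : permW w = K.π ⟨_, P.mem⟩) {q : G} (hq : q ∈ Q) :
    K.c (mm t g q) = Nat.xor (ap (eW w).2 (K.c q)) (K.c q) := by
  show K.c (g * t * g⁻¹ * q * (g * t * g⁻¹)⁻¹ * q⁻¹) = _
  rw [K.c_mul _ (P.S.norm _ P.mem q hq) _ (Q.inv_mem hq), c_conj K P.mem hw hq, NA.Coord.c_inv P.S K hq]
  rfl

theorem mm_prod {q r : G} (hq : q ∈ Q) (hr : r ∈ Q) :
    mm t g (q * r) = mm t g q * mm t g r * tw t (Bv (K.c q) (K.c (mm t g r))) := by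
  have h := NA.Coord.rule P.S K hq (P.mm_mem hr)
  rw [show mm t g (q * r) = mm t g q * (q * mm t g r * q⁻¹) by unfold mm; group, h, mul_assoc]

/-- An element of `Q` over a commutator is that commutator, up to `t`. -/
theorem lift_mm {w : List ℕ} (hw : permW w = K.π ⟨_, P.mem⟩) {y : G} (hy : y ∈ Q)
    (h : memN (comL (eW w)) (K.c y) = true) : ∃ q ∈ Q, ∃ e, y = mm t g q * tw t e := by
  rw [memN_iff, comL, List.mem_map] at h
  obtain ⟨v, hv, e⟩ := h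
  obtain ⟨q, hq, rfl⟩ := K.c_surj v (List.mem_range.1 hv)
  exact ⟨q, hq, NA.Coord.eq_of_c P.S K hy (P.mm_mem hq) (by rw [P.c_mm hw hq]; exact e.symm)⟩

/-- A commutator of singular value commutes with the conjugate. -/
theorem mm_YY {q : G} (hq : q ∈ Q) (h : qv (K.c (mm t g q)) = false) (e : Bool) :
    mm t g q * tw t e ∈ YY t Q g := by
  refine (YY t Q g).mul_mem (mem_YY.2 ⟨P.mm_mem hq, ?_⟩) (mem_YY.2 ⟨NA.Setup.tw_mem P.S e, ?_⟩)
  · have h1 := P.mm_inv q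
    have h2 := K.sq _ (P.mm_mem hq)
    rw [h, NA.tw_false] at h2
    rw [inv_eq_of_mul_eq_one_right h2] at h1
    exact (mul_inv_eq_iff_eq_mul.1 h1).symm
  · exact (NA.Setup.tw_comm P.S P.bt e).symm

theorem YY_fix {w : List ℕ} (hw : permW w = K.π ⟨_, P.mem⟩) {y : G} (hy : y ∈ YY t Q g) :
    fixV (eW w) (K.c y) = true := by
  obtain ⟨hq, hb⟩ := mem_YY.1 hy
  have := c_conj K P.mem hw hq
  rw [← hb, mul_inv_cancel_right] at this
  rw [fixV, ← this]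
  exact Nat.beq_refl _

/-- A fixed vector lifts to elements moved at most by `t`. -/
theorem fix_tw {w : List ℕ} (hw : permW w = K.π ⟨_, P.mem⟩) {q : G} (hq : q ∈ Q)
    (h : fixV (eW w) (K.c q) = true) : ∃ e, g * t * g⁻¹ * q * (g * t * g⁻¹)⁻¹ = q * tw t e :=
  NA.Coord.eq_of_c P.S K (P.S.norm _ P.mem q hq) hq
    (by rw [c_conj K P.mem hw hq]; exact Nat.eq_of_beq_eq_true h)

end Pr

end Cfsg.Agent.Co2Recog.Two
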