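import Cfsg.Agent.Lib.Co2Recog.Setup

/-!
Elements of the symplectic group in six dimensions as pairs of matrices: the images of the six unit vectors and the
matrix on the spin module, computed from words in the seven transvections.
-/

set_option autoImplicit false
set_option maxRecDepth 100000

namespace Cfsg.Agent.Co2Recog

open Equiv
open Cfsg.Agent.ThRec.Eight (act ap mulM idM matW gen)

/-- A pair of matrices. -/
abbrev Elt : Type := List ℕ × List ℕ

/-- The six unit vectors. -/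
def id6 : List ℕ := [1, 2, 4, 8, 16, 32]

/-- A transvection on six-bit vectors. -/
def g6 (k : ℕ) : List ℕ := id6.map fun e => cond (bil6 e (tvC k)) (Nat.xor e (tvC k)) e

/-- A letter. -/
def eGen (k : ℕ) : Elt := (g6 k, gen sX k)

/-- The product. -/
def eMul (a b : Elt) : Elt := (mulM a.1 b.1, mulM a.2 b.2)

/-- The unit. -/
def eId : Elt := (id6, idM)

/-- A word. -/
def eW : List ℕ → Elt
  | [] => eId
  | k :: w => eMul (eGen k) (eW w)

/-- Six six-bit vectors as one number. -/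
def key6 (l : List ℕ) : ℕ := l.foldr (fun c r => c + 64 * r) 0

/-- The code of a pair. -/
def key (e : Elt) : ℕ := key6 e.1

theorem mulM_assoc (A B C : List ℕ) : mulM (mulM A B) C = mulM A (mulM B C) := by
  simp only [mulM, List.map_map]
  exact List.map_congr_left fun c _ => ThRec.Eight.ap_mulM A B c

theorem eMul_assoc (a b c : Elt) : eMul (eMul a b) c = eMul a (eMul b c) := by
  simp only [eMul, mulM_assoc]

theorem ap_id6 : ∀ v < 64, ap id6 v = v := by decide +kernel

theorem g6_lt : ∀ k, ∀ c ∈ g6 k, c < 64 := by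
  intro k
  have h : ∀ j : Fin 7, ∀ c ∈ g6 j.val, c < 64 := by decide +kernel
  have := h ⟨k % 7, Nat.mod_lt _ (by norm_num)⟩
  simpa [g6, tvC, Nat.mod_mod] using this

theorem gen_lt : ∀ k, ∀ c ∈ gen sX k, c < 256 := by
  intro k
  have h : ∀ j : Fin 7, ∀ c ∈ gen sX j.val, c < 256 := by decide +kernel
  have := h ⟨k % 7, Nat.mod_lt _ (by norm_num)⟩
  simpa [gen, Nat.mod_mod] using this

theorem eW_lt : ∀ w, (∀ c ∈ (eW w).1, c < 64) ∧ ∀ c ∈ (eW w).2, c < 256
  | [] => by
    have h : (∀ c ∈ id6, c < 64) ∧ ∀ c ∈ idM, c < 256 := by decide +kernel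
    exact h
  | k :: w => by
    refine ⟨fun c hc => ?_, fun c hc => ?_⟩
    · obtain ⟨d, _, rfl⟩ := List.mem_map.1 hc
      exact ThRec.Eight.ap_lt (n := 6) (g6_lt k) d
    · obtain ⟨d, _, rfl⟩ := List.mem_map.1 hc
      exact ThRec.Eight.ap_lt (n := 8) (gen_lt k) d

theorem eW_length : ∀ w, (eW w).1.length = 6
  | [] => rfl
  | k :: w => by simp [eW, eMul, mulM, eW_length w]

theorem eMul_eId (w : List ℕ) : eMul eId (eW w) = eW w := by
  refine Prod.ext ?_ ?_
  · show mulM id6 (eW w).1 = _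
    exact (List.map_congr_left fun c hc => ap_id6 c ((eW_lt w).1 c hc)).trans (List.map_id _)
  · show mulM idM (eW w).2 = _
    exact (List.map_congr_left fun c hc => ThRec.Eight.ap_idM ((eW_lt w).2 c hc)).trans (List.map_id _)

theorem eW_append : ∀ u w, eW (u ++ w) = eMul (eW u) (eW w)
  | [], w => (eMul_eId w).symm
  | k :: u, w => by rw [List.cons_append, eW, eW, eW_append u w, eMul_assoc]

theorem eW_snd : ∀ w, (eW w).2 = matW sX w
  | [] => rfl
  | k :: w => by show mulM (gen sX k) (eW w).2 = _; rw [eW_snd w]; rfl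

theorem act_eW (w : List ℕ) {v : ℕ} (hv : v < 256) : ap (eW w).2 v = act sX w v := by
  rw [eW_snd]; exact ThRec.Eight.act_eq sX w v hv

theorem tv_val : ∀ (k : Fin 7) (i : Fin 63), (tvStep (tvC k) i).val + 1 = ap (g6 k) (i.val + 1) := by
  decide +kernel

theorem tv_apply (k : ℕ) (i : Fin 63) : (tv k i).val + 1 = ap (g6 k) (i.val + 1) := by
  have h := tv_val ⟨k % 7, Nat.mod_lt _ (by norm_num)⟩ i
  show (tvStep (tvC k) i).val + 1 = _
  simpa [g6, tvC, Nat.mod_mod] using h

/-- The six-bit vectors move as the six images say. -/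
theorem permW_apply : ∀ (w : List ℕ) (i : Fin 63), (permW w i).val + 1 = ap (eW w).1 (i.val + 1)
  | [], i => (ap_id6 _ (by omega)).symm
  | k :: w, i => by
    show (tv k (permW w i)).val + 1 = ap (mulM (g6 k) (eW w).1) (i.val + 1)
    rw [tv_apply, ThRec.Eight.ap_mulM, permW_apply w i]

theorem permW_append : ∀ u w, permW (u ++ w) = permW u * permW w
  | [], w => (one_mul _).symm
  | k :: u, w => by rw [List.cons_append, permW, permW, permW_append u w, mul_assoc]

theorem tv_mul_self (k : ℕ) : tv k * tv k = 1 := by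
  ext i
  have h := tvStep_invol ⟨k % 7, Nat.mod_lt _ (by norm_num)⟩ i
  simp only [tvC, Nat.mod_mod] at h
  show ((tvStep (tvC k) (tvStep (tvC k) i)) : ℕ) = i
  unfold tvC
  rw [h]

theorem permW_reverse : ∀ w, permW w.reverse = (permW w)⁻¹
  | [] => inv_one.symm
  | k :: w => by
    rw [List.reverse_cons, permW_append, permW_reverse w, show permW [k] = tv k from mul_one _,
      show permW (k :: w) = tv k * permW w from rfl, _root_.mul_inv_rev,
      inv_eq_of_mul_eq_one_right (tv_mul_self k)]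

theorem ap_unit : ∀ (M : List ℕ) (j : ℕ), ap M (2 ^ j) = M.getD j 0
  | [], _ => rfl
  | c :: M, 0 => by
    rw [pow_zero, ThRec.Eight.ap_cons, show (1 : ℕ) / 2 = 0 from rfl, ThRec.Eight.ap_zero]
    show c ^^^ 0 = c
    exact Nat.xor_zero c
  | c :: M, j + 1 => by
    rw [ThRec.Eight.ap_cons, ThRec.Eight.odd_eq, Nat.testBit_two_pow_of_ne (Nat.succ_ne_zero j), cond_false,
      pow_succ, Nat.mul_div_cancel _ two_pos, ap_unit M j, Nat.zero_xor]
    rfl

theorem key6_inj : ∀ {l m : List ℕ}, l.length = m.length → (∀ c ∈ l, c < 64) → (∀ c ∈ m, c < 64) →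
    key6 l = key6 m → l = m
  | [], [], _, _, _, _ => rfl
  | c :: l, d :: m, hn, hl, hm, h => by
    have hc := hl c List.mem_cons_self
    have hd := hm d List.mem_cons_self
    change c + 64 * key6 l = d + 64 * key6 m at h
    rw [key6_inj (Nat.succ.inj hn) (fun x hx => hl x (List.mem_cons_of_mem _ hx))
      (fun x hx => hm x (List.mem_cons_of_mem _ hx)) (by omega), show c = d by omega]

theorem fst_eq_of_key {u w : List ℕ} (h : key (eW u) = key (eW w)) : (eW u).1 = (eW w).1 :=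
  key6_inj ((eW_length u).trans (eW_length w).symm) (eW_lt u).1 (eW_lt w).1 h

/-- Two words give the same permutation exactly when their codes agree. -/
theorem permW_eq_iff {u w : List ℕ} : permW u = permW w ↔ key (eW u) = key (eW w) := by
  refine ⟨fun h => ?_, fun h => ?_⟩
  · suffices e : (eW u).1 = (eW w).1 by rw [key, key, e]
    refine List.ext_getElem ((eW_length u).trans (eW_length w).symm) fun j hj hj' => ?_
    have hj6 : j < 6 := eW_length u ▸ hj
    have h1 : 1 ≤ 2 ^ j := Nat.one_le_two_pow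
    have h2 : 2 ^ j ≤ 32 := le_trans (Nat.pow_le_pow_right two_pos (by omega : j ≤ 5)) (by norm_num)
    have e1 := permW_apply u ⟨2 ^ j - 1, by omega⟩
    have e2 := permW_apply w ⟨2 ^ j - 1, by omega⟩
    rw [h, e2] at e1
    simp only [show 2 ^ j - 1 + 1 = 2 ^ j by omega, ap_unit] at e1
    rw [List.getD_eq_getElem _ _ hj, List.getD_eq_getElem _ _ hj'] at e1
    exact e1.symm
  · ext i
    have e1 := permW_apply u i
    have e2 := permW_apply w i
    rw [fst_eq_of_key h] at e1
    omega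

theorem permW_eq_one_iff {w : List ℕ} : permW w = 1 ↔ key (eW w) = key eId :=
  permW_eq_iff (w := [])

theorem permW_comm_iff {u w : List ℕ} :
    permW u * permW w = permW w * permW u ↔ key (eMul (eW u) (eW w)) = key (eMul (eW w) (eW u)) := by
  rw [← permW_append, ← permW_append, permW_eq_iff, eW_append, eW_append]

/-- The generators of the coded group as words. -/
def gWords : List (List ℕ) :=
  [[6, 5, 4, 2, 3, 0, 1, 2, 6, 0, 1, 2, 3, 4, 5, 4, 0, 1, 2, 3, 2, 0, 1], [3, 2, 6, 1, 2, 3, 0, 1, 2, 6, 4, 5,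
    3, 4, 2, 3, 1, 2, 6, 5, 0, 1, 2, 3, 4, 2, 3, 0, 1]]

/-- The transvections as words in the generators. -/
def tWords : List (List ℕ) :=
  [[1, 0, 1, 1, 0, 1, 1, 0, 0, 1, 1, 0, 1, 1, 1, 0, 0, 1, 1, 1], [0, 1, 0, 0, 0, 1, 1, 1, 1, 0, 1, 1, 1, 1, 0,
    1, 0, 1, 1, 0, 0], [1, 0, 0, 0, 1, 0, 0, 1, 0, 0, 1, 1, 0, 0, 1, 0, 1, 1], [0, 1, 0, 1, 0, 1, 1, 1, 0, 1,
    1, 0, 1, 0, 0, 0, 0, 0, 1, 0, 1], [0, 1, 1, 1, 0, 0, 0, 1, 0, 0, 1, 0, 0, 1, 1, 0, 0, 1], [0, 1, 1, 0, 0,
    1, 1, 0, 1, 1, 1, 0, 0, 1, 1, 1, 1, 0, 1, 1], [0, 1, 0, 0, 1, 1, 0, 0, 1, 0, 1, 1, 1, 0, 0, 0, 1, 0]]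

open Cfsg.Agent.PermCert in
theorem gWords_ok : ∀ j : Fin 2,
    permW (gWords.getD j []) = toPerm 6 63 (SchurMult.sp62Gens.getD j (0, 0)) := by
  decide +kernel

open Cfsg.Agent.PermCert in
theorem tWords_ok : ∀ k : Fin 7,
    (((tWords.getD k []).map fun j => toPerm 6 63 (SchurMult.sp62Gens.getD j (0, 0))).prod) = tv k := by
  decide +kernel

theorem tv_mem (k : ℕ) : tv k ∈ Sp63 := by
  have hk : tv k = tv (k % 7) := by ext i; simp [tv, tvC]
  rw [hk, ← tWords_ok ⟨k % 7, Nat.mod_lt _ (by norm_num)⟩]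
  refine Subgroup.list_prod_mem _ fun x hx => ?_
  obtain ⟨j, _, rfl⟩ := List.mem_map.1 hx
  by_cases hj : j < SchurMult.sp62Gens.length
  · refine Subgroup.subset_closure ?_
    show _ ∈ SchurMult.sp62Gens.map (PermCert.toPerm 6 63)
    rw [List.getD_eq_getElem _ _ hj]
    exact List.mem_map_of_mem (List.getElem_mem hj)
  · rw [List.getD_eq_default _ _ (by omega)]
    have h0 : PermCert.toPerm 6 63 (0, 0) = 1 := by decide +kernel
    rw [h0]
    exact one_mem _

theorem permW_mem : ∀ w, permW w ∈ Sp63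
  | [] => one_mem _
  | k :: w => mul_mem (tv_mem k) (permW_mem w)

/-- Every element of the group on 63 points is a word. -/
theorem exists_word {p : Perm (Fin 63)} (hp : p ∈ Sp63) : ∃ w, permW w = p := by
  induction hp using Subgroup.closure_induction with
  | mem x hx =>
    obtain ⟨e, he, rfl⟩ := List.mem_map.1 hx
    obtain ⟨j, hj, rfl⟩ := List.getElem_of_mem he
    have hj2 : j < 2 := hj
    exact ⟨gWords.getD j [], by rw [gWords_ok ⟨j, hj2⟩, List.getD_eq_getElem _ _ hj]⟩
  | one => exact ⟨[], rfl⟩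
  | mul x y _ _ hx hy =>
    obtain ⟨u, rfl⟩ := hx
    obtain ⟨w, rfl⟩ := hy
    exact ⟨u ++ w, permW_append u w⟩
  | inv x _ hx =>
    obtain ⟨u, rfl⟩ := hx
    exact ⟨u.reverse, permW_reverse u⟩

theorem card_Sp63 : Nat.card Sp63 = 1451520 := by
  rw [PermCert.cert_card SchurMult.sp62_cert, SchurMult.sp62_order]

end Cfsg.Agent.Co2Recog
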