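import Cfsg.Agent.Lib.Co2Recog.Base
import Cfsg.Agent.Lib.Co2Recog.ChecksSpin
import Cfsg.Agent.Lib.Co2Recog.ChecksUniq

/-!
Soundness of the searches through elementary subgroups and singular subspaces.
-/

set_option autoImplicit false
set_option maxRecDepth 100000

namespace Cfsg.Agent.Co2Recog.Two

open Equiv
open Cfsg.Agent.ThRec.Eight (ap ap_xor ap_zero)
open NA (eq_of_xor lt8)

/-- A permutation given by a word of a list. -/
def InL (L : List (List ℕ)) (p : Perm (Fin 63)) : Prop := ∃ w ∈ L, permW w = p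

theorem card_le_of_InL {H : Subgroup (Perm (Fin 63))} {L : List (List ℕ)} (h : ∀ p ∈ H, InL L p) :
    Nat.card H ≤ L.length := by
  classical
  have hm : ∀ p : ↥H, (p : Perm (Fin 63)) ∈ (L.map permW).toFinset := fun p => by
    obtain ⟨w, hw, e⟩ := h _ p.2
    exact List.mem_toFinset.2 (List.mem_map.2 ⟨w, hw, e⟩)
  refine le_trans (Nat.card_le_card_of_injective (fun p => (⟨_, hm p⟩ : ↥(L.map permW).toFinset))
    fun x y e => Subtype.ext (congrArg (fun q : ↥(L.map permW).toFinset => (q : Perm (Fin 63))) e)) ?_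
  rw [Nat.card_eq_finsetCard]
  exact (List.toFinset_card_le _).trans (le_of_eq (List.length_map _))

theorem gstep_spec (H : Subgroup (Perm (Fin 63))) (hH : ∀ a ∈ H, a * a = 1) (n : ℕ)
    (self : List Elt → List Elt → Bool)
    (hself : ∀ G C : List (List ℕ), self (G.map eW) (C.map eW) = true → (∀ w ∈ G, permW w ∈ H) → InL G 1 →
      (∀ a b, InL G a → InL G b → InL G (a * b)) → (∀ p ∈ H, InL G p ∨ InL C p) → Nat.card H < n)
    (G : List (List ℕ)) (hn : G.length < n) (hG : ∀ w ∈ G, permW w ∈ H) (h1 : InL G 1)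
    (hcl : ∀ a b, InL G a → InL G b → InL G (a * b)) :
    ∀ C : List (List ℕ), gstep self (G.map eW) (C.map eW) = true → (∀ p ∈ H, InL G p ∨ InL C p) →
      Nat.card H < n := by
  have hcomm : ∀ a ∈ H, ∀ b ∈ H, a * b = b * a := fun a ha b hb => by
    calc a * b = (a * b)⁻¹ := (inv_eq_of_mul_eq_one_right (hH _ (H.mul_mem ha hb))).symm
      _ = b⁻¹ * a⁻¹ := mul_inv_rev a b
      _ = b * a := by rw [inv_eq_of_mul_eq_one_right (hH a ha), inv_eq_of_mul_eq_one_right (hH b hb)]
  intro C
  induction C with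
  | nil =>
    intro _ hcov
    exact lt_of_le_of_lt (card_le_of_InL fun p hp => (hcov p hp).resolve_right fun ⟨w, hw, _⟩ =>
      (List.not_mem_nil hw)) hn
  | cons x C ih =>
    intro hrun hcov
    rw [List.map_cons] at hrun
    simp only [gstep, Bool.and_eq_true, Bool.or_eq_true, Bool.not_eq_true'] at hrun
    obtain ⟨h, hrest⟩ := hrun
    by_cases hx : permW x ∈ H ∧ ¬ InL G (permW x)
    · obtain ⟨hxH, hxG⟩ := hx
      have hext : extOK (G.map eW) (eW x) ((x :: C).map eW) = true := by
        simp only [extOK, List.all_eq_true, List.mem_map, forall_exists_index, and_imp,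
          forall_apply_eq_imp_iff₂, Bool.and_eq_true]
        intro u hu
        have hp : permW x * permW u ∈ H := H.mul_mem hxH (hG u hu)
        have hnot : ¬ InL G (permW x * permW u) := fun hh => hxG (by
          have := hcl _ _ hh ⟨u, hu, rfl⟩
          rwa [mul_assoc, hH _ (hG u hu), mul_one] at this)
        obtain ⟨v, hv, e⟩ := (hcov _ hp).resolve_left hnot
        refine ⟨List.any_eq_true.2 ⟨eW v, List.mem_map_of_mem hv, ?_⟩, ?_⟩
        · rw [← eW_append, sameK_iff, permW_append, e]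
        · rw [← eW_append, ← eW_append, sameK_iff, permW_append, permW_append, hcomm _ hxH _ (hG u hu)]
      rw [← List.map_cons] at h
      rcases h with h | h
      · rw [List.map_cons, ← List.map_cons] at hext
        exact absurd (hext.symm.trans h) (by simp)
      · have emap : G.map eW ++ (G.map eW).map (eMul (eW x)) = (G ++ G.map (fun w => x ++ w)).map eW := by
          rw [List.map_append, List.map_map, List.map_map]
          congr 1
          exact List.map_congr_left fun w _ => (eW_append x w).symm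
        rw [emap] at h
        have hin : ∀ p, InL (G ++ G.map (fun w => x ++ w)) p ↔ InL G p ∨ ∃ q, InL G q ∧ p = permW x * q := by
          intro p
          constructor
          · rintro ⟨w, hw, rfl⟩
            rcases List.mem_append.1 hw with hw | hw
            · exact Or.inl ⟨w, hw, rfl⟩
            · obtain ⟨u, hu, rfl⟩ := List.mem_map.1 hw
              exact Or.inr ⟨permW u, ⟨u, hu, rfl⟩, permW_append x u⟩
          · rintro (⟨w, hw, rfl⟩ | ⟨q, ⟨u, hu, rfl⟩, rfl⟩)
            · exact ⟨w, List.mem_append_left _ hw, rfl⟩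
            · exact ⟨x ++ u, List.mem_append_right _ (List.mem_map_of_mem hu), permW_append x u⟩
        refine hself _ C h (fun w hw => ?_) ((hin 1).2 (Or.inl h1)) (fun a b ha hb => ?_) (fun p hp => ?_)
        · rcases (hin _).1 ⟨w, hw, rfl⟩ with ⟨u, hu, e⟩ | ⟨q, ⟨u, hu, rfl⟩, e⟩
          · exact e ▸ hG u hu
          · exact e ▸ H.mul_mem hxH (hG u hu)
        · have hmem : ∀ {q}, InL G q → q ∈ H := fun {q} ⟨u, hu, e⟩ => e ▸ hG u hu
          rw [hin]
          rcases (hin a).1 ha with a1 | ⟨a', a2, rfl⟩ <;> rcases (hin b).1 hb with b1 | ⟨b', b2, rfl⟩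
          · exact Or.inl (hcl a b a1 b1)
          · exact Or.inr ⟨a * b', hcl a b' a1 b2, by
              rw [← mul_assoc, hcomm a (hmem a1) _ hxH, mul_assoc]⟩
          · exact Or.inr ⟨a' * b, hcl a' b a2 b1, mul_assoc _ _ _⟩
          · refine Or.inl ?_
            rw [show permW x * a' * (permW x * b') = permW x * (a' * permW x) * b' by group,
              hcomm a' (hmem a2) _ hxH, ← mul_assoc (permW x), hH _ hxH, one_mul]
            exact hcl a' b' a2 b2
        · rcases hcov p hp with hp | ⟨w, hw, e⟩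
          · exact Or.inl ((hin p).2 (Or.inl hp))
          · rcases List.mem_cons.1 hw with rfl | hw
            · exact Or.inl ((hin p).2 (Or.inr ⟨1, h1, by rw [e, mul_one]⟩))
            · exact Or.inr ⟨w, hw, e⟩
    · refine ih hrest fun p hp => ?_
      rcases hcov p hp with hp' | ⟨w, hw, e⟩
      · exact Or.inl hp'
      · rcases List.mem_cons.1 hw with rfl | hw
        · exact Or.inl (by
            rw [← e]
            by_contra hh
            exact hx ⟨e ▸ hp, hh⟩)
        · exact Or.inr ⟨w, hw, e⟩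

/-- An elementary subgroup covered by the start and the candidates is small. -/
theorem gsearch_spec (H : Subgroup (Perm (Fin 63))) (hH : ∀ a ∈ H, a * a = 1) (n : ℕ) :
    ∀ (f : ℕ) (G C : List (List ℕ)), gsearch f n (G.map eW) (C.map eW) = true → (∀ w ∈ G, permW w ∈ H) →
      InL G 1 → (∀ a b, InL G a → InL G b → InL G (a * b)) → (∀ p ∈ H, InL G p ∨ InL C p) → Nat.card H < n
  | 0, _, _, h, _, _, _, _ => by simp [gsearch] at h
  | f + 1, G, C, h, hG, h1, hcl, hcov => by
    simp only [gsearch, Bool.and_eq_true, List.length_map] at h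
    exact gstep_spec H hH n _ (fun G' C' => gsearch_spec H hH n f G' C') G (Nat.le_of_ble_eq_true h.1)
      hG h1 hcl C h.2 hcov

/-- Two words with one permutation act alike on the spin module. -/
theorem act_unique {G : Type*} [Group G] {t : G} {Q : Subgroup G} (K : Coords t Q) {u w : List ℕ}
    (h : permW u = permW w) {v : ℕ} (hv : v < 256) : ap (eW u).2 v = ap (eW w).2 v := by
  obtain ⟨x, hx⟩ := exists_lift K w
  obtain ⟨q, hq, rfl⟩ := K.c_surj v hv
  rw [← c_conj K x.2 (h.trans hx.symm) hq, ← c_conj K x.2 hx.symm hq]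

theorem gen_q : ∀ k : Fin 7, ∀ v : Fin 256, qv (ap (eGen k).2 v) = qv v ∧
    ap (eGen k).2 (ap (eGen k).2 v) = v := by decide +kernel

theorem eGen_snd (k : ℕ) : (eGen k).2 = (eGen (k % 7)).2 := by
  simp [eGen, ThRec.Eight.gen]

theorem ap_eW_lt (w : List ℕ) (v : ℕ) : ap (eW w).2 v < 256 :=
  ThRec.Eight.ap_lt (n := 8) (eW_lt w).2 v

theorem ap_cons_word (k : ℕ) (w : List ℕ) (v : ℕ) :
    ap (eW (k :: w)).2 v = ap (eGen k).2 (ap (eW w).2 v) := ThRec.Eight.ap_mulM _ _ v

theorem ap_nil_word {v : ℕ} (hv : v < 256) : ap (eW []).2 v = v := ThRec.Eight.ap_idM hv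

theorem qv_act : ∀ (w : List ℕ) {v : ℕ}, v < 256 → qv (ap (eW w).2 v) = qv v
  | [], _, h => by rw [ap_nil_word h]
  | k :: w, v, h => by
    rw [ap_cons_word, eGen_snd,
      (gen_q ⟨k % 7, Nat.mod_lt _ (by norm_num)⟩ ⟨_, ap_eW_lt w v⟩).1, qv_act w h]

theorem Bv_act (w : List ℕ) {u v : ℕ} (hu : u < 256) (hv : v < 256) :
    Bv (ap (eW w).2 u) (ap (eW w).2 v) = Bv u v := by
  unfold Bv
  rw [show Nat.xor (ap (eW w).2 u) (ap (eW w).2 v) = ap (eW w).2 (Nat.xor u v) from (ap_xor _ u v).symm,
    qv_act w (v := Nat.xor u v) (lt8 hu hv), qv_act w hu, qv_act w hv]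

theorem act_rev : ∀ (w : List ℕ) {v : ℕ}, v < 256 → ap (eW w.reverse).2 (ap (eW w).2 v) = v
  | [], v, h => by rw [List.reverse_nil, ap_nil_word h, ap_nil_word h]
  | k :: w, v, h => by
    rw [List.reverse_cons, eW_append, show (eMul (eW w.reverse) (eW [k])).2 =
      ThRec.Eight.mulM (eW w.reverse).2 (eW [k]).2 from rfl, ThRec.Eight.ap_mulM, ap_cons_word, ap_cons_word,
      ap_nil_word (ThRec.Eight.ap_lt (n := 8) (M := (eGen k).2) (gen_lt k) _), eGen_snd,
      (gen_q ⟨k % 7, Nat.mod_lt _ (by norm_num)⟩ ⟨_, ap_eW_lt w v⟩).2, act_rev w h]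

theorem act_inj (w : List ℕ) {u v : ℕ} (hu : u < 256) (hv : v < 256) (h : ap (eW w).2 u = ap (eW w).2 v) :
    u = v := by rw [← act_rev w hu, h, act_rev w hv]

/-! ### Singular subspaces -/

/-- A singular subspace of the spin module. -/
structure SingSp (X : Finset ℕ) : Prop where
  zero : 0 ∈ X
  lt : ∀ v ∈ X, v < 256
  add : ∀ u ∈ X, ∀ v ∈ X, u ^^^ v ∈ X
  sing : ∀ v ∈ X, qv v = false

theorem SingSp.orth {X : Finset ℕ} (hX : SingSp X) {u v : ℕ} (hu : u ∈ X) (hv : v ∈ X) : Bv u v = false := by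
  show ((qv (u ^^^ v) ^^ qv u) ^^ qv v) = false
  rw [hX.sing _ (hX.add u hu v hv), hX.sing u hu, hX.sing v hv]; rfl

theorem xext_toFinset {X : Finset ℕ} (hX : SingSp X) {sp : List ℕ} (hsp : ∀ s ∈ sp, s ∈ X) {v : ℕ}
    (hv : v ∈ X) : ∀ s ∈ xext sp v, s ∈ X := by
  intro s hs
  rcases List.mem_append.1 hs with hs | hs
  · exact hsp s hs
  · obtain ⟨u, hu, rfl⟩ := List.mem_map.1 hs
    exact hX.add v hv u (hsp u hu)

/-- The state of a search in a singular subspace. -/
structure St (X : Finset ℕ) (sp : List ℕ) (last : ℕ) : Prop where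
  sub : ∀ s ∈ sp, s ∈ X
  nodup : sp.Nodup
  zero : 0 ∈ sp
  add : ∀ a ∈ sp, ∀ b ∈ sp, a ^^^ b ∈ sp
  min : ∀ x ∈ X, x ∉ sp → last < x

theorem St.next {X : Finset ℕ} (hX : SingSp X) {sp : List ℕ} {last : ℕ} (h : St X sp last)
    (hne : ∃ x ∈ X, x ∉ sp) : ∃ v ∈ kids sp last, v ∈ X ∧ St X (xext sp v) v := by
  classical
  let T := X.filter (· ∉ sp)
  have hT : T.Nonempty := by
    obtain ⟨x, hx, hx'⟩ := hne
    exact ⟨x, Finset.mem_filter.2 ⟨hx, hx'⟩⟩
  obtain ⟨hvX, hvsp⟩ := Finset.mem_filter.1 (T.min'_mem hT)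
  set v := T.min' hT with hv
  have hle : ∀ y ∈ X, y ∉ sp → v ≤ y := fun y hy hy' => T.min'_le y (Finset.mem_filter.2 ⟨hy, hy'⟩)
  have hmul : ∀ s ∈ sp, v ^^^ s ∉ sp := fun s hs hh => hvsp (by
    have := h.add _ hh s hs
    rwa [Nat.xor_assoc, Nat.xor_self, Nat.xor_zero] at this)
  refine ⟨v, ?_, hvX, ?_⟩
  · simp only [kids, sing, List.mem_filter, List.mem_range, Bool.and_eq_true, Bool.not_eq_true',
      List.all_eq_true]
    refine ⟨⟨hX.lt v hvX, ?_, hX.sing v hvX⟩, Nat.ble_eq_true_of_le (h.min v hvX hvsp), fun s hs => ⟨?_, ?_⟩⟩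
    · cases hb : Nat.beq v 0
      · rfl
      · exact absurd (Nat.eq_of_beq_eq_true hb ▸ h.zero) hvsp
    · exact hX.orth hvX (h.sub s hs)
    · exact Nat.ble_eq_true_of_le (hle _ (hX.add v hvX s (h.sub s hs)) (hmul s hs))
  · refine ⟨xext_toFinset hX h.sub hvX, ?_, List.mem_append_left _ h.zero, ?_, ?_⟩
    · refine List.nodup_append.2 ⟨h.nodup, h.nodup.map fun a b e => ?_, ?_⟩
      · exact Nat.xor_right_inj.1 e
      · rintro a ha _ hb rfl
        obtain ⟨s, hs, rfl⟩ := List.mem_map.1 hb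
        exact hmul s hs ha
    · intro a ha b hb
      rcases List.mem_append.1 ha with ha | ha <;> rcases List.mem_append.1 hb with hb | hb
      · exact List.mem_append_left _ (h.add a ha b hb)
      · obtain ⟨s, hs, rfl⟩ := List.mem_map.1 hb
        refine List.mem_append_right _ (List.mem_map.2 ⟨a ^^^ s, h.add a ha s hs, ?_⟩)
        show v ^^^ (a ^^^ s) = a ^^^ (v ^^^ s)
        exact Nat.xor_left_comm v a s
      · obtain ⟨s, hs, rfl⟩ := List.mem_map.1 ha
        refine List.mem_append_right _ (List.mem_map.2 ⟨s ^^^ b, h.add s hs b hb, ?_⟩)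
        show v ^^^ (s ^^^ b) = v ^^^ s ^^^ b
        exact (Nat.xor_assoc v s b).symm
      · obtain ⟨s, hs, rfl⟩ := List.mem_map.1 ha
        obtain ⟨r, hr, rfl⟩ := List.mem_map.1 hb
        refine List.mem_append_left _ ?_
        have e : v ^^^ s ^^^ (v ^^^ r) = s ^^^ r := by
          rw [Nat.xor_comm v s, Nat.xor_assoc, ← Nat.xor_assoc v v r, Nat.xor_self, Nat.zero_xor]
        show v ^^^ s ^^^ (v ^^^ r) ∈ sp
        rw [e]
        exact h.add s hs r hr
    · intro x hx hx'
      have h1 : x ∉ sp := fun hh => hx' (List.mem_append_left _ hh)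
      refine lt_of_le_of_ne (hle x hx h1) fun e => hx' (List.mem_append_right _ (List.mem_map.2 ⟨0, h.zero, ?_⟩))
      show v ^^^ 0 = x
      rw [Nat.xor_zero, e]

theorem St.card_eq {X : Finset ℕ} {sp : List ℕ} {last : ℕ} (h : St X sp last) (he : ∀ x ∈ X, x ∈ sp) :
    X.card = sp.length := by
  rw [← List.toFinset_card_of_nodup h.nodup]
  exact congrArg Finset.card (Finset.ext fun x => by
    rw [List.mem_toFinset]; exact ⟨he x, h.sub x⟩)

theorem deep_spec {X : Finset ℕ} (hX : SingSp X) : ∀ (n : ℕ) (sp : List ℕ) (last : ℕ),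
    deep n sp last = true → St X sp last → X.card < sp.length * 2 ^ n
  | 0, _, _, h, _ => by simp [deep] at h
  | n + 1, sp, last, h, hs => by
    by_cases hne : ∃ x ∈ X, x ∉ sp
    · obtain ⟨v, hv, -, hst⟩ := hs.next hX hne
      refine lt_of_lt_of_le (deep_spec hX n _ v (List.all_eq_true.1 h v hv) hst) (le_of_eq ?_)
      rw [xext, List.length_append, List.length_map, pow_succ]
      ring
    · push Not at hne
      rw [hs.card_eq hne]
      have : 0 < sp.length := List.length_pos_of_mem hs.zero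
      have h2 : 2 ≤ 2 ^ (n + 1) := Nat.le_self_pow n.succ_ne_zero 2
      nlinarith

theorem mem_reachV : ∀ (n : ℕ) (L : List ℕ), (∀ v ∈ L, ∃ w, ap (eW w).2 c0 = v) →
    ∀ v ∈ reachV n L, ∃ w, ap (eW w).2 c0 = v
  | 0, _, h => h
  | n + 1, L, h => by
    refine mem_reachV n _ ?_
    generalize hR : List.range 7 = R
    clear hR
    suffices ∀ (R : List ℕ) (acc : List ℕ), (∀ v ∈ acc, ∃ w, ap (eW w).2 c0 = v) →
        ∀ v ∈ R.foldl (fun acc k => L.foldl (fun acc v =>
          bif memN acc (ap (eGen k).2 v) then acc else ap (eGen k).2 v :: acc) acc) acc,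
          ∃ w, ap (eW w).2 c0 = v from this R L h
    intro R
    induction R with
    | nil => exact fun acc ha => ha
    | cons k R ih =>
      intro acc ha
      rw [List.foldl_cons]
      refine ih _ ?_
      suffices ∀ (M : List ℕ) (acc : List ℕ), (∀ v ∈ M, ∃ w, ap (eW w).2 c0 = v) →
          (∀ v ∈ acc, ∃ w, ap (eW w).2 c0 = v) →
          ∀ v ∈ M.foldl (fun acc v => bif memN acc (ap (eGen k).2 v) then acc else ap (eGen k).2 v :: acc) acc,
            ∃ w, ap (eW w).2 c0 = v from this L acc h ha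
      intro M
      induction M with
      | nil => exact fun acc _ ha => ha
      | cons x M ih2 =>
        intro acc hM ha
        rw [List.foldl_cons]
        refine ih2 _ (fun v hv => hM v (List.mem_cons_of_mem _ hv)) ?_
        cases memN acc (ap (eGen k).2 x)
        · intro v hv
          rcases List.mem_cons.1 hv with rfl | hv
          · obtain ⟨w, e⟩ := hM x List.mem_cons_self
            exact ⟨k :: w, by rw [ap_cons_word, e]⟩
          · exact ha v hv
        · exact ha

/-- Every nonzero singular vector is an image of the fixed one. -/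
theorem exists_to_c0 {v : ℕ} (hv : v < 256) (h0 : v ≠ 0) (hq : qv v = false) : ∃ w, ap (eW w).2 c0 = v := by
  refine mem_reachV 12 [c0] (fun u hu => ⟨[], by rw [List.mem_singleton.1 hu, ap_nil_word c0_ok.2.1]⟩) v ?_
  refine memN_iff.1 (List.all_eq_true.1 reach_c0 v ?_)
  simp only [sing, List.mem_filter, List.mem_range, Bool.and_eq_true, Bool.not_eq_true']
  refine ⟨hv, ?_, hq⟩
  cases hb : Nat.beq v 0
  · rfl
  · exact absurd (Nat.eq_of_beq_eq_true hb) h0

/-- A singular subspace has at most sixteen vectors. -/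
theorem SingSp.card_le {X : Finset ℕ} (hX : SingSp X) : X.card < 32 := by
  classical
  by_cases hx : ∃ x ∈ X, x ≠ 0
  · obtain ⟨x, hx, h0⟩ := hx
    obtain ⟨w, hw⟩ := exists_to_c0 (hX.lt x hx) h0 (hX.sing x hx)
    have hc : c0 ∈ X.image (ap (eW w.reverse).2) :=
      Finset.mem_image.2 ⟨x, hx, by rw [← hw, act_rev w c0_ok.2.1]⟩
    have hX' : SingSp (X.image (ap (eW w.reverse).2)) := by
      refine ⟨Finset.mem_image.2 ⟨0, hX.zero, ap_zero _⟩, ?_, ?_, ?_⟩
      · intro v hv
        obtain ⟨u, -, rfl⟩ := Finset.mem_image.1 hv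
        exact ap_eW_lt _ _
      · intro u hu v hv
        obtain ⟨a, ha, rfl⟩ := Finset.mem_image.1 hu
        obtain ⟨b, hb, rfl⟩ := Finset.mem_image.1 hv
        exact Finset.mem_image.2 ⟨a ^^^ b, hX.add a ha b hb, ap_xor _ a b⟩
      · intro v hv
        obtain ⟨u, hu, rfl⟩ := Finset.mem_image.1 hv
        rw [qv_act _ (hX.lt u hu)]
        exact hX.sing u hu
    have hst : St (X.image (ap (eW w.reverse).2)) [0, c0] 0 := by
      refine ⟨?_, ?_, List.mem_cons_self, ?_, ?_⟩
      · intro s hs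
        simp only [List.mem_cons, List.not_mem_nil, or_false] at hs
        rcases hs with rfl | rfl
        · exact hX'.zero
        · exact hc
      · simp [Ne.symm c0_ok.1]
      · intro a ha b hb
        simp only [List.mem_cons, List.not_mem_nil, or_false] at ha hb ⊢
        rcases ha with rfl | rfl <;> rcases hb with rfl | rfl <;> simp
      · intro y _ hy
        simp only [List.mem_cons, List.not_mem_nil, or_false, not_or] at hy
        exact Nat.pos_of_ne_zero hy.1
    have := deep_spec hX' 4 [0, c0] 0 deep_c0 hst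
    rwa [Finset.card_image_of_injOn (fun a ha b hb e => act_inj _ (hX.lt a ha) (hX.lt b hb) e)] at this
  · push Not at hx
    have := Finset.card_le_card (show X ⊆ {0} from fun x h => Finset.mem_singleton.2 (hx x h))
    rw [Finset.card_singleton] at this
    omega

/-- The list of words of order at most two. -/
theorem sylI_words : ∀ e ∈ sylI, ∃ w ∈ sylW, eW w = e := fun e he => by
  obtain ⟨w, hw, h, -⟩ := mem_sylE (List.mem_filter.1 he).1
  exact ⟨w, hw, h⟩

end Cfsg.Agent.Co2Recog.Two
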