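import Cfsg.Agent.Lib.Co2Recog.Conj
import Cfsg.Agent.Lib.Co2Recog.SearchSpec
import Cfsg.Agent.Lib.Co2Recog.ChecksA
import Mathlib.GroupTheory.GroupAction.Quotient
import Mathlib.GroupTheory.PGroup

/-!
When a conjugate of `t` in the centraliser lies over the first involution, the centraliser of the preimage of the
maximal singular subspace gives an elementary group of order 1024 with an impossible number of conjugates of `t`.
-/

set_option autoImplicit false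
set_option maxRecDepth 100000
set_option linter.unusedSectionVars false

namespace Cfsg.Agent.Co2Recog.Two

open Equiv
open Cfsg.Agent.ThRec.Eight (ap ap_xor ap_zero)
open NA (lt8)
open NA.Setup (na_sq na_ne na_comm na_mem)

variable {G : Type*} [Group G] {t : G} {Q : Subgroup G}

local notation "CT" t => Subgroup.centralizer ({t} : Set _)

/-! ### The group -/

/-- The centraliser of the preimage of the subspace over the Sylow subgroup. -/
def AA (K : Coords t Q) : Subgroup G :=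
  ((Syl.comap K.π).map (Subgroup.centralizer ({t} : Set G)).subtype) ⊓
    Subgroup.centralizer {q : G | q ∈ Q ∧ K.c q ∈ W0}

theorem mem_AA {K : Coords t Q} {x : G} : x ∈ AA K ↔
    (∃ h : x ∈ Subgroup.centralizer ({t} : Set G), K.π ⟨x, h⟩ ∈ Syl) ∧
      ∀ q ∈ Q, K.c q ∈ W0 → q * x = x * q := by
  refine Iff.trans Subgroup.mem_inf (and_congr ?_ ?_)
  · rw [Subgroup.mem_map]
    constructor
    · rintro ⟨⟨y, hy⟩, h, rfl⟩; exact ⟨hy, h⟩
    · rintro ⟨h, hs⟩; exact ⟨⟨x, h⟩, hs, rfl⟩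
  · rw [Subgroup.mem_centralizer_iff]
    exact ⟨fun h q hq hv => h q ⟨hq, hv⟩, fun h q hq => h q hq.1 hq.2⟩

theorem AA_C {K : Coords t Q} {x : G} (hx : x ∈ AA K) : x ∈ Subgroup.centralizer ({t} : Set G) :=
  (mem_AA.1 hx).1.1

theorem W0_lt {v : ℕ} (hv : v ∈ W0) : v < 256 := by
  have h := List.all_eq_true.1 W0_ok.2.2 v hv
  rw [Bool.and_eq_true] at h
  exact Nat.le_of_ble_eq_true h.2

theorem W0_sing {v : ℕ} (hv : v ∈ W0) : qv v = false := by
  have h := List.all_eq_true.1 W0_ok.2.2 v hv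
  rw [Bool.and_eq_true] at h
  simpa using h.1

theorem W0_iff {v : ℕ} (hv : v < 256) : v ∈ W0 ↔ ∀ w ∈ W0, Bv v w = false := by
  have h := beq_iff_eq.1 (List.all_eq_true.1 W0_perp v (List.mem_range.2 hv))
  rw [← memN_iff, h, List.all_eq_true]
  exact forall₂_congr fun w _ => by simp

theorem W0_orth {u v : ℕ} (hu : u ∈ W0) (hv : v ∈ W0) : Bv u v = false := (W0_iff (W0_lt hu)).1 hu v hv

theorem fixV_iff {e : Elt} {v : ℕ} : fixV e v = true ↔ ap e.2 v = v :=
  ⟨fun h => Nat.eq_of_beq_eq_true h, fun h => by rw [fixV, h]; exact Nat.beq_refl _⟩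

/-- The fixed space of the first involution contains the subspace. -/
theorem W0_span {v : ℕ} (hv : v ∈ W0) : ∃ i < 64, ap fbase i = v := by
  have h1 := List.all_eq_true.1 y0_com.1 v (List.mem_range.2 (W0_lt hv))
  rw [Bool.and_eq_true, List.all_eq_true.1 y0_com.2.2.2.1 v hv] at h1
  simp only [Bool.not_true, Bool.false_or, List.any_eq_true] at h1
  obtain ⟨i, hi, e⟩ := h1.2
  exact ⟨i, List.mem_range.1 hi, Nat.eq_of_beq_eq_true e⟩

theorem perm_of_sameK {u w : List ℕ} (h : sameK (eW u) (eW w) = true) : permW u = permW w := sameK_iff.1 h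

theorem syl_of {w : List ℕ} (h : inSyl (key (eW w)) = true) : permW w ∈ Syl := by
  obtain ⟨v, hv, e⟩ := exists_sylW h
  exact ⟨v, hv, e⟩

theorem nW_rev {w : List ℕ} (h : w ∈ nW) : w.reverse ∈ nW := by
  unfold nW at h ⊢
  rcases List.mem_append.1 h with h | h
  · exact List.mem_append_right _ (List.mem_map_of_mem h)
  · obtain ⟨u, hu, rfl⟩ := List.mem_map.1 h
    rw [List.reverse_reverse]
    exact List.mem_append_left _ hu

section Basic

variable (S : Setup t Q) (K : Coords t Q)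
include S

theorem pre_AA {q : G} (hq : q ∈ Q) (hv : K.c q ∈ W0) : q ∈ AA K :=
  mem_AA.2 ⟨⟨S.le hq, by rw [(K.ker ⟨q, S.le hq⟩).2 hq]; exact one_mem _⟩, fun r hr hw =>
    (NA.Coord.comm_of S K hr hq (W0_orth hw hv))⟩

theorem AA_pre {q : G} (hq : q ∈ Q) (h : q ∈ AA K) : K.c q ∈ W0 := by
  refine (W0_iff (K.c_lt q hq)).2 fun w hw => ?_
  obtain ⟨r, hr, rfl⟩ := K.c_surj w (W0_lt hw)
  exact NA.Coord.bil_of S K hq hr ((mem_AA.1 h).2 r hr hw).symm

theorem t_AA : t ∈ AA K := pre_AA S K (na_mem S) (by rw [NA.Coord.c_t S K]; decide)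

theorem AA_fix {x : G} (hx : x ∈ AA K) {w : List ℕ} (hw : permW w = K.π ⟨x, AA_C hx⟩) {v : ℕ}
    (hv : v ∈ W0) : ap (eW w).2 v = v := by
  obtain ⟨q, hq, rfl⟩ := K.c_surj v (W0_lt hv)
  rw [← c_conj K (AA_C hx) hw hq, ← (mem_AA.1 hx).2 q hq hv, mul_inv_cancel_right]

theorem AA_word {x : G} (hx : x ∈ AA K) : ∃ w, permW w = K.π ⟨x, AA_C hx⟩ ∧ eW w ∈ fixW0 := by
  obtain ⟨w, -, e, hm⟩ := syl_act (p := K.π ⟨x, AA_C hx⟩) (mem_AA.1 hx).1.2
  exact ⟨w, e, List.mem_filter.2 ⟨hm, List.all_eq_true.2 fun v hv => fixV_iff.2 (AA_fix S K hx e hv)⟩⟩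

/-- The listed words normalise the group. -/
theorem conj_AA {k : G} (hk : k ∈ Subgroup.centralizer ({t} : Set G)) {w : List ℕ} (hw : w ∈ nW)
    (e : permW w = K.π ⟨k, hk⟩) {a : G} (ha : a ∈ AA K) : k * a * k⁻¹ ∈ AA K := by
  have hki := Subgroup.inv_mem _ hk
  have hm : k * a * k⁻¹ ∈ Subgroup.centralizer ({t} : Set G) := mul_mem (mul_mem hk (AA_C ha)) hki
  obtain ⟨u, hu, hum⟩ := AA_word S K ha
  refine mem_AA.2 ⟨⟨hm, ?_⟩, fun q hq hv => ?_⟩
  · have h := List.all_eq_true.1 nW_ok w hw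
    rw [Bool.and_eq_true] at h
    have h2 := List.all_eq_true.1 h.2 _ hum
    rw [eConj_eW] at h2
    rw [pi_conj K hk (AA_C ha) hm, ← e, ← hu, ← permW_conj]
    exact syl_of h2
  · have e' : permW w.reverse = K.π ⟨k⁻¹, hki⟩ := by
      rw [permW_reverse, e, ← map_inv]; rfl
    have h := List.all_eq_true.1 nW_ok w.reverse (nW_rev hw)
    rw [Bool.and_eq_true] at h
    have hq' := S.norm k⁻¹ hki q hq
    rw [inv_inv] at hq'
    have hv' : K.c (k⁻¹ * q * k) ∈ W0 := by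
      have := c_conj K hki e' hq
      rw [inv_inv] at this
      rw [this]
      exact memN_iff.1 (List.all_eq_true.1 h.1 _ hv)
    have hc := (mem_AA.1 ha).2 _ hq' hv'
    calc q * (k * a * k⁻¹) = k * (k⁻¹ * q * k * a) * k⁻¹ := by group
      _ = _ := by rw [hc]; group

theorem conj_AA_iff {k : G} (hk : k ∈ Subgroup.centralizer ({t} : Set G)) {w : List ℕ} (hw : w ∈ nW)
    (e : permW w = K.π ⟨k, hk⟩) {a : G} : k * a * k⁻¹ ∈ AA K ↔ a ∈ AA K := by
  refine ⟨fun h => ?_, conj_AA S K hk hw e⟩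
  have := conj_AA S K (Subgroup.inv_mem _ hk) (nW_rev hw)
    (by rw [permW_reverse, e, ← map_inv]; rfl) h
  rwa [show k⁻¹ * (k * a * k⁻¹) * k⁻¹⁻¹ = a by group] at this

/-- An element of the subgroup over a word. -/
def Lift (H : Subgroup G) (w : List ℕ) : Prop :=
  ∃ y ∈ H, ∃ h : y ∈ Subgroup.centralizer ({t} : Set G), K.π ⟨y, h⟩ = permW w

theorem lift_double (H : Subgroup G) : ∀ (gs L : List (List ℕ)), (∀ g ∈ gs, Lift K H g) →
    (∀ l ∈ L, Lift K H l) → ∀ x ∈ double gs L, Lift K H x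
  | [], _, _, hL => hL
  | g :: gs, L, hg, hL => lift_double H gs _ (fun a ha => hg a (List.mem_cons_of_mem _ ha)) fun l hl => by
      rcases List.mem_append.1 hl with hl | hl
      · exact hL l hl
      · obtain ⟨u, hu, rfl⟩ := List.mem_map.1 hl
        obtain ⟨a, ha, ha', ea⟩ := hg g List.mem_cons_self
        obtain ⟨b, hb, hb', eb⟩ := hL u hu
        exact ⟨a * b, H.mul_mem ha hb, mul_mem ha' hb', by rw [pi_mul K ha' hb', ea, eb, permW_append]⟩

/-- A subgroup over the generators and containing the preimage of the subspace contains the group. -/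
theorem le_of_gens {H : Subgroup G} (hH : H ≤ AA K) (hq : ∀ q ∈ Q, K.c q ∈ W0 → q ∈ H)
    (hg : ∀ w ∈ fixGens, Lift K H w) : AA K ≤ H := by
  intro a ha
  obtain ⟨w, hw, hwm⟩ := AA_word S K ha
  obtain ⟨u, hu, hs⟩ := List.any_eq_true.1 (List.all_eq_true.1 fix_gen_ok.1 _ hwm)
  obtain ⟨y, hy, hy', ey⟩ := lift_double S K H fixGens [[]] hg
    (fun l hl => ⟨1, H.one_mem, one_mem _, by rw [List.mem_singleton.1 hl]; exact map_one K.π⟩) u hu
  have hQ : y⁻¹ * a ∈ Q := by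
    refine (K.ker ⟨y⁻¹ * a, mul_mem (inv_mem hy') (AA_C ha)⟩).1 ?_
    rw [pi_mul K (inv_mem hy') (AA_C ha), show (⟨y⁻¹, inv_mem hy'⟩ : ↥(Subgroup.centralizer ({t} : Set G))) =
      ⟨y, hy'⟩⁻¹ from rfl, map_inv, ey, ← hw, perm_of_sameK hs, inv_mul_cancel]
  have := H.mul_mem hy (hq _ hQ (AA_pre S K hQ ((AA K).mul_mem ((AA K).inv_mem (hH hy)) ha)))
  rwa [mul_inv_cancel_left] at this

end Basic

/-- The hypotheses of the last step. -/
structure Last (K : Coords t Q) : Prop where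
  S : Setup t Q
  nf : ¬ Fused t Q
  hR : ¬ RootConj t Q K
  hL : ∀ g' (P' : Pr K g'), permW y0W = K.π ⟨_, P'.mem⟩ →
    ∀ q ∈ Q, (∃ i < 64, ap fbase i = K.c q) → q * (g' * t * g'⁻¹) = g' * t * g'⁻¹ * q
  hT : ∀ g' (P' : Pr K g'), permW y0W = K.π ⟨_, P'.mem⟩ → ¬ IsK t (g' * t * g'⁻¹ * t)

/-- The central elements of order at most two. -/
def zTwo (K : Coords t Q) : Subgroup G where
  carrier := {a | a ∈ AA K ∧ (∀ c ∈ AA K, a * c = c * a) ∧ a * a = 1}
  one_mem' := ⟨one_mem _, fun c _ => by simp, one_mul 1⟩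
  mul_mem' := by
    rintro a c ⟨ha, ha', ha2⟩ ⟨hc, hc', hc2⟩
    refine ⟨mul_mem ha hc, fun d hd => ?_, ?_⟩
    · rw [mul_assoc, hc' d hd, ← mul_assoc, ha' d hd, mul_assoc]
    · rw [mul_assoc, ← mul_assoc c, ← ha' c hc, mul_assoc a c, hc2, mul_one, ha2]
  inv_mem' := by
    rintro a ⟨ha, ha', ha2⟩
    rw [inv_eq_of_mul_eq_one_right ha2]
    exact ⟨ha, ha', ha2⟩

namespace Last

variable {K : Coords t Q} (D : Last K)
include D

theorem pr_of {x : G} (hK : IsK t x) (hx : x ∈ Subgroup.centralizer ({t} : Set G))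
    (e : permW y0W = K.π ⟨x, hx⟩) :
    ∃ g', ∃ P' : Pr K g', g' * t * g'⁻¹ = x ∧ permW y0W = K.π ⟨_, P'.mem⟩ := by
  obtain ⟨g', rfl⟩ := hK
  refine ⟨g', ⟨D.S, D.nf, hx, fun h => ?_⟩, rfl, e⟩
  have hq : g' * t * g'⁻¹ ∈ Q := by rw [h]; exact na_mem D.S
  rw [(K.ker ⟨_, hx⟩).2 hq] at e
  have := sameK_id.2 e
  rw [y_syl.2.2] at this
  exact Bool.false_ne_true this

theorem L_of {x : G} (hK : IsK t x) (hx : x ∈ Subgroup.centralizer ({t} : Set G))
    (e : permW y0W = K.π ⟨x, hx⟩) {q : G} (hq : q ∈ Q) (h : ∃ i < 64, ap fbase i = K.c q) :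
    q * x = x * q := by
  obtain ⟨g', P', rfl, e'⟩ := D.pr_of hK hx e
  exact D.hL g' P' e' q hq h

theorem T_of {x : G} (hK : IsK t x) (hx : x ∈ Subgroup.centralizer ({t} : Set G))
    (e : permW y0W = K.π ⟨x, hx⟩) : ¬ IsK t (x * t) := by
  obtain ⟨g', P', rfl, e'⟩ := D.pr_of hK hx e
  exact D.hT g' P' e'

theorem mem_of_y0 {x : G} (hK : IsK t x) (hx : x ∈ Subgroup.centralizer ({t} : Set G))
    (e : permW y0W = K.π ⟨x, hx⟩) : x ∈ AA K :=
  mem_AA.2 ⟨⟨hx, e ▸ syl_of y_syl.1⟩, fun _ hq hv => D.L_of hK hx e hq (W0_span hv)⟩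

/-- Two conjugates over the first involution differ by an element over its plane. -/
theorem diff_l0 {u v : G} (hu : IsK t u) (huC : u ∈ Subgroup.centralizer ({t} : Set G))
    (eu : permW y0W = K.π ⟨u, huC⟩) (hv : IsK t v) (hvC : v ∈ Subgroup.centralizer ({t} : Set G))
    (ev : permW y0W = K.π ⟨v, hvC⟩) : u * v ∈ Q ∧ K.c (u * v) ∈ l0 := by
  have hQ : u * v ∈ Q := by
    refine (K.ker ⟨u * v, mul_mem huC hvC⟩).1 ?_
    rw [pi_mul K huC hvC, ← ev, eu, ← map_mul]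
    rw [← map_one K.π]
    exact congrArg K.π (Subtype.ext (hu.sq D.S))
  refine ⟨hQ, memN_iff.1 ?_⟩
  rw [beq_iff_eq.1 (List.all_eq_true.1 l0_perp _ (List.mem_range.2 (K.c_lt _ hQ))), List.all_eq_true]
  intro i hi
  obtain ⟨q, hq, e⟩ := K.c_surj (ap fbase i) (Nat.le_of_ble_eq_true (List.all_eq_true.1 fb_lt.1 i hi))
  have h1 := D.L_of hu huC eu hq ⟨i, List.mem_range.1 hi, e.symm⟩
  have h2 := D.L_of hv hvC ev hq ⟨i, List.mem_range.1 hi, e.symm⟩
  rw [← e, NA.Coord.bil_of D.S K hQ hq (by rw [mul_assoc, ← h2, ← mul_assoc, ← h1, mul_assoc])]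
  rfl

variable {b : G} (hb : IsK t b) (hbC : b ∈ Subgroup.centralizer ({t} : Set G))
  (hy : permW y0W = K.π ⟨b, hbC⟩)
include hb hy

/-- The involution commutes with its conjugates over disjoint planes. -/
theorem comm_disj {k : G} (hk : k ∈ Subgroup.centralizer ({t} : Set G)) {w : List ℕ} (hw : w ∈ disj)
    (e : permW w = K.π ⟨k, hk⟩) : b * (k * b * k⁻¹) = k * b * k⁻¹ * b := by
  set x := k * b * k⁻¹ with hx
  have hxC : x ∈ Subgroup.centralizer ({t} : Set G) := mul_mem (mul_mem hk hbC) (inv_mem hk)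
  have ex : K.π ⟨x, hxC⟩ = permW w * permW y0W * (permW w)⁻¹ := by
    rw [hy, e]; exact pi_conj K hk hbC hxC
  have hd := List.all_eq_true.1 disj_ok w hw
  simp only [Bool.and_eq_true] at hd
  have hc : permW y0W * (permW w * permW y0W * (permW w)⁻¹) = permW w * permW y0W * (permW w)⁻¹ * permW y0W := by
    have h := hd.1.2
    rw [eConj_eW, ← eW_append, ← eW_append] at h
    have h' := perm_of_sameK h
    rw [permW_append (w ++ y0W ++ w.reverse) y0W, permW_append y0W (w ++ y0W ++ w.reverse), permW_conj] at h'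
    exact h'.symm
  have hbb := hb.sq D.S
  have hxx : x * x = 1 := (hb.conj k).sq D.S
  have binv : b⁻¹ = b := inv_eq_of_mul_eq_one_right hbb
  have xinv : x⁻¹ = x := inv_eq_of_mul_eq_one_right hxx
  -- the conjugate of `b` by `x`
  have hu : IsK t (x * b * x⁻¹) := hb.conj x
  have huC : x * b * x⁻¹ ∈ Subgroup.centralizer ({t} : Set G) := mul_mem (mul_mem hxC hbC) (inv_mem hxC)
  have eu : permW y0W = K.π ⟨x * b * x⁻¹, huC⟩ := by
    rw [pi_conj K hxC hbC huC, ← hy, ex, ← hc, mul_inv_cancel_right]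
  obtain ⟨hdQ, hd1⟩ := D.diff_l0 hb hbC hy hu huC eu
  -- the conjugate of `x` by `b`, moved back
  set u2 := k⁻¹ * (b * x * b⁻¹) * k⁻¹⁻¹ with hu2
  have hki := Subgroup.inv_mem _ hk
  have hbx : b * x * b⁻¹ ∈ Subgroup.centralizer ({t} : Set G) := mul_mem (mul_mem hbC hxC) (inv_mem hbC)
  have hu2K : IsK t u2 := (((hb.conj k).conj b)).conj k⁻¹
  have hu2C : u2 ∈ Subgroup.centralizer ({t} : Set G) := mul_mem (mul_mem hki hbx) (inv_mem hki)
  have eu2 : permW y0W = K.π ⟨u2, hu2C⟩ := by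
    rw [pi_conj K hki hbx hu2C, pi_conj K hbC hxC hbx, ← hy, ex, hc, mul_inv_cancel_right,
      show (⟨k⁻¹, hki⟩ : ↥(Subgroup.centralizer ({t} : Set G))) = ⟨k, hk⟩⁻¹ from rfl, map_inv, ← e]
    group
  obtain ⟨hd2Q, hd2⟩ := D.diff_l0 hu2K hu2C eu2 hb hbC hy
  have key : b * (x * b * x⁻¹) = k * (u2 * b) * k⁻¹ := by
    calc b * (x * b * x⁻¹) = b * x * b⁻¹ * x := by rw [binv, xinv]; group
      _ = _ := by rw [hu2, hx]; group
  have hcd : K.c (b * (x * b * x⁻¹)) = ap (eW w).2 (K.c (u2 * b)) := by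
    rw [key]; exact c_conj K hk e hd2Q
  have h0 : K.c (b * (x * b * x⁻¹)) = 0 := by
    have h := List.all_eq_true.1 hd.2 _ hd2
    rw [Bool.or_eq_true, Bool.not_eq_true'] at h
    rcases h with h | h
    · rw [hcd, Nat.eq_of_beq_eq_true h, ap_zero]
    · rw [← hcd, memN_iff.2 hd1] at h
      simp at h
  rcases (K.c_ker _ hdQ).1 h0 with h | h
  · have h' := inv_eq_of_mul_eq_one_right h
    rw [binv] at h'
    exact (mul_inv_eq_iff_eq_mul.1 h'.symm).symm
  · exfalso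
    refine D.T_of hb hbC hy ?_
    rw [show b * t = x * b * x⁻¹ by rw [← h, ← mul_assoc, hbb, one_mul]]
    exact hu

theorem b_AA : b ∈ AA K := D.mem_of_y0 hb hbC hy

theorem gens_lift {H : Subgroup G} (hbH : b ∈ H)
    (hx : ∀ k (hk : k ∈ Subgroup.centralizer ({t} : Set G)) (w : List ℕ), w ∈ disj →
      permW w = K.π ⟨k, hk⟩ → k * b * k⁻¹ ∈ H) : ∀ w ∈ fixGens, Lift K H w := by
  intro w hw
  rcases List.mem_cons.1 hw with rfl | hw
  · exact ⟨b, hbH, hbC, hy.symm⟩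
  · obtain ⟨v, hv, rfl⟩ := List.mem_map.1 hw
    obtain ⟨⟨k, hk⟩, ek⟩ := exists_lift K v
    have hxC : k * b * k⁻¹ ∈ Subgroup.centralizer ({t} : Set G) := mul_mem (mul_mem hk hbC) (inv_mem hk)
    exact ⟨_, hx k hk v hv ek.symm, hxC, by rw [permW_conj, pi_conj K hk hbC hxC, ek, hy]⟩

theorem disj_nW {w : List ℕ} (hw : w ∈ disj) : w ∈ nW := by
  have hd := List.all_eq_true.1 disj_ok w hw
  simp only [Bool.and_eq_true] at hd
  obtain ⟨u, hu, e⟩ := List.any_eq_true.1 hd.1.1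
  exact List.mem_append_left _ (List.mem_append_left _ (beq_iff_eq.1 e ▸ hu))

theorem b_central {a : G} (ha : a ∈ AA K) : b * a = a * b := by
  have h := le_of_gens D.S K (H := AA K ⊓ Subgroup.centralizer {b}) inf_le_left
    (fun q hq hv => Subgroup.mem_inf.2 ⟨pre_AA D.S K hq hv, Subgroup.mem_centralizer_singleton_iff.2
      ((mem_AA.1 (D.b_AA hb hbC hy)).2 q hq hv)⟩)
    (D.gens_lift hb hbC hy (Subgroup.mem_inf.2 ⟨D.b_AA hb hbC hy, Subgroup.mem_centralizer_singleton_iff.2 rfl⟩)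
      fun k hk w hw e => Subgroup.mem_inf.2 ⟨conj_AA D.S K hk (D.disj_nW hb hbC hy hw) e (D.b_AA hb hbC hy),
        Subgroup.mem_centralizer_singleton_iff.2 (D.comm_disj hb hbC hy hk hw e).symm⟩) ha
  exact (Subgroup.mem_centralizer_singleton_iff.1 h.2).symm

theorem AA_zTwo : AA K ≤ zTwo K := by
  refine le_of_gens D.S K (fun a ha => ha.1) (fun q hq hv => ⟨pre_AA D.S K hq hv, fun c hc =>
    (mem_AA.1 hc).2 q hq hv, ?_⟩) (D.gens_lift hb hbC hy ⟨D.b_AA hb hbC hy, fun c hc => D.b_central hb hbC hy hc,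
      hb.sq D.S⟩ fun k hk w hw e => ⟨conj_AA D.S K hk (D.disj_nW hb hbC hy hw) e (D.b_AA hb hbC hy), ?_,
        (hb.conj k).sq D.S⟩)
  · rw [K.sq q hq, W0_sing hv]; rfl
  · intro c hc
    have hn := D.disj_nW hb hbC hy hw
    have hc' : k⁻¹ * c * k ∈ AA K := (conj_AA_iff D.S K hk hn e).1 (by
      rwa [show k * (k⁻¹ * c * k) * k⁻¹ = c by group])
    calc k * b * k⁻¹ * c = k * (b * (k⁻¹ * c * k)) * k⁻¹ := by group
      _ = _ := by rw [D.b_central hb hbC hy hc']; group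

theorem AA_sq {a : G} (ha : a ∈ AA K) : a * a = 1 := (D.AA_zTwo hb hbC hy ha).2.2

theorem AA_comm {a c : G} (ha : a ∈ AA K) (hc : c ∈ AA K) : a * c = c * a :=
  (D.AA_zTwo hb hbC hy ha).2.1 c hc

theorem card_AA : Nat.card ↥(AA K) = 1024 := by
  classical
  let U := (AA K).subgroupOf (Subgroup.centralizer ({t} : Set G))
  let f : ↥U →* Perm (Fin 63) := K.π.comp U.subtype
  have hle : AA K ≤ Subgroup.centralizer ({t} : Set G) := fun x hx => AA_C hx
  have hU : Nat.card ↥U = Nat.card ↥(AA K) := Nat.card_congr (Subgroup.subgroupOfEquivOfLe hle).toEquiv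
  have hr : ∀ p, p ∈ f.range ↔ p ∈ ((double fixGens [[]]).map permW).toFinset := by
    intro p
    rw [List.mem_toFinset, List.mem_map]
    constructor
    · rintro ⟨⟨⟨x, hx⟩, hxA⟩, rfl⟩
      obtain ⟨w, hw, hwm⟩ := AA_word D.S K hxA
      obtain ⟨u, hu, hs⟩ := List.any_eq_true.1 (List.all_eq_true.1 fix_gen_ok.1 _ hwm)
      exact ⟨u, hu, (perm_of_sameK hs).symm.trans hw⟩
    · rintro ⟨u, hu, rfl⟩
      obtain ⟨y, hy', hyC, ey⟩ := lift_double D.S K (AA K) fixGens [[]]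
        (D.gens_lift hb hbC hy (D.b_AA hb hbC hy) fun k hk w hw e =>
          conj_AA D.S K hk (D.disj_nW hb hbC hy hw) e (D.b_AA hb hbC hy))
        (fun l hl => ⟨1, one_mem _, one_mem _, by rw [List.mem_singleton.1 hl]; exact map_one K.π⟩) u hu
      exact ⟨⟨⟨y, hyC⟩, hy'⟩, ey⟩
  have hn : ((double fixGens [[]]).map permW).Nodup :=
    List.Nodup.map_on (fun u hu v hv h => List.inj_on_of_nodup_map fix_gen_ok.2.1 hu hv (permW_eq_iff.1 h))
      (List.Nodup.of_map _ fix_gen_ok.2.1)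
  have hrc : Nat.card ↥f.range = 32 := by
    rw [Nat.card_congr (Equiv.subtypeEquivRight hr), Nat.card_eq_finsetCard, List.toFinset_card_of_nodup hn,
      List.length_map, fix_gen_ok.2.2]
  have hk : Nat.card ↥f.ker = 32 := by
    refine Eq.trans ?_ (card_pre D.S K W0 W0_ok.2.1 fun v hv => W0_lt hv)
    refine Nat.card_congr
      { toFun := fun a => ⟨((a.1 : ↥U) : ↥(Subgroup.centralizer ({t} : Set G))),
          (K.ker _).1 a.2, AA_pre D.S K ((K.ker _).1 a.2) a.1.2⟩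
        invFun := fun q => ⟨⟨⟨q.1, D.S.le q.2.1⟩, pre_AA D.S K q.2.1 q.2.2⟩, (K.ker _).2 q.2.1⟩
        left_inv := fun a => rfl
        right_inv := fun q => rfl }
  rw [← hU, ← f.ker.card_mul_index, Subgroup.index_ker, hrc, hk]

end Last

/-! ### Uniqueness -/

/-- The search behind uniqueness, with the fixer of the subspace. -/
theorem uok_fix {X : Finset ℕ} (hX : SingSp X) {m : ℕ} (hm : m * X.card = 512) :
    ∀ (n : ℕ) (sp : List ℕ) (last : ℕ) (L : List Elt), uok n sp last L = true → St X sp last →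
      m ≤ (L.filter fun e => X.toList.all (fixV e)).length → ∀ v, v ∈ X ↔ v ∈ W0
  | n, sp, last, L, h, hst, hM => by
    have hX32 := hX.card_le
    have hmL : m ≤ L.length := hM.trans (List.length_filter_le _ _)
    have hsmall : Nat.blt L.length 32 = true → False := fun hb => by
      have hlt : L.length < 32 := Nat.le_of_ble_eq_true hb
      have hd : X.card ∣ 512 := Dvd.intro_left m hm
      have h16 : X.card ≤ 16 := by
        by_contra hh
        push Not at hh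
        exact (by decide : ∀ k < 32, 16 < k → ¬ k ∣ 512) _ hX32 hh hd
      nlinarith
    match n with
    | 0 => exact (hsmall h).elim
    | n + 1 =>
      simp only [uok, Bool.or_eq_true, Bool.and_eq_true] at h
      rcases h with h | ⟨h1, h2⟩
      · exact (hsmall h).elim
      by_cases hne : ∃ x ∈ X, x ∉ sp
      · obtain ⟨v, hv, hvX, hst'⟩ := hst.next hX hne
        refine uok_fix hX hm n _ v _ (List.all_eq_true.1 h2 v hv) hst' (hM.trans (le_of_eq ?_))
        rw [List.filter_filter]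
        refine congrArg List.length (List.filter_congr fun e _ => ?_)
        cases hq : X.toList.all (fixV e)
        · rfl
        · rw [List.all_eq_true.1 hq v (Finset.mem_toList.2 hvX)]; rfl
      · push Not at hne
        rcases h1 with h1 | h1
        · have hc := hst.card_eq hne
          have hlt : sp.length * L.length < 512 := Nat.le_of_ble_eq_true h1
          have := Nat.mul_le_mul_right X.card hmL
          rw [hc] at hm this
          nlinarith
        · simp only [isW0, Bool.and_eq_true, List.all_eq_true] at h1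
          exact fun u => ⟨fun hu => memN_iff.1 (h1.1 u (hne u hu)), fun hu => hst.sub u (memN_iff.1 (h1.2 u hu))⟩

/-- An elementary subgroup of order 1024 through `t` has a conjugate in the centraliser inside the group. -/
theorem conj_to_AA (S : Setup t Q) (K : Coords t Q) {E : Subgroup G} (hcard : Nat.card ↥E = 1024)
    (h2 : ∀ a ∈ E, a * a = 1) (ht : t ∈ E) :
    ∃ y ∈ Subgroup.centralizer ({t} : Set G), ∀ a ∈ E, y * a * y⁻¹ ∈ AA K := by
  classical
  have hcom : ∀ a ∈ E, ∀ c ∈ E, a * c = c * a := fun a ha c hc => by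
    have ea := inv_eq_of_mul_eq_one_right (h2 a ha)
    have ec := inv_eq_of_mul_eq_one_right (h2 c hc)
    have eac := inv_eq_of_mul_eq_one_right (h2 _ (E.mul_mem ha hc))
    rw [_root_.mul_inv_rev, ea, ec] at eac
    exact eac.symm
  have hC : E ≤ Subgroup.centralizer ({t} : Set G) := fun a ha => mem_C.2 (hcom a ha t ht)
  let P := (E.subgroupOf (Subgroup.centralizer {t})).map K.π
  have hP : P ≤ Sp63 := by
    rintro _ ⟨x, -, rfl⟩
    exact pi_mem K x
  have hP2 : IsPGroup 2 ↥P := by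
    rintro ⟨p, ⟨x, hx⟩, hxE, rfl⟩
    refine ⟨1, Subtype.ext ?_⟩
    show K.π ⟨x, hx⟩ ^ 2 ^ 1 = 1
    rw [pow_one, pow_two, ← map_mul, ← map_one K.π]
    exact congrArg K.π (Subtype.ext (h2 x hxE))
  obtain ⟨m, hm, hmS⟩ := exists_conj_Syl Syl_le le_rfl hP hP2
  obtain ⟨⟨y, hy⟩, ey⟩ := exists_perm_lift K hm
  refine ⟨y, hy, ?_⟩
  -- the conjugate
  let E' := E.map (MulAut.conj y).toMonoidHom
  have hE' : ∀ a, a ∈ E' ↔ ∃ e ∈ E, y * e * y⁻¹ = a := fun a => Subgroup.mem_map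
  have hC' : E' ≤ Subgroup.centralizer ({t} : Set G) := by
    intro a ha
    obtain ⟨e, he, rfl⟩ := (hE' a).1 ha
    exact mul_mem (mul_mem hy (hC he)) (inv_mem hy)
  have ht' : t ∈ E' := (hE' t).2 ⟨t, ht, by rw [mem_C.1 hy, mul_inv_cancel_right]⟩
  have h2' : ∀ a ∈ E', a * a = 1 := by
    intro a ha
    obtain ⟨e, he, rfl⟩ := (hE' a).1 ha
    rw [show y * e * y⁻¹ * (y * e * y⁻¹) = y * (e * e) * y⁻¹ by group, h2 e he]; group
  have hcom' : ∀ a ∈ E', ∀ c ∈ E', a * c = c * a := by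
    intro a ha c hc
    obtain ⟨e, he, rfl⟩ := (hE' a).1 ha
    obtain ⟨e', he', rfl⟩ := (hE' c).1 hc
    calc y * e * y⁻¹ * (y * e' * y⁻¹) = y * (e * e') * y⁻¹ := by group
      _ = _ := by rw [hcom e he e' he']; group
  have hsyl : ∀ a (ha : a ∈ E'), K.π ⟨a, hC' ha⟩ ∈ Syl := by
    intro a ha
    obtain ⟨e, he, rfl⟩ := (hE' a).1 ha
    rw [pi_conj K hy (hC he) (hC' ha), ey]
    exact hmS _ ⟨⟨e, hC he⟩, he, rfl⟩
  haveI : Finite ↥Q := finite_Q S
  have hfin : {v : ℕ | ∃ q ∈ Q, q ∈ E' ∧ K.c q = v}.Finite :=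
    (Set.finite_lt_nat 256).subset fun v ⟨q, hq, _, e⟩ => e ▸ K.c_lt q hq
  let X := hfin.toFinset
  have hXm : ∀ v, v ∈ X ↔ ∃ q ∈ Q, q ∈ E' ∧ K.c q = v := fun v => hfin.mem_toFinset
  have hX : SingSp X := by
    refine ⟨(hXm 0).2 ⟨t, na_mem S, ht', NA.Coord.c_t S K⟩, fun v hv => ?_, fun u hu v hv => ?_, fun v hv => ?_⟩
    · obtain ⟨q, hq, -, rfl⟩ := (hXm v).1 hv; exact K.c_lt q hq
    · obtain ⟨q, hq, hq', rfl⟩ := (hXm u).1 hu
      obtain ⟨r, hr, hr', rfl⟩ := (hXm v).1 hv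
      exact (hXm _).2 ⟨q * r, Q.mul_mem hq hr, E'.mul_mem hq' hr', K.c_mul q hq r hr⟩
    · obtain ⟨q, hq, hq', rfl⟩ := (hXm v).1 hv
      have h := K.sq q hq
      rw [h2' q hq'] at h
      exact NA.Setup.tw_inj S (h.symm.trans (NA.tw_false t).symm)
  have hpre : ∀ q ∈ Q, K.c q ∈ X → q ∈ E' := by
    intro q hq hv
    obtain ⟨r, hr, hr', e⟩ := (hXm _).1 hv
    obtain ⟨i, rfl⟩ := NA.Coord.eq_of_c S K hq hr e.symm
    refine E'.mul_mem hr' ?_
    cases i
    · exact E'.one_mem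
    · exact ht'
  let U := E'.subgroupOf (Subgroup.centralizer ({t} : Set G))
  let f : ↥U →* Perm (Fin 63) := K.π.comp U.subtype
  have hU : Nat.card ↥U = 1024 := by
    rw [Nat.card_congr (Subgroup.subgroupOfEquivOfLe hC').toEquiv]
    exact (Subgroup.card_map_of_injective (MulAut.conj y).injective).trans hcard
  have hk : Nat.card ↥f.ker = 2 * X.card := by
    rw [← Finset.length_toList, ← card_pre S K X.toList X.nodup_toList fun v hv => hX.lt v (Finset.mem_toList.1 hv)]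
    exact Nat.card_congr
      { toFun := fun a => ⟨((a.1 : ↥U) : ↥(Subgroup.centralizer ({t} : Set G))), (K.ker _).1 a.2,
          Finset.mem_toList.2 ((hXm _).2 ⟨_, (K.ker _).1 a.2, a.1.2, rfl⟩)⟩
        invFun := fun q => ⟨⟨⟨q.1, S.le q.2.1⟩, hpre _ q.2.1 (Finset.mem_toList.1 q.2.2)⟩, (K.ker _).2 q.2.1⟩
        left_inv := fun a => rfl
        right_inv := fun q => rfl }
  have hmX : Nat.card ↥f.range * X.card = 512 := by
    have := f.ker.card_mul_index
    rw [Subgroup.index_ker, hk, hU] at this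
    linarith
  let L := sylW.filter fun w => isInv (eW w) && X.toList.all (fixV (eW w))
  have hsub : ∀ p ∈ f.range, p ∈ (L.map permW).toFinset := by
    rintro _ ⟨⟨⟨a, ha⟩, haE⟩, rfl⟩
    obtain ⟨w, hw, e, -⟩ := syl_act (hsyl a haE)
    refine List.mem_toFinset.2 (List.mem_map.2 ⟨w, List.mem_filter.2 ⟨hw, Bool.and_eq_true_iff.2 ⟨?_, ?_⟩⟩, e⟩)
    · rw [isInv_iff, e, ← map_mul, ← map_one K.π]
      exact congrArg K.π (Subtype.ext (h2' a haE))
    · refine List.all_eq_true.2 fun v hv => fixV_iff.2 ?_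
      obtain ⟨q, hq, hq', rfl⟩ := (hXm v).1 (Finset.mem_toList.1 hv)
      rw [← c_conj K ha e hq, hcom' a haE q hq', mul_inv_cancel_right]
  have hmle : Nat.card ↥f.range ≤ (sylI.filter fun e => X.toList.all (fixV e)).length := by
    have e1 : (sylI.filter fun e => X.toList.all (fixV e)).length = L.length := by
      rw [sylI, sylE_eq, List.filter_filter, List.filter_map, List.length_map]
      exact congrArg List.length (List.filter_congr fun w _ => Bool.and_comm _ _)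
    rw [e1, ← L.length_map permW]
    refine le_trans ?_ (List.toFinset_card_le _)
    rw [← Nat.card_eq_finsetCard]
    exact Nat.card_le_card_of_injective (fun p => ⟨p.1, hsub p.1 p.2⟩)
      fun p q h => Subtype.ext (congrArg (fun x : ↥(L.map permW).toFinset => x.1) h)
  have hW := uok_fix hX hmX 5 [0] 0 sylI uok_root
    ⟨fun s hs => by rw [List.mem_singleton.1 hs]; exact hX.zero, List.nodup_singleton 0, List.mem_cons_self,
      fun a ha c hc => by rw [List.mem_singleton.1 ha, List.mem_singleton.1 hc]; simp,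
      fun x _ hx => Nat.pos_of_ne_zero fun e => hx (by rw [e]; exact List.mem_cons_self)⟩ hmle
  intro a ha
  have ha' : y * a * y⁻¹ ∈ E' := (hE' _).2 ⟨a, ha, rfl⟩
  exact mem_AA.2 ⟨⟨hC' ha', hsyl _ ha'⟩, fun q hq hv => hcom' q (hpre q hq ((hW _).2 hv)) _ ha'⟩

/-! ### The fibres -/

/-- The conjugates of `t` in the group over an element. -/
def Fib (K : Coords t Q) (p : Perm (Fin 63)) : Set G :=
  {x | x ∈ AA K ∧ IsK t x ∧ ∃ h : x ∈ Subgroup.centralizer ({t} : Set G), K.π ⟨x, h⟩ = p}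

theorem fib_conj (S : Setup t Q) (K : Coords t Q) {w : List ℕ} (hw : w ∈ nW) (u : List ℕ) :
    (Fib K (permW (w ++ u ++ w.reverse))).ncard = (Fib K (permW u)).ncard := by
  obtain ⟨⟨k, hk⟩, ek⟩ := exists_lift K w
  have e : Fib K (permW (w ++ u ++ w.reverse)) = (fun x => k * x * k⁻¹) '' Fib K (permW u) := by
    ext z
    rw [Set.mem_image, permW_conj, ← ek]
    constructor
    · rintro ⟨hz, hzK, hzC, ez⟩
      have e' : k * (k⁻¹ * z * k) * k⁻¹ = z := by group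
      have hK : IsK t (k⁻¹ * z * k) := by simpa using hzK.conj k⁻¹
      refine ⟨k⁻¹ * z * k, ⟨(conj_AA_iff S K hk hw ek.symm).1 (e'.symm ▸ hz), hK,
        mul_mem (mul_mem (inv_mem hk) hzC) hk, ?_⟩, e'⟩
      rw [pi_mul K (mul_mem (inv_mem hk) hzC) hk, pi_mul K (inv_mem hk) hzC,
        show (⟨k⁻¹, inv_mem hk⟩ : ↥(Subgroup.centralizer ({t} : Set G))) = ⟨k, hk⟩⁻¹ from rfl, map_inv, ez]
      group
    · rintro ⟨x, ⟨hx, hxK, hxC, ex⟩, rfl⟩
      exact ⟨conj_AA S K hk hw ek.symm hx, hxK.conj k, mul_mem (mul_mem hk hxC) (inv_mem hk),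
        by rw [pi_conj K hk hxC, ex]⟩
  rw [e]
  exact Set.ncard_image_of_injective _ fun a c h => by simpa using h

section Orbit

variable (S : Setup t Q) (K : Coords t Q)
include S

/-- Conjugation by `Q` inside a fibre. -/
theorem fib_shift {w : List ℕ} {x0 x : G} (hx0 : x0 ∈ Fib K (permW w)) (hx : x ∈ Fib K (permW w))
    (hcom : ∀ v < 256, Nat.xor (ap (eW w).2 v) v ∈ W0) {v : ℕ} (hv : v < 256) :
    ∃ q ∈ Q, q * x * q⁻¹ ∈ Fib K (permW w) ∧ x0⁻¹ * (q * x * q⁻¹) ∈ Q ∧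
      K.c (x0⁻¹ * (q * x * q⁻¹)) = K.c (x0⁻¹ * x) ^^^ Nat.xor (ap (eW w.reverse).2 v) v := by
  obtain ⟨hxA, hxK, hxC, ex⟩ := hx
  obtain ⟨-, -, h0C, e0⟩ := hx0
  obtain ⟨q, hq, rfl⟩ := K.c_surj v hv
  have hd : x0⁻¹ * x ∈ Q := by
    refine (K.ker ⟨_, mul_mem (inv_mem h0C) hxC⟩).1 ?_
    rw [pi_mul K (inv_mem h0C) hxC, show (⟨x0⁻¹, inv_mem h0C⟩ : ↥(Subgroup.centralizer ({t} : Set G))) =
      ⟨x0, h0C⟩⁻¹ from rfl, map_inv, e0, ex, inv_mul_cancel]
  have hi : K.π ⟨x⁻¹, inv_mem hxC⟩ = permW w.reverse := by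
    rw [permW_reverse, ← ex, ← map_inv]; rfl
  have hn := S.norm x⁻¹ (inv_mem hxC) q hq
  have he : x⁻¹ * q * x⁻¹⁻¹ * q⁻¹ ∈ Q := Q.mul_mem hn (Q.inv_mem hq)
  have ec : K.c (x⁻¹ * q * x⁻¹⁻¹ * q⁻¹) = Nat.xor (ap (eW w.reverse).2 (K.c q)) (K.c q) := by
    rw [K.c_mul _ hn _ (Q.inv_mem hq), c_conj K (inv_mem hxC) hi.symm hq, NA.Coord.c_inv S K hq]
    rfl
  have e : q * x * q⁻¹ = x * (x⁻¹ * q * x⁻¹⁻¹ * q⁻¹) := by group
  have hC : q * x * q⁻¹ ∈ Subgroup.centralizer ({t} : Set G) :=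
    mul_mem (mul_mem (S.le hq) hxC) (inv_mem (S.le hq))
  have hW : K.c (x⁻¹ * q * x⁻¹⁻¹ * q⁻¹) ∈ W0 := by
    have h := hcom _ (ap_eW_lt w.reverse (K.c q))
    rw [show ap (eW w).2 (ap (eW w.reverse).2 (K.c q)) = K.c q by
      conv_lhs => rw [← List.reverse_reverse w, List.reverse_reverse w.reverse]
      simpa using act_rev w.reverse (K.c_lt q hq)] at h
    rw [ec]
    rwa [show Nat.xor (ap (eW w.reverse).2 (K.c q)) (K.c q) =
      Nat.xor (K.c q) (ap (eW w.reverse).2 (K.c q)) from Nat.xor_comm _ _]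
  refine ⟨q, hq, ⟨e ▸ mul_mem hxA (pre_AA S K he hW), hxK.conj q, hC, ?_⟩, ?_, ?_⟩
  · rw [pi_conj K (S.le hq) hxC hC, (K.ker ⟨q, S.le hq⟩).2 hq, ex]; group
  · rw [e, ← mul_assoc]; exact Q.mul_mem hd he
  · rw [e, ← mul_assoc, K.c_mul _ hd _ he, ec]

theorem fib_diff {p : Perm (Fin 63)} {x0 x : G} (hx0 : x0 ∈ Fib K p) (hx : x ∈ Fib K p) :
    x0⁻¹ * x ∈ Q ∧ K.c (x0⁻¹ * x) ∈ W0 := by
  obtain ⟨hxA, -, hxC, ex⟩ := hx
  obtain ⟨h0A, -, h0C, e0⟩ := hx0
  have hd : x0⁻¹ * x ∈ Q := by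
    refine (K.ker ⟨_, mul_mem (inv_mem h0C) hxC⟩).1 ?_
    rw [pi_mul K (inv_mem h0C) hxC, show (⟨x0⁻¹, inv_mem h0C⟩ : ↥(Subgroup.centralizer ({t} : Set G))) =
      ⟨x0, h0C⟩⁻¹ from rfl, map_inv, e0, ex, inv_mul_cancel]
  exact ⟨hd, AA_pre S K hd (mul_mem (inv_mem h0A) hxA)⟩

/-- A fibre meets every class of a list of values once or twice. -/
theorem fib_count {w : List ℕ} (hcom : ∀ v < 256, Nat.xor (ap (eW w).2 v) v ∈ W0) {x0 : G}
    (hx0 : x0 ∈ Fib K (permW w)) (l : List ℕ) (hn : l.Nodup)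
    (hl : ∀ x ∈ Fib K (permW w), K.c (x0⁻¹ * x) ∈ l)
    (hs : ∀ u ∈ l, ∀ v ∈ l, ∃ a < 256, u ^^^ Nat.xor (ap (eW w.reverse).2 a) a = v) :
    ((∀ x ∈ Fib K (permW w), x * t ∉ Fib K (permW w)) ∧ (Fib K (permW w)).ncard = l.length) ∨
      ((∃ x ∈ Fib K (permW w), x * t ∈ Fib K (permW w)) ∧ (Fib K (permW w)).ncard = 2 * l.length) := by
  classical
  set F := Fib K (permW w) with hF
  have hd := fun x (hx : x ∈ F) => fib_diff S K hx0 hx
  have hreach : ∀ x ∈ F, ∀ v ∈ l, ∃ q ∈ Q, q * x * q⁻¹ ∈ F ∧ K.c (x0⁻¹ * (q * x * q⁻¹)) = v := by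
    intro x hx v hv
    obtain ⟨a, ha, e⟩ := hs _ (hl x hx) v hv
    obtain ⟨q, hq, hqF, -, hc⟩ := fib_shift S K hx0 hx hcom ha
    exact ⟨q, hq, hqF, hc.trans e⟩
  by_cases hp : ∃ x ∈ F, x * t ∈ F
  · right
    refine ⟨hp, ?_⟩
    obtain ⟨x, hx, hxt⟩ := hp
    have hall : ∀ e : {q : G // q ∈ Q ∧ K.c q ∈ l}, x0 * e.1 ∈ F := by
      rintro ⟨e, he, hev⟩
      obtain ⟨q, hq, hqF, hc⟩ := hreach x hx _ hev
      obtain ⟨i, hi⟩ := NA.Coord.eq_of_c S K he (fib_diff S K hx0 hqF).1 hc.symm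
      show x0 * e ∈ F
      rw [hi, ← mul_assoc, mul_inv_cancel_left]
      cases i
      · rwa [NA.tw_false, mul_one]
      · rw [NA.tw_true, show q * x * q⁻¹ * t = q * (x * t) * q⁻¹ by
          rw [mul_assoc (q * x), NA.Setup.na_comm S (Q.inv_mem hq)]; group]
        obtain ⟨hA, -, -, -⟩ := hqF
        obtain ⟨-, hxtK, hxtC, ext⟩ := hxt
        refine ⟨?_, hxtK.conj q, mul_mem (mul_mem (S.le hq) hxtC) (inv_mem (S.le hq)), ?_⟩
        · rw [show q * (x * t) * q⁻¹ = q * x * q⁻¹ * t by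
            rw [mul_assoc (q * x), NA.Setup.na_comm S (Q.inv_mem hq)]; group]
          exact mul_mem hA (t_AA S K)
        · rw [pi_conj K (S.le hq) hxtC, (K.ker ⟨q, S.le hq⟩).2 hq, ext]; group
    rw [← card_pre S K l hn fun v hv => by
      obtain ⟨q, hq, hqF, hc⟩ := hreach x hx v hv
      exact hc ▸ K.c_lt _ (fib_diff S K hx0 hqF).1, ← Nat.card_coe_set_eq]
    exact (Nat.card_congr
      { toFun := fun e => ⟨x0 * e.1, hall e⟩
        invFun := fun x => ⟨x0⁻¹ * x.1, (hd x.1 x.2).1, hl x.1 x.2⟩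
        left_inv := fun e => Subtype.ext (inv_mul_cancel_left x0 e.1)
        right_inv := fun x => Subtype.ext (mul_inv_cancel_left x0 x.1) }).symm
  · left
    push Not at hp
    refine ⟨hp, ?_⟩
    rw [← List.toFinset_card_of_nodup hn, ← Nat.card_eq_finsetCard, ← Nat.card_coe_set_eq]
    refine Nat.card_eq_of_bijective (fun x : ↥F => (⟨K.c (x0⁻¹ * x.1), List.mem_toFinset.2 (hl x.1 x.2)⟩ :
      ↥l.toFinset)) ⟨fun a c h => ?_, fun v => ?_⟩
    · obtain ⟨i, hi⟩ := NA.Coord.eq_of_c S K (hd c.1 c.2).1 (hd a.1 a.2).1 (congrArg Subtype.val h).symm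
      cases i
      · rw [NA.tw_false, mul_one] at hi
        exact Subtype.ext (mul_left_cancel hi).symm
      · rw [NA.tw_true, mul_assoc] at hi
        exact absurd (mul_left_cancel hi ▸ c.2) (hp a.1 a.2)
    · obtain ⟨q, hq, hqF, hc⟩ := hreach x0 hx0 v.1 (List.mem_toFinset.1 v.2)
      exact ⟨⟨_, hqF⟩, Subtype.ext hc⟩

end Orbit

theorem rev_ap (K : Coords t Q) {w : List ℕ} (h : sameK (eW w.reverse) (eW w) = true) {v : ℕ} (hv : v < 256) :
    ap (eW w.reverse).2 v = ap (eW w).2 v := act_unique K (perm_of_sameK h) hv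

theorem reach_of {w : List ℕ} (K : Coords t Q) (hi : sameK (eW w.reverse) (eW w) = true) {l : List ℕ}
    (hx : (l.all fun u => l.all fun v => memN l (Nat.xor u v)) = true)
    (hc : (l.all (memN (comL (eW w)))) = true) {u v : ℕ} (hu : u ∈ l) (hv : v ∈ l) :
    ∃ a < 256, u ^^^ Nat.xor (ap (eW w.reverse).2 a) a = v := by
  have huv := memN_iff.1 (List.all_eq_true.1 (List.all_eq_true.1 hx u hu) v hv)
  obtain ⟨a, ha, e⟩ := List.mem_map.1 (memN_iff.1 (List.all_eq_true.1 hc _ huv))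
  refine ⟨a, List.mem_range.1 ha, ?_⟩
  rw [rev_ap K hi (List.mem_range.1 ha), e]
  show u ^^^ (u ^^^ v) = v
  rw [← Nat.xor_assoc, Nat.xor_self, Nat.zero_xor]

theorem com_W0 {v : ℕ} (hv : v < 256) :
    Nat.xor (ap (eW y0W).2 v) v ∈ l0 ∧ Nat.xor (ap (eW y1W).2 v) v ∈ W0 := by
  have h0 := List.all_eq_true.1 y0_com.1 v (List.mem_range.2 hv)
  have h1 := List.all_eq_true.1 y1_com.1 v (List.mem_range.2 hv)
  rw [Bool.and_eq_true] at h0 h1
  exact ⟨memN_iff.1 h0.1, memN_iff.1 h1.1⟩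

theorem l0_W0 {v : ℕ} (hv : v ∈ l0) : v ∈ W0 := by
  have h := List.all_eq_true.1 y0_com.2.2.2.2 v hv
  rw [Bool.and_eq_true] at h
  exact memN_iff.1 h.1

namespace Last

variable {K : Coords t Q} (D : Last K) {b : G} (hb : IsK t b)
  (hbC : b ∈ Subgroup.centralizer ({t} : Set G)) (hy : permW y0W = K.π ⟨b, hbC⟩)
include D hb hy

theorem fib_y0 : (Fib K (permW y0W)).ncard = 4 := by
  have hb0 : b ∈ Fib K (permW y0W) := ⟨D.b_AA hb hbC hy, hb, hbC, hy.symm⟩
  have hl : ∀ x ∈ Fib K (permW y0W), K.c (b⁻¹ * x) ∈ l0 := by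
    rintro x ⟨-, hxK, hxC, ex⟩
    rw [inv_eq_of_mul_eq_one_right (hb.sq D.S)]
    exact (D.diff_l0 hb hbC hy hxK hxC ex.symm).2
  rcases fib_count D.S K (fun v hv => l0_W0 (com_W0 hv).1) hb0 l0 fb_lt.2.2 hl
      (fun u hu v hv => reach_of K y_inv.1 xor_closed.1 y0_com.2.1 hu hv) with ⟨-, h⟩ | ⟨⟨x, hx, hxt⟩, -⟩
  · rw [h, fb_lt.2.1]
  · obtain ⟨-, hxK, hxC, ex⟩ := hx
    exact absurd hxt.2.1 (D.T_of hxK hxC ex.symm)

theorem fib_y1 : (Fib K (permW y1W)).ncard ∈ [0, 16, 32] := by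
  rcases Set.eq_empty_or_nonempty (Fib K (permW y1W)) with h | ⟨x0, hx0⟩
  · rw [h, Set.ncard_empty]; exact List.mem_cons_self
  · rcases fib_count D.S K (fun v hv => (com_W0 hv).2) hx0 W0 W0_ok.2.1 (fun x hx => (fib_diff D.S K hx0 hx).2)
      (fun u hu v hv => reach_of K y_inv.2 xor_closed.2 y1_com.2.1 hu hv) with ⟨-, h⟩ | ⟨-, h⟩ <;>
      rw [h, W0_ok.1] <;> simp

theorem fib_one : Fib K (permW []) = {t} := by
  ext x
  refine ⟨fun ⟨_, hK, hC, e⟩ => nf_eq D.nf hK ((K.ker _).1 e), ?_⟩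
  rintro rfl
  exact ⟨t_AA D.S K, isK_self, D.S.le (na_mem D.S), (K.ker _).2 (na_mem D.S)⟩

theorem fib_tau : Fib K (permW tauW) = ∅ := by
  refine Set.eq_empty_iff_forall_notMem.2 fun x ⟨_, ⟨g, hg⟩, hC, e⟩ => D.hR ?_
  obtain ⟨p, hp, hs⟩ := List.any_eq_true.1 tau_root
  rw [eConj_eW] at hs
  subst hg
  refine ⟨g, hC, 0, permW p.2, permW_mem _, ?_⟩
  rw [e, ← perm_of_sameK hs, permW_conj, show permW [0] = tv 0 from mul_one _]

/-- The number of conjugates of `t` in the group. -/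
theorem card_X [Finite G] :
    Nat.card {x : G // x ∈ AA K ∧ IsK t x} ∈ [61, 301, 541] := by
  classical
  haveI := Fintype.ofFinite G
  let pv : G → Perm (Fin 63) := fun x => if h : x ∈ Subgroup.centralizer ({t} : Set G) then K.π ⟨x, h⟩ else 1
  let X := Finset.univ.filter fun x : G => x ∈ AA K ∧ IsK t x
  let Ps := fixClasses.map permW
  have hPn : Ps.Nodup := List.Nodup.map_on (fun u hu v hv h =>
    List.inj_on_of_nodup_map classes_ok.2.1 hu hv (permW_eq_iff.1 h)) (List.Nodup.of_map _ classes_ok.2.1)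
  have hmap : ∀ x ∈ X, pv x ∈ Ps.toFinset := by
    intro x hx
    obtain ⟨hxA, -⟩ := (Finset.mem_filter.1 hx).2
    obtain ⟨w, hw, hwm⟩ := AA_word D.S K hxA
    obtain ⟨u, hu, hs⟩ := List.any_eq_true.1 (List.all_eq_true.1 classes_ok.1 _ hwm)
    refine List.mem_toFinset.2 (List.mem_map.2 ⟨u, hu, ?_⟩)
    show _ = dite _ _ _
    rw [dif_pos (AA_C hxA), ← hw, perm_of_sameK hs]
  have hfib : ∀ p, (X.filter fun x => pv x = p).card = (Fib K p).ncard := by
    intro p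
    rw [← Set.ncard_coe_finset]
    refine congrArg Set.ncard (Set.ext fun x => ?_)
    simp only [Finset.mem_coe, Finset.mem_filter, Finset.mem_univ, true_and, X, pv]
    constructor
    · rintro ⟨⟨hA, hK⟩, e⟩
      rw [dif_pos (AA_C hA)] at e
      exact ⟨hA, hK, AA_C hA, e⟩
    · rintro ⟨hA, hK, hC, e⟩
      exact ⟨⟨hA, hK⟩, by rw [dif_pos hC]; exact e⟩
  have hsum : X.card = (Ps.map fun p => (Fib K p).ncard).sum := by
    rw [Finset.card_eq_sum_card_fiberwise hmap, ← List.sum_toFinset _ hPn]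
    exact Finset.sum_congr rfl fun p _ => hfib p
  have hu : ∀ (l : List (List ℕ)), (∀ w ∈ l, w ∈ nW) → ∀ u : List ℕ,
      (((l.map fun w => w ++ u ++ w.reverse).map permW).map fun p => (Fib K p).ncard).sum =
        l.length * (Fib K (permW u)).ncard := by
    intro l hl u
    induction l with
    | nil => simp
    | cons w l ih =>
      simp only [List.map_cons, List.sum_cons, List.length_cons]
      rw [ih fun v hv => hl v (List.mem_cons_of_mem _ hv), fib_conj D.S K (hl w List.mem_cons_self) u]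
      ring
  have hn : Nat.card {x : G // x ∈ AA K ∧ IsK t x} = X.card := by
    rw [Nat.card_eq_fintype_card, Fintype.card_subtype]
  have h0 : Ps = permW [] :: permW tauW :: ((u315.map fun w => w ++ y0W ++ w.reverse).map permW ++
      (u945.map fun w => w ++ y1W ++ w.reverse).map permW) := by
    simp only [Ps, fixClasses, List.map_cons, List.map_append, List.cons_append]
  rw [hn, hsum, h0, List.map_cons, List.map_cons, List.map_append, List.sum_cons, List.sum_cons, List.sum_append,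
    hu u315 (fun w hw => List.mem_append_left _ (List.mem_append_left _ hw)) y0W,
    hu u945 (fun w hw => List.mem_append_left _ (List.mem_append_right _ hw)) y1W,
    D.fib_one hb hbC hy, D.fib_tau hb hbC hy, Set.ncard_singleton, Set.ncard_empty,
    D.fib_y0 hb hbC hy, classes_ok.2.2.1, classes_ok.2.2.2]
  have := D.fib_y1 hb hbC hy
  simp only [List.mem_cons, List.not_mem_nil, or_false] at this ⊢
  omega

theorem card_X_dvd [Finite G] :
    Nat.card {x : G // x ∈ AA K ∧ IsK t x} ∣ Nat.card ↥(Subgroup.normalizer (AA K : Set G)) := by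
  let N := Subgroup.normalizer (AA K : Set G)
  let Ω := {x : G // x ∈ AA K ∧ IsK t x}
  have hA : ∀ (n : ↥N) (x : G), x ∈ AA K → (n : G) * x * (n : G)⁻¹ ∈ AA K := fun n x hx =>
    (Subgroup.mem_normalizer_iff.1 n.2 x).1 hx
  letI : MulAction ↥N Ω :=
    { smul := fun n x => ⟨(n : G) * x.1 * (n : G)⁻¹, hA n x.1 x.2.1, x.2.2.conj _⟩
      one_smul := fun x => Subtype.ext (by show (1 : G) * x.1 * 1⁻¹ = x.1; group)
      mul_smul := fun n m x => Subtype.ext (by
        show ((n : G) * m) * x.1 * ((n : G) * m)⁻¹ = n * (m * x.1 * (m : G)⁻¹) * (n : G)⁻¹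
        group) }
  let o : Ω := ⟨t, t_AA D.S K, isK_self⟩
  have key : ∀ x : Ω, ∃ n : ↥N, n • o = x := by
    rintro ⟨x, hxA, h, hh⟩
    let E := (AA K).map (MulAut.conj h⁻¹).toMonoidHom
    have hE : ∀ a, a ∈ E ↔ ∃ c ∈ AA K, h⁻¹ * c * h⁻¹⁻¹ = a := fun a => Subgroup.mem_map
    obtain ⟨y, hy', hyE⟩ := conj_to_AA D.S K (E := E)
      ((Subgroup.card_map_of_injective (MulAut.conj h⁻¹).injective).trans (D.card_AA hb hbC hy))
      (fun a ha => by
        obtain ⟨c, hc, rfl⟩ := (hE a).1 ha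
        rw [show h⁻¹ * c * h⁻¹⁻¹ * (h⁻¹ * c * h⁻¹⁻¹) = h⁻¹ * (c * c) * h by group, D.AA_sq hb hbC hy hc]; group)
      ((hE t).2 ⟨x, hxA, by rw [← hh]; group⟩)
    have hsub : ∀ a ∈ AA K, y * h⁻¹ * a * (y * h⁻¹)⁻¹ ∈ AA K := by
      intro a ha
      have := hyE _ ((hE _).2 ⟨a, ha, rfl⟩)
      rwa [show y * (h⁻¹ * a * h⁻¹⁻¹) * y⁻¹ = y * h⁻¹ * a * (y * h⁻¹)⁻¹ by group] at this
    have hN : y * h⁻¹ ∈ N := by
      refine Subgroup.mem_normalizer_iff.2 fun a => ⟨hsub a, fun ha => ?_⟩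
      have hm : (AA K).map (MulAut.conj (y * h⁻¹)).toMonoidHom = AA K := by
        refine Subgroup.eq_of_le_of_card_ge ?_ (le_of_eq (Subgroup.card_map_of_injective
          (MulAut.conj (y * h⁻¹)).injective).symm)
        rintro _ ⟨c, hc, rfl⟩
        exact hsub c hc
      rw [← hm] at ha
      obtain ⟨c, hc, e⟩ := ha
      exact (MulAut.conj (y * h⁻¹)).injective e ▸ hc
    refine ⟨(⟨y * h⁻¹, hN⟩ : ↥N)⁻¹, Subtype.ext ?_⟩
    show (y * h⁻¹)⁻¹ * t * (y * h⁻¹)⁻¹⁻¹ = x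
    rw [← hh, _root_.mul_inv_rev, inv_inv, show h * y⁻¹ * t * (h * y⁻¹)⁻¹ = h * (y⁻¹ * t) * y * h⁻¹ by group,
      mem_C.1 (inv_mem hy')]
    group
  haveI : MulAction.IsPretransitive ↥N Ω := ⟨fun a c => by
    obtain ⟨n, rfl⟩ := key a
    obtain ⟨m, rfl⟩ := key c
    exact ⟨m * n⁻¹, by rw [mul_smul, inv_smul_smul]⟩⟩
  have := (MulAction.stabilizer ↥N o).index_dvd_card
  rwa [MulAction.index_stabilizer_of_transitive] at this

theorem no_prime [Finite G] {p : ℕ} (hp : p.Prime) (hd : p ∣ Nat.card ↥(Subgroup.normalizer (AA K : Set G)))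
    (hpC : ¬ p ∣ 512 * 1451520) (hp2 : ∀ j < 10, 1024 % p ≠ 2 ^ j % p) : False := by
  classical
  haveI : Fact p.Prime := ⟨hp⟩
  obtain ⟨⟨u, hu⟩, hou⟩ := exists_prime_orderOf_dvd_card' p hd
  rw [Subgroup.orderOf_mk] at hou
  let Z := Subgroup.zpowers u
  have hZ : ∀ z : ↥Z, (z : G) ∈ Subgroup.normalizer (AA K : Set G) := fun z =>
    Subgroup.zpowers_le.2 hu z.2
  letI : MulAction ↥Z ↥(AA K) :=
    { smul := fun z x => ⟨(z : G) * x.1 * (z : G)⁻¹, (Subgroup.mem_normalizer_iff.1 (hZ z) x.1).1 x.2⟩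
      one_smul := fun x => Subtype.ext (by show (1 : G) * x.1 * 1⁻¹ = x.1; group)
      mul_smul := fun n m x => Subtype.ext (by
        show ((n : G) * m) * x.1 * ((n : G) * m)⁻¹ = n * (m * x.1 * (m : G)⁻¹) * (n : G)⁻¹
        group) }
  have hZp : IsPGroup p ↥Z := IsPGroup.of_card (n := 1) (by rw [Nat.card_zpowers, hou, pow_one])
  have hmod := hZp.card_modEq_card_fixedPoints ↥(AA K)
  have hfix : Nat.card (MulAction.fixedPoints ↥Z ↥(AA K)) = Nat.card ↥(AA K ⊓ Subgroup.centralizer {u}) := by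
    refine Nat.card_congr
      { toFun := fun x => ⟨x.1.1, Subgroup.mem_inf.2 ⟨x.1.2, Subgroup.mem_centralizer_singleton_iff.2 ?_⟩⟩
        invFun := fun x => ⟨⟨x.1, (Subgroup.mem_inf.1 x.2).1⟩, ?_⟩
        left_inv := fun x => rfl
        right_inv := fun x => rfl }
    · have h : u * x.1.1 * u⁻¹ = x.1.1 := congrArg Subtype.val (x.2 ⟨u, Subgroup.mem_zpowers u⟩)
      exact (mul_inv_eq_iff_eq_mul.1 h).symm
    · rintro ⟨z, i, rfl⟩
      refine Subtype.ext ?_
      show u ^ i * x.1 * (u ^ i)⁻¹ = x.1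
      have h : Commute u x.1 := (Subgroup.mem_centralizer_singleton_iff.1 (Subgroup.mem_inf.1 x.2).2).symm
      rw [(h.zpow_left i).eq, mul_inv_cancel_right]
  rw [hfix, D.card_AA hb hbC hy] at hmod
  have hdvd : Nat.card ↥(AA K ⊓ Subgroup.centralizer {u}) ∣ 2 ^ 10 :=
    (show 1024 = 2 ^ 10 by norm_num) ▸ (D.card_AA hb hbC hy) ▸
      Subgroup.card_dvd_of_le (inf_le_left : AA K ⊓ Subgroup.centralizer {u} ≤ AA K)
  obtain ⟨j, hj, hcard⟩ := (Nat.dvd_prime_pow Nat.prime_two).1 hdvd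
  rcases Nat.lt_or_ge j 10 with hj' | hj'
  · exact hp2 j hj' (hcard ▸ hmod)
  · obtain rfl : j = 10 := le_antisymm hj hj'
    have he : AA K ⊓ Subgroup.centralizer {u} = AA K := Subgroup.eq_of_le_of_card_ge inf_le_left
      (by rw [hcard, D.card_AA hb hbC hy]; norm_num)
    have ht : t ∈ AA K ⊓ Subgroup.centralizer {u} := he.symm ▸ t_AA D.S K
    have huC : u ∈ Subgroup.centralizer ({t} : Set G) :=
      mem_C.2 (Subgroup.mem_centralizer_singleton_iff.1 (Subgroup.mem_inf.1 ht).2).symm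
    rw [← card_C D.S K, ← hou] at hpC
    exact hpC ((Subgroup.centralizer ({t} : Set G)).orderOf_dvd_natCard huC)

end Last

/-- **No conjugate over the first involution**: when conjugates of `t` avoid `Q` and the transvections, commute with
the fixed space of the first involution and are unfused with their products by `t`, none lies over that involution. -/
theorem first_contra [Finite G] (S : Setup t Q) (K : Coords t Q) (nf : ¬ Fused t Q)
    (hR : ¬ RootConj t Q K) {g : G} (P : Pr K g) (hw : permW y0W = K.π ⟨_, P.mem⟩)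
    (hL : ∀ g' (P' : Pr K g'), permW y0W = K.π ⟨_, P'.mem⟩ →
      ∀ q ∈ Q, (∃ i < 64, ap fbase i = K.c q) → q * (g' * t * g'⁻¹) = g' * t * g'⁻¹ * q)
    (hT : ∀ g' (P' : Pr K g'), permW y0W = K.π ⟨_, P'.mem⟩ → ¬ IsK t (g' * t * g'⁻¹ * t)) : False := by
  have D : Last K := ⟨S, nf, hR, hL, hT⟩
  have hb : IsK t (g * t * g⁻¹) := ⟨g, rfl⟩
  have h := D.card_X_dvd hb P.mem hw
  have hX := D.card_X hb P.mem hw
  simp only [List.mem_cons, List.not_mem_nil, or_false] at hX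
  rcases hX with e | e | e <;> rw [e] at h
  · exact D.no_prime hb P.mem hw (by norm_num) h (by norm_num) (by decide)
  · exact D.no_prime hb P.mem hw (p := 43) (by norm_num) (dvd_trans (by norm_num) h) (by norm_num) (by decide)
  · exact D.no_prime hb P.mem hw (by norm_num) h (by norm_num) (by decide)

end Cfsg.Agent.Co2Recog.Two
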