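import Cfsg.Agent.Lib.Co2Recog.Plain
import Cfsg.Agent.Lib.Co2Recog.ChecksLam
import Cfsg.Agent.Lib.Co2Recog.ChecksFirst

/-!
A conjugate acting as the first standard involution centralises the preimage of its fixed space, and its product
with `t` is no conjugate of `t`, unless some conjugate acts as a transvection.
-/

set_option autoImplicit false
set_option maxRecDepth 100000

namespace Cfsg.Agent.Co2Recog.Two

open Equiv
open Cfsg.Agent.ThRec.Eight (ap ap_xor ap_zero odd odd_eq)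
open NA (eq_of_xor lt8)

variable {G : Type*} [Group G] {t : G} {Q : Subgroup G} {K : Coords t Q} {g : G}

/-- The mask of a functional on a basis. -/
def maskB (L : ℕ → Bool) : List ℕ → ℕ
  | [] => 0
  | x :: M => Nat.bit (L x) (maskB L M)

theorem maskB_lt (L : ℕ → Bool) : ∀ M, maskB L M < 2 ^ M.length
  | [] => Nat.one_pos
  | x :: M => by
    have := maskB_lt L M
    rw [maskB, List.length_cons, Nat.bit_val, pow_succ]
    cases L x <;> simp <;> omega

theorem parM_mask {P : ℕ → Prop} {L : ℕ → Bool} (h0 : P 0) (hL0 : L 0 = false)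
    (hP : ∀ u v, P u → P v → P (u ^^^ v)) (hL : ∀ u v, P u → P v → L (u ^^^ v) = (L u ^^ L v)) :
    ∀ (M : List ℕ), (∀ x ∈ M, P x) → ∀ i, P (ap M i) ∧ L (ap M i) = parM M.length (maskB L M) i
  | [], _, _ => ⟨h0, hL0⟩
  | x :: M, hM, i => by
    obtain ⟨hp, he⟩ := parM_mask h0 hL0 hP hL M (fun y hy => hM y (List.mem_cons_of_mem _ hy)) (i / 2)
    have hx : P (cond (odd i) x 0) ∧ L (cond (odd i) x 0) = (L x && odd i) := by
      cases odd i
      · exact ⟨h0, by simp [hL0]⟩
      · exact ⟨hM x List.mem_cons_self, by simp⟩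
    have ho : odd (maskB L (x :: M)) = L x := by rw [maskB, odd_eq, Nat.testBit_bit_zero]
    have hd : Nat.div (maskB L (x :: M)) 2 = maskB L M := by
      show maskB L (x :: M) / 2 = _
      rw [maskB]; cases L x <;> simp [Nat.bit_val] <;> omega
    rw [ThRec.Eight.ap_cons, List.length_cons, parM, ho, hd]
    exact ⟨hP _ _ hx.1 hp, by rw [hL _ _ hx.1 hp, hx.2, he]; rfl⟩

/-- A conjugate centralises what it fixes modulo `t`. -/
def LZero (t : G) (Q : Subgroup G) (g : G) : Prop :=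
  ∀ q ∈ Q, ∀ e, g * t * g⁻¹ * q * (g * t * g⁻¹)⁻¹ = q * tw t e → e = false

theorem isK_conj_iff {x y : G} : IsK t (y * x * y⁻¹) ↔ IsK t x := by
  refine ⟨fun h => ?_, fun h => h.conj y⟩
  have := h.conj y⁻¹
  rwa [show y⁻¹ * (y * x * y⁻¹) * y⁻¹⁻¹ = x by group] at this

namespace Pr

variable (P : Pr K g)
include P

theorem card_YY_move {x : G} (hx : x ∈ Subgroup.centralizer ({t} : Set G)) :
    Nat.card ↥(YY t Q (x * g)) = Nat.card ↥(YY t Q g) := by
  have key : ∀ y, y ∈ YY t Q (x * g) ↔ x⁻¹ * y * x ∈ YY t Q g := by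
    intro y
    rw [mem_YY, mem_YY]
    refine and_congr ⟨fun h => ?_, fun h => ?_⟩ ⟨fun h => ?_, fun h => ?_⟩
    · have := P.S.norm _ (inv_mem hx) y h
      rwa [inv_inv] at this
    · have := P.S.norm _ hx _ h
      rwa [show x * (x⁻¹ * y * x) * x⁻¹ = y by group] at this
    · calc x⁻¹ * y * x * (g * t * g⁻¹) = x⁻¹ * (y * (x * g * t * (x * g)⁻¹)) * x := by group
        _ = _ := by rw [h]; group
    · calc y * (x * g * t * (x * g)⁻¹) = x * (x⁻¹ * y * x * (g * t * g⁻¹)) * x⁻¹ := by group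
        _ = _ := by rw [h]; group
  exact Nat.card_congr
    { toFun := fun y => ⟨x⁻¹ * y.1 * x, (key _).1 y.2⟩
      invFun := fun y => ⟨x * y.1 * x⁻¹, (key _).2 (by
        rw [show x⁻¹ * (x * y.1 * x⁻¹) * x = y.1 by group]; exact y.2)⟩
      left_inv := fun y => Subtype.ext (by simp [mul_assoc])
      right_inv := fun y => Subtype.ext (by simp [mul_assoc]) }

theorem card_YY_16 : 16 ≤ Nat.card ↥(YY t Q g) := by
  obtain ⟨m, hm, w, hw, e, h2, -⟩ := P.exists_rep
  obtain ⟨x, hx, P', e'⟩ := P.move_to hm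
  rw [← P.card_YY_move hx]
  refine le_trans ?_ (P'.card_YY_ge (e.trans e'.symm) (List.nodup_range.filter (fixV (eW w))) fun v hv =>
    ⟨List.mem_range.1 (List.mem_filter.1 hv).1, (List.mem_filter.1 hv).2⟩)
  exact Nat.le_of_ble_eq_true (List.all_eq_true.1 fix_count _ (mem_sylI hw h2))

theorem imZ_2group : IsPGroup 2 P.imZ := by
  have hc : Nat.card ↥(RR Q g) = 2 ^ 9 := by
    rw [← show Nat.card ↥Q = 2 ^ 9 by rw [P.S.card]; norm_num]
    exact Nat.card_congr
      { toFun := fun x => ⟨g⁻¹ * x.1 * g, mem_RR.1 x.2⟩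
        invFun := fun y => ⟨g * y.1 * g⁻¹, mem_RR.2 (by
          rw [show g⁻¹ * (g * y.1 * g⁻¹) * g = y.1 by group]; exact y.2)⟩
        left_inv := fun x => Subtype.ext (by simp [mul_assoc])
        right_inv := fun y => Subtype.ext (by simp [mul_assoc]) }
  have h1 : IsPGroup 2 ↥(ZZ t Q g) := (IsPGroup.of_card hc).to_le inf_le_left
  exact (h1.of_equiv (Subgroup.subgroupOfEquivOfLe (inf_le_right : ZZ t Q g ≤ _)).symm).map K.π

theorem imZ_le_cent {w : List ℕ} (hw : permW w = K.π ⟨_, P.mem⟩) :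
    P.imZ ≤ Sp63 ⊓ Subgroup.centralizer {permW w} := by
  refine le_inf P.imZ_le fun p hp' => Subgroup.mem_centralizer_singleton_iff.2 ?_
  obtain ⟨z, hz, rfl⟩ := P.mem_imZ.1 hp'
  rw [hw, ← map_mul, ← map_mul]
  exact congrArg K.π (Subtype.ext (P.RR_comm (Subgroup.mem_inf.1 hz).1))

end Pr

theorem Syl_le_cent_y0 : Syl ≤ Sp63 ⊓ Subgroup.centralizer {permW y0W} := by
  refine le_inf Syl_le fun p hp' => Subgroup.mem_centralizer_singleton_iff.2 ?_
  obtain ⟨w, hw, rfl⟩ := hp'
  have step : ∀ gs L, (∀ a ∈ gs, a ∈ sylGens) → (∀ u ∈ L, permW u * permW y0W = permW y0W * permW u) →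
      ∀ u ∈ double gs L, permW u * permW y0W = permW y0W * permW u := by
    intro gs
    induction gs with
    | nil => exact fun L _ hL => hL
    | cons a gs ih =>
      intro L ha hL
      refine ih _ (fun b hb => ha b (List.mem_cons_of_mem _ hb)) fun u hu => ?_
      rcases List.mem_append.1 hu with hu | hu
      · exact hL u hu
      · obtain ⟨v, hv, rfl⟩ := List.mem_map.1 hu
        have hc := List.all_eq_true.1 y_central a (ha a List.mem_cons_self)
        rw [Bool.and_eq_true, ← eW_append, ← eW_append, ← eW_append, ← eW_append, sameK_iff, sameK_iff,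
          permW_append, permW_append, permW_append, permW_append] at hc
        rw [permW_append, mul_assoc, hL v hv, ← mul_assoc, hc.1, mul_assoc]
  exact step sylGens [[]] (fun _ h => h)
    (fun u hu => by rw [List.mem_singleton.1 hu]; exact (one_mul _).trans (mul_one _).symm) w hw

theorem y0_fix_span {v : ℕ} (hv : v < 256) (h : fixV (eW y0W) v = true) : ∃ i < 64, ap fbase i = v := by
  have h0 := List.all_eq_true.1 y0_com.1 v (List.mem_range.2 hv)
  simp only [Bool.and_eq_true, Bool.or_eq_true, Bool.not_eq_true', h, Bool.true_eq_false, false_or,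
    List.any_eq_true, List.mem_range] at h0
  obtain ⟨i, hi, e⟩ := h0.2
  exact ⟨i, hi, Nat.eq_of_beq_eq_true e⟩

namespace Pr

variable (P : Pr K g) (hw : permW y0W = K.π ⟨_, P.mem⟩)
include P hw

/-- A vector of the plane of commutators lifts to commutators. -/
theorem lift_l0 {y : G} (hy : y ∈ Q) (h : memN l0 (K.c y) = true) :
    ∃ q ∈ Q, ∃ e, y = mm t g q * tw t e :=
  P.lift_mm hw hy (List.all_eq_true.1 y0_com.2.1 _ (memN_iff.1 h))

/-- The facts, when the image of `Z` lies in the Sylow subgroup. -/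
theorem first_aux (hR : ¬ RootConj t Q K) (hS : ∀ p ∈ P.imZ, p ∈ Syl) :
    LZero t Q g ∧ ¬ IsK t (g * t * g⁻¹ * t) := by
  classical
  let Fx : ℕ → Prop := fun v => v < 256 ∧ fixV (eW y0W) v = true
  let L : ℕ → Bool := fun v => decide (∃ q ∈ Q, K.c q = v ∧ g * t * g⁻¹ * q * (g * t * g⁻¹)⁻¹ ≠ q)
  have hb1 : ∀ e, g * t * g⁻¹ * tw t e * (g * t * g⁻¹)⁻¹ = tw t e := fun e => NA.Setup.conj_tw P.S P.bt e
  have Leq : ∀ {q}, q ∈ Q → fixV (eW y0W) (K.c q) = true →
      g * t * g⁻¹ * q * (g * t * g⁻¹)⁻¹ = q * tw t (L (K.c q)) := by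
    intro q hq hf
    obtain ⟨e, he⟩ := P.fix_tw hw hq hf
    suffices L (K.c q) = e by rw [this, he]
    cases e
    · simp only [L, decide_eq_false_iff_not, not_exists, not_and, not_not]
      intro r hr hc
      obtain ⟨e', rfl⟩ := NA.Coord.eq_of_c P.S K hr hq hc
      rw [NA.tw_false, mul_one] at he
      calc g * t * g⁻¹ * (q * tw t e') * (g * t * g⁻¹)⁻¹
          = (g * t * g⁻¹ * q * (g * t * g⁻¹)⁻¹) * (g * t * g⁻¹ * tw t e' * (g * t * g⁻¹)⁻¹) := by group
        _ = _ := by rw [he, hb1]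
    · simp only [L, decide_eq_true_eq]
      refine ⟨q, hq, rfl, ?_⟩
      rw [he, NA.tw_true, Ne, mul_eq_left]
      exact NA.Setup.na_ne P.S
  have Fadd : ∀ u v, Fx u → Fx v → Fx (u ^^^ v) := fun u v hu hv =>
    ⟨lt8 hu.1 hv.1, by
      rw [fixV, ap_xor, Nat.eq_of_beq_eq_true hu.2, Nat.eq_of_beq_eq_true hv.2]
      exact Nat.beq_refl _⟩
  have Ladd : ∀ u v, Fx u → Fx v → L (u ^^^ v) = (L u ^^ L v) := by
    intro u v hu hv
    obtain ⟨q, hq, rfl⟩ := K.c_surj u hu.1
    obtain ⟨r, hr, rfl⟩ := K.c_surj v hv.1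
    have hf := (Fadd _ _ hu hv).2
    rw [← K.c_mul q hq r hr] at hf ⊢
    apply NA.Setup.tw_inj P.S
    have h := Leq (Q.mul_mem hq hr) hf
    rw [show g * t * g⁻¹ * (q * r) * (g * t * g⁻¹)⁻¹ = (g * t * g⁻¹ * q * (g * t * g⁻¹)⁻¹) *
      (g * t * g⁻¹ * r * (g * t * g⁻¹)⁻¹) by group, Leq hq hu.2, Leq hr hv.2,
      show q * tw t (L (K.c q)) * (r * tw t (L (K.c r))) = q * (tw t (L (K.c q)) * r) * tw t (L (K.c r)) by group,
      ← NA.Setup.tw_comm P.S (NA.Setup.na_comm P.S hr), ← mul_assoc, mul_assoc (q * r), NA.Setup.tw_mul P.S] at h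
    exact (mul_left_cancel h).symm
  have F0 : Fx 0 := ⟨by norm_num, by rw [fixV, ap_zero]; exact Nat.beq_refl _⟩
  have L0 : L 0 = false := by
    have := Ladd 0 0 F0 F0
    simpa using this
  have hbase : ∀ x ∈ fbase, Fx x := fun x hx =>
    ⟨(by decide +kernel : ∀ x ∈ fbase, x < 256) x hx, List.all_eq_true.1 y0_com.2.2.1 x hx⟩
  have key := parM_mask F0 L0 Fadd Ladd fbase hbase
  set c := maskB L fbase with hc
  have hlen : fbase.length = 6 := by decide +kernel
  simp only [hlen] at key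
  have hc64 : c < 64 := lt_of_lt_of_eq (maskB_lt L fbase) (by rw [hlen]; norm_num)
  set H := hOf fbase c with hH
  have memH : ∀ {y}, y ∈ YY t Q g → K.c y ∈ H := by
    intro y hy
    obtain ⟨hq, hyb⟩ := mem_YY.1 hy
    have hf := P.YY_fix hw hy
    obtain ⟨i, hi, e⟩ := y0_fix_span (K.c_lt y hq) hf
    rw [hH, hOf]
    refine List.mem_map.2 ⟨i, List.mem_filter.2 ⟨List.mem_range.2 hi, ?_⟩, e⟩
    have h := Leq hq hf
    rw [← hyb, mul_inv_cancel_right, left_eq_mul] at h
    have h' := NA.Setup.tw_inj P.S (h.trans (NA.tw_false t).symm)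
    rw [← e, (key i).2] at h'
    rw [h']; rfl
  have liftH : ∀ {v}, v ∈ H → ∃ y ∈ YY t Q g, K.c y = v := by
    intro v hv
    obtain ⟨i, hi, rfl⟩ := List.mem_map.1 hv
    have hi2 := (List.mem_filter.1 hi).2
    obtain ⟨hp, he⟩ := key i
    rw [Bool.not_eq_true'] at hi2
    rw [hi2] at he
    obtain ⟨q, hq, e⟩ := K.c_surj _ hp.1
    refine ⟨q, mem_YY.2 ⟨hq, ?_⟩, e⟩
    have h := Leq hq (e ▸ hp.2)
    rw [e, he, NA.tw_false, mul_one] at h
    exact (mul_inv_eq_iff_eq_mul.1 h).symm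
  have hlam := List.all_eq_true.1 lam_ok c (List.mem_range.2 hc64)
  simp only [lamOK, Bool.or_eq_true, Bool.not_eq_true'] at hlam
  have hl0 : l0.all (memN H) = true := by
    refine List.all_eq_true.2 fun v hv => ?_
    have hv' := List.all_eq_true.1 y0_com.2.2.2.2 v hv
    simp only [Bool.and_eq_true, Bool.not_eq_true'] at hv'
    have hv256 : v < 256 := (W0_facts (memN_iff.1 hv'.1)).2
    obtain ⟨y, hy, rfl⟩ := K.c_surj v hv256
    obtain ⟨q, hq, e, rfl⟩ := P.lift_l0 hw hy (memN_iff.2 hv)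
    refine memN_iff.2 (memH (P.mm_YY hq ?_ e))
    rw [K.c_mul _ (P.mm_mem hq) _ (NA.Setup.tw_mem P.S e), NA.Coord.c_tw P.S K, Nat.xor_zero] at hv'
    exact hv'.2
  have hlam := hlam.resolve_left (by rw [hl0]; decide)
  have hbound : ∀ (f : Elt → Bool), (∀ z (hz : z ∈ ZZ t Q g), ∀ w ∈ sylW,
      permW w = K.π ⟨z, (Subgroup.mem_inf.1 hz).2⟩ → f (eW w) = true) →
      Nat.card ↥P.imZ ≤ (sylE.filter f).length := by
    intro f hf
    rw [sylE_eq, List.filter_map, List.length_map]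
    refine card_le_of_InL fun p hp => ?_
    obtain ⟨w, hw', e⟩ := hS p hp
    obtain ⟨z, hz, rfl⟩ := P.mem_imZ.1 hp
    exact ⟨w, List.mem_filter.2 ⟨hw', hf z hz w hw' e⟩, e⟩
  have hZ16 : 16 ≤ Nat.card ↥(ZZ t Q g) := by rw [card_ZZ]; exact P.partner.card_YY_16
  have trivI : (∀ i ∈ II Q g, i = 1) → Nat.card ↥(ZZ t Q g) ≤ (fixAll sylE H).length := by
    intro h1
    rw [← P.card_imZ_inj fun z hz hq => h1 z (Subgroup.mem_inf.2 ⟨hq, (Subgroup.mem_inf.1 hz).1⟩)]
    refine hbound _ fun z hz w _ e => List.all_eq_true.2 fun v hv => ?_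
    obtain ⟨y, hy, rfl⟩ := liftH hv
    have h' := mul_inv_eq_one.1 (h1 _ (P.z_move hz hy))
    rw [fixV, ← c_conj K (Subgroup.mem_inf.1 hz).2 e (mem_YY.1 hy).1, h']
    exact Nat.beq_refl _
  have el : ∀ {i}, i ∈ II Q g → i ≠ 1 → memN l0 (K.c i) = true →
      ∃ q ∈ Q, i = mm t g q * t := by
    intro i hi h1 hl
    obtain ⟨q, hq, e, he⟩ := P.lift_l0 hw hi.1 hl
    cases e
    · rw [NA.tw_false, mul_one] at he
      exact absurd (P.mm_RR (he ▸ hi.2)) (fun h => h1 (he.trans h))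
    · exact ⟨q, hq, he⟩
  have nob : ∀ {i}, i ∈ II Q g → i ≠ 1 → memN l0 (K.c i) = true → ¬ IsK t (g * t * g⁻¹ * t) := by
    intro i hi h1 hl hk
    obtain ⟨q, hq, rfl⟩ := el hi h1 hl
    have h := hk.conj q
    rw [mul_t_conj P.S (NA.Setup.na_comm P.S hq), ← P.b_mm, mul_assoc] at h
    exact h1 (mul_eq_left.1 (P.R_nf ((RR Q g).mul_mem P.b_RR hi.2) h))
  by_cases hc0 : c = 0
  · rw [hc0] at hlam hH
    simp only [Nat.beq, cond_true] at hlam
    have hlz : LZero t Q g := by
      intro q hq e he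
      have hf : fixV (eW y0W) (K.c q) = true := by
        have := congrArg K.c he
        rw [c_conj K P.mem hw hq, K.c_mul q hq _ (NA.Setup.tw_mem P.S e), NA.Coord.c_tw P.S K,
          Nat.xor_zero] at this
        rw [fixV, this]; exact Nat.beq_refl _
      have h := Leq hq hf
      rw [he] at h
      rw [NA.Setup.tw_inj P.S (mul_left_cancel h)]
      obtain ⟨i, hi, e'⟩ := y0_fix_span (K.c_lt q hq) hf
      rw [← e', (key i).2, hc0]
      have := List.all_eq_true.1 parM_zero i (List.mem_range.2 hi)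
      simpa using this
    refine ⟨hlz, ?_⟩
    by_cases h1 : ∀ i ∈ II Q g, i = 1
    · have := trivI h1
      rw [hH] at this
      have := Nat.le_of_ble_eq_true hlam
      omega
    push Not at h1
    obtain ⟨i, hi, h1⟩ := h1
    refine nob hi h1 ?_
    have h0 := List.all_eq_true.1 l0_perp (K.c i) (List.mem_range.2 (K.c_lt i hi.1))
    rw [beq_iff_eq] at h0
    rw [h0, List.all_eq_true]
    intro j hj
    have hjH : ap fbase j ∈ H := by
      rw [hH]
      refine List.mem_map.2 ⟨j, List.mem_filter.2 ⟨hj, ?_⟩, rfl⟩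
      exact List.all_eq_true.1 parM_zero j hj
    obtain ⟨y, hy, e⟩ := liftH hjH
    rw [← e, P.II_B hi hy]
    rfl
  · exfalso
    rw [show Nat.beq c 0 = false from by
      cases hb : Nat.beq c 0
      · rfl
      · exact absurd (Nat.eq_of_beq_eq_true hb) hc0, cond_false, Bool.and_eq_true, List.all_eq_true] at hlam
    obtain ⟨hn1, hcand⟩ := hlam
    have hn1 : (fixAll sylE H).length ≤ 4 := Nat.le_of_ble_eq_true hn1
    -- some fixed vector is moved, so `b t` is conjugate to `b`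
    have hbt : IsK t (g * t * g⁻¹ * t) := by
      obtain ⟨x, hx, hLx⟩ : ∃ x ∈ fbase, L x = true := by
        by_contra hno
        push Not at hno
        refine hc0 ?_
        have hz : ∀ (M : List ℕ), (∀ x ∈ M, L x = false) → maskB L M = 0 := fun M => by
          induction M with
          | nil => intro _; rfl
          | cons a M ih =>
            intro h
            rw [maskB, h a List.mem_cons_self, ih fun x hx => h x (List.mem_cons_of_mem _ hx)]
            rfl
        exact hz fbase fun x hx => Bool.eq_false_iff.2 (hno x hx)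
      obtain ⟨q, hq, rfl⟩ := K.c_surj x (hbase x hx).1
      have h := Leq hq (hbase _ hx).2
      rw [hLx, NA.tw_true] at h
      refine ⟨q⁻¹ * g, ?_⟩
      calc q⁻¹ * g * t * (q⁻¹ * g)⁻¹ = q⁻¹ * ((g * t * g⁻¹) * q * (g * t * g⁻¹)⁻¹) * (g * t * g⁻¹) := by group
        _ = q⁻¹ * (q * t) * (g * t * g⁻¹) := by rw [h]
        _ = t * (g * t * g⁻¹) := by group
        _ = _ := P.bt.symm
    have inC : ∀ {i}, i ∈ II Q g → i ≠ 1 → K.c i ∈ candI H := by
      intro i hi h1
      simp only [candI, List.mem_filter, Bool.and_eq_true, Bool.not_eq_true', List.all_eq_true]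
      refine ⟨memH (P.II_YY hi), ⟨⟨?_, P.II_q hi⟩, ?_⟩, fun v hv => ?_⟩
      · cases hb : Nat.beq (K.c i) 0
        · rfl
        · exact absurd (P.II_c hi (Nat.eq_of_beq_eq_true hb)) h1
      · cases hb : memN l0 (K.c i)
        · rfl
        · exact absurd hbt (nob hi h1 hb)
      · obtain ⟨y, hy, rfl⟩ := liftH hv
        exact P.II_B hi hy
    by_cases h1 : ∀ i ∈ II Q g, i = 1
    · have := trivI h1
      omega
    push Not at h1
    obtain ⟨i, hi, i1⟩ := h1
    have h2 : ∀ j ∈ II Q g, j = 1 ∨ j = i := by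
      intro j hj
      by_contra hh
      push Not at hh
      have hij : i * j ≠ 1 := fun e => hh.2 (by
        rw [← inv_eq_of_mul_eq_one_right (P.II_sq hi), inv_eq_of_mul_eq_one_right e])
      have h3 := inC (mul_mem hi hj) hij
      have h4 := hcand _ (inC hi i1)
      simp only [Bool.and_eq_true, List.all_eq_true, Bool.not_eq_true'] at h4
      have h5 := h4.1 _ (inC hj hh.1)
      rw [K.c_mul _ hi.1 _ hj.1] at h3
      rw [show memN (candI H) (Nat.xor (K.c i) (K.c j)) = true from memN_iff.2 h3] at h5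
      exact Bool.false_ne_true h5.symm
    have hcI : Nat.card ↥(II Q g) = 2 := by
      rw [Nat.card_congr (Equiv.subtypeEquivRight (q := fun x => x ∈ ({1, i} : Finset G)) fun x =>
        ⟨fun hx => by simpa using h2 x hx, fun hx => by
          simp only [Finset.mem_insert, Finset.mem_singleton] at hx
          rcases hx with rfl | rfl
          · exact one_mem _
          · exact hi⟩), Nat.card_eq_finsetCard, Finset.card_pair (Ne.symm i1)]
    have him : Nat.card ↥P.imZ ≤ 8 := by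
      refine le_trans (hbound (fun e => fixV e (K.c i) && H.all fun h =>
        fixV e h || Nat.beq (Nat.xor (ap e.2 h) h) (K.c i)) fun z hz w _ e => ?_) ?_
      · simp only [Bool.and_eq_true, List.all_eq_true, Bool.or_eq_true]
        refine ⟨?_, fun v hv => ?_⟩
        · rw [fixV, ← c_conj K (Subgroup.mem_inf.1 hz).2 e hi.1, P.z_II hz hi]
          exact Nat.beq_refl _
        · obtain ⟨y, hy, rfl⟩ := liftH hv
          have hyQ := (mem_YY.1 hy).1
          rcases h2 _ (P.z_move hz hy) with h' | h'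
          · refine Or.inl ?_
            rw [fixV, ← c_conj K (Subgroup.mem_inf.1 hz).2 e hyQ, mul_inv_eq_one.1 h']
            exact Nat.beq_refl _
          · refine Or.inr ?_
            rw [← h', K.c_mul _ (P.S.norm z (Subgroup.mem_inf.1 hz).2 y hyQ) _ (Q.inv_mem hyQ),
              c_conj K (Subgroup.mem_inf.1 hz).2 e hyQ, NA.Coord.c_inv P.S K hyQ]
            exact Nat.beq_refl _
      · have h4 := hcand _ (inC hi i1)
        rw [Bool.and_eq_true] at h4
        exact Nat.le_of_ble_eq_true h4.2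
    have hmul := P.card_imZ
    rw [hcI] at hmul
    have h16 : Nat.card ↥(ZZ t Q g) ≤ 16 := by omega
    rw [card_ZZ] at h16
    rcases P.partner.exists_kind with ⟨m, hm, e⟩ | ⟨m, hm, e⟩ | ⟨m, hm, e⟩ | ⟨m, hm, w, hw', e, hF, hN⟩
    · exact hR ⟨g⁻¹, P.partner.mem, 0, m⁻¹, inv_mem hm, by rw [← e]; group⟩
    · obtain ⟨x, hx, P', e'⟩ := P.partner.move_to hm
      have := P'.card_YY_ge (e'.trans e).symm fbase_nodup fun v hv => by
        obtain ⟨j, hj, rfl⟩ := List.mem_map.1 hv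
        exact ⟨(key j).1.1, List.all_eq_true.1 fbase_fix j hj⟩
      rw [P.partner.card_YY_move hx, List.length_map, List.length_range] at this
      omega
    · obtain ⟨x, hx, P', e'⟩ := P.partner.move_to hm
      have := P'.card_YY_y1 (e'.trans e).symm
      rw [P.partner.card_YY_move hx] at this
      omega
    · obtain ⟨x, hx, P', e'⟩ := P.partner.move_to hm
      have hz : IsK t (t * i) := (P.ZZ_isK (fun y hy => ?_) (P.II_ZZ hi)).1
      · exact i1 (mul_eq_left.1 (nf_eq P.nf hz (Q.mul_mem (NA.Setup.na_mem P.S) hi.1)))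
      have hy' : x * y * x⁻¹ ∈ YY t Q (x * g⁻¹) := by
        refine mem_YY.2 ⟨P.S.norm x hx y (mem_YY.1 hy).1, ?_⟩
        calc x * y * x⁻¹ * (x * g⁻¹ * t * (x * g⁻¹)⁻¹) = x * (y * (g⁻¹ * t * g⁻¹⁻¹)) * x⁻¹ := by group
          _ = _ := by rw [(mem_YY.1 hy).2]; group
      have := P'.nonsing_conj (e.trans e'.symm) hF hN hy'
      rw [show x * g⁻¹ * t * (x * g⁻¹)⁻¹ * (x * y * x⁻¹) = x * (g⁻¹ * t * g⁻¹⁻¹ * y) * x⁻¹ by group] at this
      exact isK_conj_iff.1 this

omit hw in
theorem first_facts (hR : ¬ RootConj t Q K) (hw : permW y0W = K.π ⟨_, P.mem⟩) :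
    LZero t Q g ∧ ¬ IsK t (g * t * g⁻¹ * t) := by
  obtain ⟨m, hm, hmc⟩ := exists_conj_Syl Syl_le_cent_y0 inf_le_left (P.imZ_le_cent hw) P.imZ_2group
  obtain ⟨x, hx⟩ := exists_perm_lift K (Subgroup.mem_inf.1 hm).1
  have P' := P.move x.2
  have hw' : permW y0W = K.π ⟨_, P'.mem⟩ := by
    rw [P.pi_move x.2, ← hw, hx, Subgroup.mem_centralizer_singleton_iff.1 (Subgroup.mem_inf.1 hm).2,
      mul_inv_cancel_right]
  obtain ⟨h1, h2⟩ := P'.first_aux hw' hR fun p hp => by
    obtain ⟨z, hz, rfl⟩ := P'.mem_imZ.1 hp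
    have hz0 : (x : G)⁻¹ * z * x ∈ ZZ t Q g := (Pr.ZZ_move (g := g) x.2).1 (by
      rw [show (x : G) * ((x : G)⁻¹ * z * x) * (x : G)⁻¹ = z by group]; exact hz)
    have := hmc _ (P.mem_imZ.2 ⟨_, hz0, rfl⟩)
    rw [← hx, ← map_mul, ← map_inv, ← map_mul] at this
    convert this using 2
    refine Subtype.ext ?_
    show z = (x : G) * ((x : G)⁻¹ * z * x) * (x : G)⁻¹
    group
  refine ⟨fun q hq e he => h1 _ (P.S.norm x x.2 q hq) e ?_, fun h => h2 ?_⟩
  · calc (x : G) * g * t * ((x : G) * g)⁻¹ * ((x : G) * q * (x : G)⁻¹) * ((x : G) * g * t * ((x : G) * g)⁻¹)⁻¹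
        = (x : G) * (g * t * g⁻¹ * q * (g * t * g⁻¹)⁻¹) * (x : G)⁻¹ := by group
      _ = (x : G) * q * (x : G)⁻¹ * ((x : G) * tw t e * (x : G)⁻¹) := by rw [he]; group
      _ = _ := by rw [NA.Setup.conj_tw P.S (mem_C.1 x.2)]
  · have := h.conj (x : G)
    rwa [mul_t_conj P.S (mem_C.1 x.2),
      show (x : G) * (g * t * g⁻¹) * (x : G)⁻¹ = (x : G) * g * t * ((x : G) * g)⁻¹ by group] at this

end Pr

end Cfsg.Agent.Co2Recog.Two
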