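import Cfsg.Agent.Lib.Co2Recog.Conj
import Cfsg.Agent.Lib.Co2Recog.SearchSpec

/-!
The kinds of the conjugates of `t` outside `Q`, by a representative in the Sylow subgroup.
-/

set_option autoImplicit false
set_option maxRecDepth 100000

namespace Cfsg.Agent.Co2Recog.Two

open Equiv
open Cfsg.Agent.ThRec.Eight (ap ap_xor ap_zero)
open NA (eq_of_xor lt8)

variable {G : Type*} [Group G] {t : G} {Q : Subgroup G} {K : Coords t Q} {g : G}

theorem act_one_eq (K : Coords t Q) {w : List ℕ} (h : permW w = 1) {v : ℕ} (hv : v < 256) :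
    ap (eW w).2 v = v := (act_unique K (u := w) (w := []) h hv).trans (ap_nil_word hv)

theorem pi_congr (K : Coords t Q) {x y : G} (e : x = y) (hx : x ∈ Subgroup.centralizer ({t} : Set G))
    (hy : y ∈ Subgroup.centralizer ({t} : Set G)) : K.π ⟨x, hx⟩ = K.π ⟨y, hy⟩ := by
  subst e; rfl

namespace Pr

variable (P : Pr K g)
include P

theorem pi_ne_one : K.π ⟨_, P.mem⟩ ≠ 1 := fun e => P.b_not_mem ((K.ker _).1 e)

theorem pi_sq : K.π ⟨_, P.mem⟩ * K.π ⟨_, P.mem⟩ = 1 := by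
  rw [← map_mul, ← map_one K.π]
  exact congrArg K.π (Subtype.ext P.b_sq)

theorem pi_move {x : G} (hx : x ∈ Subgroup.centralizer ({t} : Set G)) :
    K.π ⟨_, (P.move hx).mem⟩ = K.π ⟨x, hx⟩ * K.π ⟨_, P.mem⟩ * (K.π ⟨x, hx⟩)⁻¹ :=
  (pi_congr K (show x * g * t * (x * g)⁻¹ = x * (g * t * g⁻¹) * x⁻¹ by group) _
    (mul_mem (mul_mem hx P.mem) (inv_mem hx))).trans (pi_conj K hx P.mem _)

/-- Moving the conjugate to a prescribed conjugate image. -/
theorem move_to {p : Perm (Fin 63)} (hp : p ∈ Sp63) :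
    ∃ x, ∃ _ : x ∈ Subgroup.centralizer ({t} : Set G), ∃ P' : Pr K (x * g),
      K.π ⟨_, P'.mem⟩ = p * K.π ⟨_, P.mem⟩ * p⁻¹ := by
  obtain ⟨x, rfl⟩ := exists_perm_lift K hp
  exact ⟨x, x.2, P.move x.2, P.pi_move x.2⟩

/-- A conjugate has a representative in the Sylow subgroup. -/
theorem exists_rep : ∃ m ∈ Sp63, ∃ w ∈ sylW, permW w = m * K.π ⟨_, P.mem⟩ * m⁻¹ ∧
    permW w * permW w = 1 ∧ permW w ≠ 1 := by
  set s := K.π ⟨_, P.mem⟩ with hs
  have h1 : s ≠ 1 := P.pi_ne_one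
  have h2 : s * s = 1 := P.pi_sq
  have ho : orderOf s = 2 := orderOf_eq_prime (by rw [pow_two, h2]) h1
  obtain ⟨m, hm, hc⟩ := exists_conj_Syl Syl_le le_rfl
    (P := Subgroup.zpowers s) ((Subgroup.zpowers_le).2 (pi_mem K _))
    (IsPGroup.of_card (p := 2) (n := 1) (by rw [Nat.card_zpowers, ho, pow_one]))
  obtain ⟨w, hw, e⟩ := hc s (Subgroup.mem_zpowers s)
  refine ⟨m, hm, w, hw, e, ?_, fun hh => h1 ?_⟩
  · rw [e, show m * s * m⁻¹ * (m * s * m⁻¹) = m * (s * s) * m⁻¹ by group, h2, mul_one, mul_inv_cancel]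
  · rw [e] at hh
    exact conj_eq_one_iff.1 hh

end Pr

theorem bad_word {w : List ℕ} (h : isBad (key (eW w)) = true) :
    ∃ v, permW w = permW v * tv 0 * (permW v)⁻¹ ∨ permW w = permW v * permW y0W * (permW v)⁻¹ := by
  simp only [isBad, Bool.or_eq_true, List.any_eq_true] at h
  rcases h with ⟨p, hp, e⟩ | ⟨p, hp, e⟩
  · have h' := Nat.eq_of_beq_eq_true (List.all_eq_true.1 bad63_ok p hp)
    refine ⟨p.2, Or.inl ?_⟩
    rw [Nat.eq_of_beq_eq_true e,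
      show eConj p.2 (eGen 0) = eW (p.2 ++ [0] ++ p.2.reverse) by
        rw [← eConj_eW]
        exact congrArg _ (Prod.ext (by decide +kernel) (by decide +kernel))] at h'
    rw [← permW_eq_iff.2 h', permW_conj]
    simp [permW]
  · have h' := Nat.eq_of_beq_eq_true (List.all_eq_true.1 bad315_ok p hp)
    refine ⟨p.2, Or.inr ?_⟩
    rw [Nat.eq_of_beq_eq_true e, eConj_eW] at h'
    rw [← permW_eq_iff.2 h', permW_conj]

theorem k945_word {w : List ℕ} (h : is945 (key (eW w)) = true) :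
    ∃ v, permW w = permW v * permW y1W * (permW v)⁻¹ := by
  simp only [is945, List.any_eq_true] at h
  obtain ⟨p, hp, e⟩ := h
  have h' := Nat.eq_of_beq_eq_true (List.all_eq_true.1 k945_ok p hp)
  refine ⟨p.2, ?_⟩
  rw [Nat.eq_of_beq_eq_true e, eConj_eW] at h'
  rw [← permW_eq_iff.2 h', permW_conj]

namespace Pr

variable (P : Pr K g)
include P

/-- The four kinds. -/
theorem exists_kind :
    (∃ m ∈ Sp63, m * K.π ⟨_, P.mem⟩ * m⁻¹ = tv 0) ∨
    (∃ m ∈ Sp63, m * K.π ⟨_, P.mem⟩ * m⁻¹ = permW y0W) ∨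
    (∃ m ∈ Sp63, m * K.π ⟨_, P.mem⟩ * m⁻¹ = permW y1W) ∨
    ∃ m ∈ Sp63, ∃ w ∈ sylW, permW w = m * K.π ⟨_, P.mem⟩ * m⁻¹ ∧
      fixInCom (eW w) = true ∧ comNonsing (eW w) = true := by
  obtain ⟨m, hm, w, hw, e, h2, h1⟩ := P.exists_rep
  have hk := List.all_eq_true.1 kind_ok (eW w) (mem_sylI hw h2)
  simp only [Bool.or_eq_true, Bool.and_eq_true] at hk
  have mv : ∀ {v : List ℕ} {y : Perm (Fin 63)}, permW w = permW v * y * (permW v)⁻¹ →
      ∃ m ∈ Sp63, m * K.π ⟨_, P.mem⟩ * m⁻¹ = y := fun {v y} hy =>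
    ⟨(permW v)⁻¹ * m, mul_mem (inv_mem (permW_mem v)) hm, by
      rw [show (permW v)⁻¹ * m * K.π ⟨_, P.mem⟩ * ((permW v)⁻¹ * m)⁻¹ =
        (permW v)⁻¹ * (m * K.π ⟨_, P.mem⟩ * m⁻¹) * permW v by group, ← e, hy]
      group⟩
  rcases hk with ((hk | hk) | hk) | hk
  · exact absurd (permW_eq_one_iff.2 (Nat.eq_of_beq_eq_true hk)) h1
  · obtain ⟨v, hv | hv⟩ := bad_word hk
    · exact Or.inl (mv hv)
    · exact Or.inr (Or.inl (mv hv))
  · obtain ⟨v, hv⟩ := k945_word hk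
    exact Or.inr (Or.inr (Or.inl (mv hv)))
  · exact Or.inr (Or.inr (Or.inr ⟨m, hm, w, hw, e, hk⟩))

/-- Every element of `Y` over commutators only is translated to a conjugate when one is nonsingular. -/
theorem nonsing_conj {w : List ℕ} (hw : permW w = K.π ⟨_, P.mem⟩) (hF : fixInCom (eW w) = true)
    (hN : comNonsing (eW w) = true) {y : G} (hy : y ∈ YY t Q g) : IsK t (g * t * g⁻¹ * y) := by
  obtain ⟨hyQ, -⟩ := mem_YY.1 hy
  have hf := P.YY_fix hw hy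
  have hmem : memN (comL (eW w)) (K.c y) = true := by
    have := List.all_eq_true.1 hF (K.c y) (List.mem_range.2 (K.c_lt y hyQ))
    rwa [hf, Bool.not_true, Bool.false_or] at this
  obtain ⟨q, hq, e, rfl⟩ := P.lift_mm hw hyQ hmem
  simp only [comNonsing, List.any_eq_true, List.mem_range] at hN
  obtain ⟨v, hv, hv'⟩ := hN
  obtain ⟨r, hr, rfl⟩ := K.c_surj v hv
  rw [← P.c_mm hw hr] at hv'
  have hbt : IsK t (g * t * g⁻¹ * t) := by
    refine ⟨mm t g r * g, ?_⟩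
    have h1 := P.mm_inv r
    have h2 := K.sq _ (P.mm_mem hr)
    rw [hv', NA.tw_true] at h2
    have h3 : (mm t g r)⁻¹ = mm t g r * t := inv_eq_of_mul_eq_one_right (by
      rw [← mul_assoc, h2, NA.Setup.na_sq P.S])
    have hbinv := P.b_inv
    rw [h3] at h1
    generalize hb : g * t * g⁻¹ = b at h1 hbinv ⊢
    calc mm t g r * g * t * (mm t g r * g)⁻¹ = mm t g r * b * (mm t g r)⁻¹ := by rw [← hb]; group
      _ = mm t g r * b * (b * mm t g r * b⁻¹) := by rw [h1, h3]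
      _ = mm t g r * (b * b) * mm t g r * b⁻¹ := by group
      _ = _ := by
        have hb2 : b * b = 1 := hb ▸ P.b_sq
        rw [hb2, mul_one, h2, hbinv]
        exact (hb ▸ P.bt).symm
  cases e
  · rw [NA.tw_false, mul_one]; exact P.b_mm_isK q
  · rw [NA.tw_true, ← mul_assoc, P.b_mm, show q * (g * t * g⁻¹) * q⁻¹ * t = q * (g * t * g⁻¹ * t) * q⁻¹ from
      (mul_t_conj P.S (NA.Setup.na_comm P.S hq) _).symm]
    exact hbt.conj q

/-- In that case the partner's group meets `Q` trivially and all its elements give conjugates. -/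
theorem ZZ_isK (H : ∀ y ∈ YY t Q g⁻¹, IsK t (g⁻¹ * t * g⁻¹⁻¹ * y)) {z : G} (hz : z ∈ ZZ t Q g) :
    IsK t (t * z) ∧ (z ∈ Q → z = 1) := by
  have h : IsK t (t * z) := by
    have := (H _ (ZZ_iff_YY.1 hz)).conj g
    rwa [show g * (g⁻¹ * t * g⁻¹⁻¹ * (g⁻¹ * z * g)) * g⁻¹ = t * z by group] at this
  exact ⟨h, fun hq => mul_eq_left.1 (nf_eq P.nf h (Q.mul_mem (NA.Setup.na_mem P.S) hq))⟩

/-- The image of the centraliser of `t` in the other group. -/
def imZ (_P : Pr K g) : Subgroup (Perm (Fin 63)) :=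
  ((ZZ t Q g).subgroupOf (Subgroup.centralizer ({t} : Set G))).map K.π

theorem mem_imZ {p : Perm (Fin 63)} :
    p ∈ P.imZ ↔ ∃ z, ∃ hz : z ∈ ZZ t Q g, K.π ⟨z, (Subgroup.mem_inf.1 hz).2⟩ = p := by
  constructor
  · rintro ⟨x, hx, rfl⟩
    exact ⟨x, hx, rfl⟩
  · rintro ⟨z, hz, rfl⟩
    exact ⟨⟨z, _⟩, hz, rfl⟩

theorem imZ_le : P.imZ ≤ Sp63 := fun _ hp => by
  obtain ⟨z, hz, rfl⟩ := P.mem_imZ.1 hp
  exact pi_mem K _

theorem finite_II : Finite ↥(II Q g) := by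
  haveI := finite_Q P.S
  exact Finite.of_injective (fun i : ↥(II Q g) => (⟨i.1, i.2.1⟩ : ↥Q))
    fun x y e => Subtype.ext (congrArg (fun q : ↥Q => (q : G)) e)

/-- The order of the image times that of the meet. -/
theorem card_imZ : Nat.card ↥(II Q g) * Nat.card ↥P.imZ = Nat.card ↥(ZZ t Q g) := by
  let ψ : ↥(ZZ t Q g) →* Perm (Fin 63) :=
    K.π.comp (Subgroup.inclusion (inf_le_right : ZZ t Q g ≤ Subgroup.centralizer {t}))
  have hr : ψ.range = P.imZ := by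
    ext p
    rw [P.mem_imZ]
    constructor
    · rintro ⟨z, rfl⟩; exact ⟨z, z.2, rfl⟩
    · rintro ⟨z, hz, rfl⟩; exact ⟨⟨z, hz⟩, rfl⟩
  have hk : ∀ z : ↥(ZZ t Q g), z ∈ ψ.ker ↔ (z : G) ∈ II Q g := fun z => by
    rw [MonoidHom.mem_ker]
    exact Iff.trans (K.ker _) ⟨fun h => Subgroup.mem_inf.2 ⟨h, (Subgroup.mem_inf.1 z.2).1⟩, fun h => h.1⟩
  have e : Nat.card ↥ψ.ker = Nat.card ↥(II Q g) := Nat.card_congr
    { toFun := fun z => ⟨((z : ↥(ZZ t Q g)) : G), (hk z).1 z.2⟩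
      invFun := fun i => ⟨⟨i.1, P.II_ZZ i.2⟩, (hk _).2 i.2⟩
      left_inv := fun _ => rfl
      right_inv := fun _ => rfl }
  rw [← hr, ← Subgroup.index_ker, ← e]
  exact ψ.ker.card_mul_index

/-- Injective images. -/
theorem card_imZ_inj (h : ∀ z ∈ ZZ t Q g, z ∈ Q → z = 1) :
    Nat.card ↥P.imZ = Nat.card ↥(ZZ t Q g) := by
  have hI : II Q g = ⊥ := (Subgroup.eq_bot_iff_forall _).2 fun i hi => h i (P.II_ZZ hi) hi.1
  rw [← P.card_imZ, hI, Subgroup.card_bot, one_mul]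

/-- `Y` has index at most two over the fixed vectors. -/
theorem card_YY_ge {w : List ℕ} (hw : permW w = K.π ⟨_, P.mem⟩) {l : List ℕ} (hn : l.Nodup)
    (hl : ∀ v ∈ l, v < 256 ∧ fixV (eW w) v = true) : l.length ≤ Nat.card ↥(YY t Q g) := by
  classical
  have hc := card_pre P.S K l hn fun v hv => (hl v hv).1
  haveI := finite_Q P.S
  haveI : Finite ↥(YY t Q g) := Finite.of_injective (fun i : ↥(YY t Q g) => (⟨i.1, i.2.1⟩ : ↥Q))
    fun x y e => Subtype.ext (congrArg (fun q : ↥Q => (q : G)) e)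
  by_cases hall : ∀ q : {q : G // q ∈ Q ∧ K.c q ∈ l}, q.1 ∈ YY t Q g
  · have := Nat.card_le_card_of_injective (fun q => (⟨q.1, hall q⟩ : ↥(YY t Q g)))
      fun a b e => Subtype.ext (congrArg (fun y : ↥(YY t Q g) => (y : G)) e)
    omega
  · push Not at hall
    obtain ⟨⟨q0, hq0, hv0⟩, hn0⟩ := hall
    have hmv : ∀ q : G, q ∈ Q → K.c q ∈ l → q ∉ YY t Q g →
        g * t * g⁻¹ * q * (g * t * g⁻¹)⁻¹ = q * t := by
      intro q hq hv hne
      obtain ⟨e, he⟩ := P.fix_tw hw hq (hl _ hv).2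
      cases e
      · rw [NA.tw_false, mul_one] at he
        exact absurd (mem_YY.2 ⟨hq, (mul_inv_eq_iff_eq_mul.1 he).symm⟩) hne
      · exact he
    have hmem : ∀ q : {q : G // q ∈ Q ∧ K.c q ∈ l}, q.1 ∉ YY t Q g → q.1 * q0⁻¹ ∈ YY t Q g := by
      intro q hne
      refine mem_YY.2 ⟨Q.mul_mem q.2.1 (Q.inv_mem hq0), ?_⟩
      have h1 := hmv q.1 q.2.1 q.2.2 hne
      have h2 := hmv q0 hq0 hv0 hn0
      have key : g * t * g⁻¹ * (q.1 * q0⁻¹) * (g * t * g⁻¹)⁻¹ = q.1 * q0⁻¹ := by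
        rw [show g * t * g⁻¹ * (q.1 * q0⁻¹) * (g * t * g⁻¹)⁻¹ =
          (g * t * g⁻¹ * q.1 * (g * t * g⁻¹)⁻¹) * (g * t * g⁻¹ * q0 * (g * t * g⁻¹)⁻¹)⁻¹ by group, h1, h2]
        group
      exact (mul_inv_eq_iff_eq_mul.1 key).symm
    have := Nat.card_le_card_of_injective (fun q : {q : G // q ∈ Q ∧ K.c q ∈ l} =>
        if h : q.1 ∈ YY t Q g then ((⟨q.1, h⟩ : ↥(YY t Q g)), false) else (⟨q.1 * q0⁻¹, hmem q h⟩, true))
      fun a b e => by
        dsimp only at e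
        split_ifs at e <;> simp at e <;> exact Subtype.ext e
    rw [hc, Nat.card_prod, Nat.card_eq_fintype_card (α := Bool), Fintype.card_bool] at this
    omega

end Pr

end Cfsg.Agent.Co2Recog.Two
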