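import Cfsg.Agent.Lib.Co2Recog.ModuleKill
import Cfsg.Agent.Lib.ThRec.ModuleCheck
import Cfsg.Agent.Lib.Extraspecial.NonSplit

/-!
Coordinates on the normal extraspecial subgroup of the centraliser: the quotient by the centre is the spin
module of the symplectic group.
-/

set_option autoImplicit false
set_option maxRecDepth 100000

namespace Cfsg.Agent.Co2Recog

open Equiv
open Cfsg.Agent.ThRec.Eight (ap gen lin lin_xor lin_zero act act_lt allV xor_lt odd_eq Md form_unique)
open scoped Classical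

/-- The spin module as a checked module. -/
def mdS : Md := ⟨sX, qS, repS, edgeS⟩

theorem formC : mdS.formOK 2 witS = true := by decide +kernel

theorem mdS_q (v : ℕ) : mdS.q v = qv v := by
  show Cfsg.Agent.ThRec.Eight.odd (Nat.shiftRight qS v) = qS.testBit v
  rw [odd_eq, show Nat.shiftRight qS v = qS >>> v from rfl, Nat.testBit_shiftRight, Nat.add_zero]

/-- An additive functional is given by a vector. -/
theorem exists_dual {V : Type*} [AddCommGroup V] [Finite V] (two : ∀ v : V, v + v = 0) (B : V → V → Bool)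
    (hB : ∀ u v w, B (u + v) w = (B u w ^^ B v w)) (hB' : ∀ u v w, B u (v + w) = (B u v ^^ B u w))
    (nondeg : ∀ u, (∀ v, B u v = false) → u = 0) (l : V → Bool) (hl : ∀ u v, l (u + v) = (l u ^^ l v)) :
    ∃ u, ∀ v, B u v = l v := by
  letI : Module (ZMod 2) V := AddCommGroup.zmodModule fun v => by rw [two_nsmul, two]
  let mk : (f : V → Bool) → (∀ u v, f (u + v) = (f u ^^ f v)) → (V →ₗ[ZMod 2] ZMod 2) := fun f hf =>
    (AddMonoidHom.mk' (fun v => if f v then (1 : ZMod 2) else 0) fun u v => by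
      rw [hf]; cases f u <;> cases f v <;> decide).toZModLinearMap 2
  have hmk : ∀ f g hf hg, mk f hf = mk g hg → f = g := fun f g hf hg e => funext fun v => by
    have h : (if f v then (1 : ZMod 2) else 0) = if g v then 1 else 0 := LinearMap.congr_fun e v
    cases hfv : f v <;> cases hgv : g v <;> simp [hfv, hgv] at h ⊢
  let Φ : V → (V →ₗ[ZMod 2] ZMod 2) := fun u => mk (B u) fun v w => hB' u v w
  have hinj : Function.Injective Φ := fun u u' e => by
    have h := hmk _ _ (fun v w => hB' u v w) (fun v w => hB' u' v w) e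
    have h0 : u + u' = 0 := nondeg _ fun v => by rw [hB, h, Bool.xor_self]
    calc u = u + (u' + u') := by rw [two, add_zero]
      _ = u' := by rw [← add_assoc, h0, zero_add]
  have hcard : Nat.card V = Nat.card (V →ₗ[ZMod 2] ZMod 2) := by
    rw [Module.natCard_eq_pow_finrank (K := ZMod 2), Module.natCard_eq_pow_finrank (K := ZMod 2) (V := V →ₗ[ZMod 2] ZMod 2),
      show Module.finrank (ZMod 2) (V →ₗ[ZMod 2] ZMod 2) = Module.finrank (ZMod 2) V from Subspace.dual_finrank_eq]
  haveI : Finite (V →ₗ[ZMod 2] ZMod 2) := Nat.finite_of_card_ne_zero (by rw [← hcard]; exact Nat.card_pos.ne')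
  obtain ⟨u, hu⟩ := ((Nat.bijective_iff_injective_and_card Φ).2 ⟨hinj, hcard⟩).2 (mk l hl)
  exact ⟨u, fun v => congrFun (hmk _ _ (fun v w => hB' u v w) hl hu) v⟩

noncomputable section

universe u
variable {G : Type u} [Group G] {t : G} {Q : Subgroup G}

/-- Two elements do not commute. -/
def cmb (x y : G) : Bool := decide (x * y ≠ y * x)

/-- An element is not its own inverse. -/
def sqb (x : G) : Bool := decide (x * x ≠ 1)

/-- Two elements of `Q` with the same image. -/
def Same (t x y : G) : Prop := y = x ∨ y = x * t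

theorem same_tw {x y : G} : Same t x y ↔ ∃ b, y = x * tw t b := by
  constructor
  · rintro (h | h)
    · exact ⟨false, by simp [tw, h]⟩
    · exact ⟨true, h⟩
  · rintro ⟨b, h⟩
    cases b
    · exact Or.inl (by simpa [tw] using h)
    · exact Or.inr h

section
variable (S : Setup t Q)
include S

theorem exists_centre :
    XNonSplit.Setup (⟨t, RC.t_mem S⟩ : ↥Q) ∧ ∀ c ∈ Subgroup.center ↥Q, (c : G) = 1 ∨ (c : G) = t := by
  obtain ⟨z, hz, hzc⟩ := XNonSplit.exists_setup S.extra
  have hac : (⟨t, RC.t_mem S⟩ : ↥Q) ∈ Subgroup.center ↥Q :=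
    Subgroup.mem_center_iff.2 fun g => Subtype.ext (RC.t_comm S g.2)
  haveI : Finite (Subgroup.center ↥Q) := Nat.finite_of_card_ne_zero (by rw [S.extra.2]; norm_num)
  obtain ⟨w, hw⟩ := (Nat.card_eq_two_iff' (1 : Subgroup.center ↥Q)).1 S.extra.2
  have hall : ∀ c ∈ Subgroup.center ↥Q, c ≠ 1 → c = w.1 := fun c hc hne =>
    congrArg Subtype.val (hw.2 ⟨c, hc⟩ fun e => hne (congrArg Subtype.val e))
  have h1 : z = w.1 := hall z hzc hz.one_ne
  have h2 : (⟨t, RC.t_mem S⟩ : ↥Q) = w.1 := hall _ hac fun e => RC.t_ne S (congrArg Subtype.val e)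
  refine ⟨h2.trans h1.symm ▸ hz, fun c hc => ?_⟩
  by_cases e : c = 1
  · exact Or.inl (congrArg Subtype.val e)
  · exact Or.inr (congrArg Subtype.val ((hall c hc e).trans h2.symm))

theorem comm_or {x y : G} (hx : x ∈ Q) (hy : y ∈ Q) : x * y = y * x ∨ x * y = y * x * t := by
  rcases (exists_centre S).1.comm ⟨x, hx⟩ ⟨y, hy⟩ with h | h
  · exact Or.inl (congrArg Subtype.val h)
  · exact Or.inr (congrArg Subtype.val h)

theorem sq_or {x : G} (hx : x ∈ Q) : x * x = 1 ∨ x * x = t := by
  rcases (exists_centre S).1.square ⟨x, hx⟩ with h | h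
  · exact Or.inl (congrArg Subtype.val h)
  · exact Or.inr (congrArg Subtype.val h)

theorem tw_mem (b : Bool) : tw t b ∈ Q := by
  cases b
  · exact one_mem Q
  · exact RC.t_mem S

theorem tw_comm (b : Bool) {x : G} (hx : x ∈ Q) : tw t b * x = x * tw t b := by
  cases b
  · simp [tw]
  · exact (RC.t_comm S hx).symm

theorem tw_mul (b c : Bool) : tw t b * tw t c = tw t (b ^^ c) := by
  cases b <;> cases c <;> simp [tw, RC.t2 S]

theorem sq_eq {x : G} (hx : x ∈ Q) : x * x = tw t (sqb x) := by
  rcases sq_or S hx with h | h <;> simp [sqb, h, tw, RC.t_ne S]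

theorem comm_eq {x y : G} (hx : x ∈ Q) (hy : y ∈ Q) : x * y = y * x * tw t (cmb x y) := by
  rcases comm_or S hx hy with h | h <;> simp [cmb, h, tw, RC.t_ne S]

theorem tw_cancel {x : G} {b c : Bool} (h : x * tw t b = x * tw t c) : b = c :=
  RC.tw_inj S (mul_left_cancel h)

theorem cmb_mul {x y w : G} (hx : x ∈ Q) (hy : y ∈ Q) (hw : w ∈ Q) :
    cmb (x * y) w = (cmb x w ^^ cmb y w) := by
  refine tw_cancel S (x := w * (x * y)) ?_
  rw [← comm_eq S (mul_mem hx hy) hw]
  calc x * y * w = x * (w * y * tw t (cmb y w)) := by rw [mul_assoc, comm_eq S hy hw]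
    _ = x * w * y * tw t (cmb y w) := by simp only [mul_assoc]
    _ = w * x * (tw t (cmb x w) * y) * tw t (cmb y w) := by rw [comm_eq S hx hw]; simp only [mul_assoc]
    _ = w * (x * y) * (tw t (cmb x w) * tw t (cmb y w)) := by rw [tw_comm S _ hy]; simp only [mul_assoc]
    _ = _ := by rw [tw_mul S]

theorem sqb_mul {x y : G} (hx : x ∈ Q) (hy : y ∈ Q) : sqb (x * y) = ((sqb x ^^ sqb y) ^^ cmb y x) := by
  refine tw_cancel S (x := (1 : G)) ?_
  rw [one_mul, one_mul, ← sq_eq S (mul_mem hx hy)]
  calc x * y * (x * y) = x * (y * x) * y := by simp only [mul_assoc]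
    _ = x * x * (y * (tw t (cmb y x) * y)) := by rw [comm_eq S hy hx]; simp only [mul_assoc]
    _ = tw t (sqb x) * (y * y * tw t (cmb y x)) := by
      rw [tw_comm S _ hy, sq_eq S hx, mul_assoc y y]
    _ = _ := by rw [sq_eq S hy, tw_mul S, tw_mul S, Bool.xor_assoc]

theorem sqb_tw (b : Bool) {x : G} (hx : x ∈ Q) : sqb (x * tw t b) = sqb x := by
  have h1 : sqb (tw t b) = false := by cases b <;> simp [sqb, tw, RC.t2 S]
  have h2 : cmb (tw t b) x = false := by simp [cmb, tw_comm S b hx]
  rw [sqb_mul S hx (tw_mem S b), h1, h2, Bool.xor_false, Bool.xor_false]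

theorem cmb_tw (b : Bool) {x w : G} (hx : x ∈ Q) (hw : w ∈ Q) : cmb (x * tw t b) w = cmb x w := by
  have h2 : cmb (tw t b) w = false := by simp [cmb, tw_comm S b hw]
  rw [cmb_mul S hx (tw_mem S b) hw, h2, Bool.xor_false]

omit S in
theorem cmb_symm (x y : G) : cmb x y = cmb y x := by simp [cmb, eq_comm]

/-- **Coordinates**: the quotient by the centre is the spin module, for the given action on the 63 vectors. -/
theorem Setup.exists_coords_of (f : ↥(Subgroup.centralizer ({t} : Set G)) →* Perm (Fin 63))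
    (hfr : f.range = Sp63) (hfk : f.ker = Q.subgroupOf (Subgroup.centralizer {t})) :
    ∃ K : Coords t Q, K.π = f := by
  obtain ⟨-, hcen⟩ := exists_centre S
  let Z : Subgroup ↥Q := Subgroup.center ↥Q
  have hZ : ∀ x : ↥Q, x ∈ Z ↔ (x : G) = 1 ∨ (x : G) = t := fun x => by
    refine ⟨hcen x, fun h => Subgroup.mem_center_iff.2 fun g => Subtype.ext ?_⟩
    rcases h with h | h
    · show (g : G) * x = x * g; rw [h, one_mul, mul_one]
    · show (g : G) * x = x * g; rw [h]; exact RC.t_comm S g.2
  have hsame : ∀ x y : ↥Q, (QuotientGroup.mk x : ↥Q ⧸ Z) = QuotientGroup.mk y ↔ Same t (x : G) y := by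
    intro x y
    rw [QuotientGroup.eq, hZ]
    show (x : G)⁻¹ * y = 1 ∨ (x : G)⁻¹ * y = t ↔ _
    rw [inv_mul_eq_iff_eq_mul, inv_mul_eq_iff_eq_mul, mul_one]
    rfl
  letI : CommGroup (↥Q ⧸ Z) :=
    { (inferInstance : Group (↥Q ⧸ Z)) with
      mul_comm := fun x y => by
        induction x using QuotientGroup.induction_on with
        | H x => induction y using QuotientGroup.induction_on with
          | H y =>
            show (QuotientGroup.mk (x * y) : ↥Q ⧸ Z) = QuotientGroup.mk (y * x)
            rw [hsame]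
            rcases comm_or S y.2 x.2 with h | h
            · exact Or.inl h
            · exact Or.inr h }
  let V := Additive (↥Q ⧸ Z)
  let π : ↥Q → V := fun x => Additive.ofMul (QuotientGroup.mk x : ↥Q ⧸ Z)
  have hπ : Function.Surjective π := fun v => by
    obtain ⟨x, hx⟩ := QuotientGroup.mk_surjective (Additive.toMul v)
    exact ⟨x, congrArg Additive.ofMul hx⟩
  have hπe : ∀ x y, π x = π y ↔ Same t (x : G) y := fun x y => Additive.ofMul.injective.eq_iff.trans (hsame x y)
  have hπm : ∀ x y, π (x * y) = π x + π y := fun x y => rfl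
  have h2 : ∀ v : V, v + v = 0 := fun v => by
    obtain ⟨x, rfl⟩ := hπ v
    rw [← hπm, show (0 : V) = π 1 from rfl, hπe]
    rcases sq_or S x.2 with h | h
    · exact Or.inl (show (1 : G) = (x : G) * x by rw [h])
    · exact Or.inr (show (1 : G) = (x : G) * x * t by rw [h, RC.t2 S])
  let qf : V → Bool := fun v => sqb ((Function.surjInv hπ v : ↥Q) : G)
  have hqf : ∀ x : ↥Q, qf (π x) = sqb (x : G) := fun x => by
    obtain ⟨b, hb⟩ := same_tw.1 ((hπe _ _).1 (Function.surjInv_eq hπ (π x)))
    show sqb _ = sqb _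
    rw [hb, sqb_tw S b (Function.surjInv hπ (π x)).2]
  let Bf : V → V → Bool := fun u v => cmb ((Function.surjInv hπ u : ↥Q) : G) ((Function.surjInv hπ v : ↥Q) : G)
  have hBf : ∀ x y : ↥Q, Bf (π x) (π y) = cmb (x : G) y := fun x y => by
    obtain ⟨b, hb⟩ := same_tw.1 ((hπe _ _).1 (Function.surjInv_eq hπ (π x)))
    obtain ⟨c, hc⟩ := same_tw.1 ((hπe _ _).1 (Function.surjInv_eq hπ (π y)))
    show cmb _ _ = cmb _ _
    rw [hb, cmb_tw S b (Function.surjInv hπ (π x)).2 y.2, cmb_symm _ (y : G), hc,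
      cmb_tw S c (Function.surjInv hπ (π y)).2 (Function.surjInv hπ (π x)).2, cmb_symm]
  have hBadd : ∀ u v w, Bf (u + v) w = (Bf u w ^^ Bf v w) := fun u v w => by
    obtain ⟨x, rfl⟩ := hπ u
    obtain ⟨y, rfl⟩ := hπ v
    obtain ⟨z, rfl⟩ := hπ w
    rw [← hπm, hBf, hBf, hBf]
    exact cmb_mul S x.2 y.2 z.2
  have hBsymm : ∀ u v, Bf u v = Bf v u := fun u v => cmb_symm _ _
  have hnd : ∀ u, (∀ v, Bf u v = false) → u = 0 := fun u hu => by
    obtain ⟨x, rfl⟩ := hπ u
    rw [show (0 : V) = π 1 from rfl]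
    show Additive.ofMul (QuotientGroup.mk x : ↥Q ⧸ Z) = Additive.ofMul (QuotientGroup.mk 1)
    rw [show (QuotientGroup.mk (1 : ↥Q) : ↥Q ⧸ Z) = 1 from rfl,
      (QuotientGroup.eq_one_iff x).2 (Subgroup.mem_center_iff.2 fun g => Subtype.ext ?_)]
    have := hu (π g)
    rw [hBf] at this
    simp only [cmb, decide_eq_false_iff_not, not_not] at this
    exact this.symm
  let C := ↥(Subgroup.centralizer ({t} : Set G))
  let cj : C → (↥Q →* ↥Q) := fun h =>
    { toFun := fun x => ⟨(h : G) * x * (h : G)⁻¹, S.norm h h.2 x x.2⟩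
      map_one' := Subtype.ext (by simp)
      map_mul' := fun x y => Subtype.ext (by simp [mul_assoc]) }
  have hsm : ∀ (h : C) (x y : ↥Q), Same t (x : G) y → Same t (cj h x : G) (cj h y) := by
    intro h x y hxy
    rcases hxy with e | e
    · exact Or.inl (show (h : G) * y * (h : G)⁻¹ = h * x * (h : G)⁻¹ by rw [e])
    · refine Or.inr ?_
      show (h : G) * y * (h : G)⁻¹ = h * x * (h : G)⁻¹ * t
      rw [e]
      have := RC.mem_C.1 (inv_mem h.2)
      calc (h : G) * (x * t) * (h : G)⁻¹ = h * x * (t * (h : G)⁻¹) := by group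
        _ = _ := by rw [← this]; group
  let A : C → AddMonoid.End V := fun h =>
    { toFun := fun v => π (cj h (Function.surjInv hπ v))
      map_zero' := by
        show π (cj h (Function.surjInv hπ 0)) = π 1
        refine (hπe _ _).2 ?_
        have := hsm h _ 1 ((hπe _ _).1 (Function.surjInv_eq hπ (π 1)))
        rw [map_one] at this
        exact this
      map_add' := fun u v => by
        rw [← hπm, ← map_mul]
        refine (hπe _ _).2 (hsm h _ _ ((hπe _ _).1 ?_))
        rw [Function.surjInv_eq hπ, hπm, Function.surjInv_eq hπ, Function.surjInv_eq hπ] }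
  have hA : ∀ h x, A h (π x) = π (cj h x) := fun h x =>
    (hπe _ _).2 (hsm h _ _ ((hπe _ _).1 (Function.surjInv_eq hπ _)))
  have hAm : ∀ h k, A (h * k) = A h * A k := fun h k => AddMonoidHom.ext fun v => by
    obtain ⟨x, rfl⟩ := hπ v
    show A (h * k) (π x) = A h (A k (π x))
    rw [hA, hA, hA]
    congr 1
    exact Subtype.ext (show (h : G) * k * x * ((h : G) * k)⁻¹ = h * (k * x * (k : G)⁻¹) * (h : G)⁻¹ by group)
  have hAQ : ∀ h : C, (h : G) ∈ Q → A h = 1 := fun h hh => AddMonoidHom.ext fun v => by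
    obtain ⟨x, rfl⟩ := hπ v
    show A h (π x) = π x
    rw [hA, hπe]
    have hm : (cj h x : G) = (h : G) * x * (h : G)⁻¹ := rfl
    refine same_tw.2 ⟨cmb (h : G) x, ?_⟩
    rw [hm, comm_eq S hh x.2, mul_assoc ((x : G) * h), tw_comm S _ (inv_mem hh), mul_assoc ((x : G) * h),
      mul_assoc (h : G)⁻¹, tw_mul S, Bool.xor_self]
    simp [tw]
  haveI : Finite ↥Q := Nat.finite_of_card_ne_zero (by rw [S.card]; norm_num)
  haveI : Finite V := inferInstanceAs (Finite (↥Q ⧸ Z))
  -- an element acting trivially lies in `Q`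
  have hfaith : ∀ h : C, A h = 1 → (h : G) ∈ Q := by
    intro h hh
    let l : V → Bool := fun v =>
      decide ((h : G) * ((Function.surjInv hπ v : ↥Q) : G) ≠ ((Function.surjInv hπ v : ↥Q) : G) * h)
    have hfix : ∀ x : ↥Q, (h : G) * x = x * h ∨ (h : G) * x = x * t * h := fun x => by
      have e := hA h x
      rw [hh] at e
      rcases (hπe x _).1 e with e | e
      · exact Or.inl (mul_inv_eq_iff_eq_mul.1 e)
      · exact Or.inr (mul_inv_eq_iff_eq_mul.1 e)
    have hlx : ∀ x : ↥Q, (h : G) * x = x * tw t (l (π x)) * h := fun x => by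
      obtain ⟨b, hb⟩ := same_tw.1 ((hπe _ _).1 (Function.surjInv_eq hπ (π x)))
      set y := Function.surjInv hπ (π x) with hy
      have hy' : (h : G) * y = y * tw t (l (π x)) * h := by
        rcases hfix y with e | e
        · simp [l, ← hy, e, tw]
        · have : (h : G) * y ≠ y * h := fun e' => RC.t_ne S (by
            rw [e] at e'
            exact mul_eq_left.1 (mul_right_cancel e'))
          simp [l, ← hy, this, tw, e, RC.t_ne S]
      calc (h : G) * x = h * y * tw t b := by rw [hb, mul_assoc]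
        _ = y * tw t (l (π x)) * (h * tw t b) := by rw [hy', mul_assoc _ (h : G)]
        _ = y * (tw t (l (π x)) * tw t b) * h := by
          rw [show (h : G) * tw t b = tw t b * h by
            cases b
            · simp [tw]
            · exact RC.mem_C.1 h.2]
          simp only [mul_assoc]
        _ = (y : G) * tw t b * tw t (l (π x)) * h := by
          rw [tw_mul S, Bool.xor_comm, ← tw_mul S]; simp only [mul_assoc]
        _ = _ := by rw [← hb]
    have hladd : ∀ u v, l (u + v) = (l u ^^ l v) := fun u v => by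
      obtain ⟨x, rfl⟩ := hπ u
      obtain ⟨y, rfl⟩ := hπ v
      rw [← hπm]
      refine tw_cancel S (x := ((x * y : ↥Q) : G)) (mul_right_cancel (b := (h : G)) ?_)
      rw [← hlx (x * y)]
      calc (h : G) * ((x : G) * y) = x * tw t (l (π x)) * (h * y) := by rw [← mul_assoc, hlx x, mul_assoc]
        _ = x * (tw t (l (π x)) * y) * tw t (l (π y)) * h := by rw [hlx y]; simp only [mul_assoc]
        _ = (x : G) * y * (tw t (l (π x)) * tw t (l (π y))) * h := by
          rw [tw_comm S _ y.2]; simp only [mul_assoc]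
        _ = _ := by rw [tw_mul S]; rfl
    obtain ⟨v, hv⟩ := exists_dual h2 Bf hBadd (fun a b c => by rw [hBsymm, hBadd, hBsymm b, hBsymm c]) hnd l hladd
    obtain ⟨r, rfl⟩ := hπ v
    have hm : (r : G)⁻¹ * h ∈ Q := by
      refine S.self _ (mul_mem (inv_mem (S.le r.2)) h.2) fun q hq => ?_
      have hl := hlx ⟨q, hq⟩
      rw [← hv, hBf] at hl
      have hc := comm_eq S r.2 hq
      calc (r : G)⁻¹ * h * q = (r : G)⁻¹ * (q * tw t (cmb (r : G) q) * h) := by rw [mul_assoc, hl]
        _ = q * ((r : G)⁻¹ * h) := by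
          have : (r : G)⁻¹ * (q * tw t (cmb (r : G) q)) = q * (r : G)⁻¹ := by
            rw [inv_mul_eq_iff_eq_mul, ← mul_assoc, eq_mul_inv_iff_mul_eq, hc, mul_assoc q, tw_comm S _ r.2,
              ← mul_assoc q (r : G)]
          rw [← mul_assoc (r : G)⁻¹, this, mul_assoc]
    have := mul_mem r.2 hm
    rwa [mul_inv_cancel_left] at this
  have hker : ∀ h : C, f h = 1 ↔ (h : G) ∈ Q := fun h => by
    rw [← MonoidHom.mem_ker, hfk, Subgroup.mem_subgroupOf]
  have hev : ∀ g ∈ Sp63, ∃ h, f h = g := fun g hg => by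
    have : g ∈ f.range := hfr ▸ hg
    exact this
  let R : Perm (Fin 63) → AddMonoid.End V := fun g =>
    if hg : g ∈ Sp63 then A (Classical.choose (hev g hg)) else 1
  have hR : ∀ h : C, R (f h) = A h := fun h => by
    have hs : f h ∈ Sp63 := hfr ▸ ⟨h, rfl⟩
    have hc := Classical.choose_spec (hev _ hs)
    show (if hg : f h ∈ Sp63 then A (Classical.choose (hev (f h) hg)) else 1) = A h
    rw [dif_pos hs]
    set k := Classical.choose (hev _ hs)
    have hq : ((h⁻¹ * k : C) : G) ∈ Q := (hker _).1 (by rw [map_mul, map_inv, hc, inv_mul_cancel])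
    calc A k = A (h * (h⁻¹ * k)) := by rw [mul_inv_cancel_left]
      _ = A h := by rw [hAm, hAQ _ hq, mul_one]
  let r : Rep V :=
    { R := R
      mul := fun {g g'} hg hg' => by
        obtain ⟨h, rfl⟩ := hev g hg
        obtain ⟨k, rfl⟩ := hev g' hg'
        rw [← map_mul, hR, hR, hR, hAm]
      one := by rw [← map_one f, hR, hAQ _ (by simp)]
      faith := fun g hg e => by
        obtain ⟨h, rfl⟩ := hev g hg
        rw [hR] at e
        exact (hker h).2 (hfaith h e)
      two := h2
      q := qf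
      B := Bf
      qadd := fun u v => by
        obtain ⟨x, rfl⟩ := hπ u
        obtain ⟨y, rfl⟩ := hπ v
        rw [← hπm, hqf, hqf, hqf, hBf, cmb_symm]
        exact sqb_mul S x.2 y.2
      Badd := hBadd
      nondeg := hnd
      qinv := fun g hg v => by
        obtain ⟨h, rfl⟩ := hev g hg
        obtain ⟨x, rfl⟩ := hπ v
        rw [hR, hA, hqf, hqf]
        show sqb ((h : G) * x * (h : G)⁻¹) = sqb (x : G)
        simp only [sqb, decide_eq_decide]
        rw [show (h : G) * x * (h : G)⁻¹ * ((h : G) * x * (h : G)⁻¹) = h * ((x : G) * x) * (h : G)⁻¹ by group,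
          ne_eq, ne_eq, not_iff_not, conj_eq_one_iff] }
  have hcardV : Nat.card V = 256 := by
    have := Subgroup.card_eq_card_quotient_mul_card_subgroup Z
    rw [S.card, show Nat.card ↥Z = 2 from S.extra.2] at this
    show Nat.card (↥Q ⧸ Z) = 256
    omega
  obtain ⟨L, hinj, hsurj, hcase⟩ := r.two_models hcardV
  have hadd := lin_xor h2 L
  have hinj2 : ∀ m < 256, ∀ n < 256, lin L m = lin L n → m = n := fun m hm n hn e =>
    Nat.xor_eq_zero_iff.1 (hinj _ (xor_lt hm hn) (by rw [hadd, e, h2]))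
  let cc : G → ℕ := fun x => if hx : x ∈ Q then (hsurj (π ⟨x, hx⟩)).choose else 0
  have hcc : ∀ x (hx : x ∈ Q), cc x < 256 ∧ lin L (cc x) = π ⟨x, hx⟩ := fun x hx => by
    simp only [cc, dif_pos hx]
    exact (hsurj (π ⟨x, hx⟩)).choose_spec
  have hclt : ∀ q ∈ Q, cc q < 256 := fun q hq => (hcc q hq).1
  have hcmul : ∀ q ∈ Q, ∀ s ∈ Q, cc (q * s) = cc q ^^^ cc s := fun q hq s hs =>
    hinj2 _ (hclt _ (mul_mem hq hs)) _ (xor_lt (hclt q hq) (hclt s hs)) (by
      rw [hadd, (hcc _ (mul_mem hq hs)).2, (hcc q hq).2, (hcc s hs).2, ← hπm]; rfl)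
  have hcker : ∀ q ∈ Q, cc q = 0 ↔ q = 1 ∨ q = t := fun q hq => by
    have h1 : cc q = 0 ↔ π 1 = π ⟨q, hq⟩ := by
      refine ⟨fun e => ?_, fun e => hinj2 _ (hclt q hq) _ (by norm_num) ?_⟩
      · rw [← (hcc q hq).2, e, lin_zero]; rfl
      · rw [(hcc q hq).2, ← e, lin_zero]; rfl
    rw [h1, hπe]
    show (q = 1 ∨ q = 1 * t) ↔ _
    rw [one_mul]
  have hcsurj : ∀ v < 256, ∃ q ∈ Q, cc q = v := fun v hv => by
    obtain ⟨x, hx⟩ := hπ (lin L v)
    exact ⟨x, x.2, hinj2 _ (hclt x x.2) _ hv ((hcc x x.2).2.trans hx)⟩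
  have hqc : ∀ q (hq : q ∈ Q), sqb q = r.q (lin L (cc q)) := fun q hq => by
    rw [(hcc q hq).2]; exact (hqf ⟨q, hq⟩).symm
  have hconj : ∀ (h : C) (w : List ℕ), permW w = f h → ∀ q (hq : q ∈ Q),
      r.T w (lin L (cc q)) = π ⟨(h : G) * q * (h : G)⁻¹, S.norm h h.2 q hq⟩ := fun h w hw q hq => by
    rw [(hcc q hq).2]
    show R (permW w) (π ⟨q, hq⟩) = _
    rw [hw, hR, hA]
    rfl
  have hstep : ∀ (F : ℕ → ℕ → ℕ), (∀ k < 7, ∀ m < 256, F k m < 256 ∧ r.T [k] (lin L m) = lin L (F k m)) →
      ∀ (w : List ℕ), ∀ m < 256, (w.foldr (fun k x => F (k % 7) x) m) < 256 ∧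
        r.T w (lin L m) = lin L (w.foldr (fun k x => F (k % 7) x) m) := by
    intro F hF w m hm
    induction w with
    | nil => exact ⟨hm, by rw [r.T_nil]; rfl⟩
    | cons k w ih =>
      obtain ⟨h1, h3⟩ := hF (k % 7) (Nat.mod_lt _ (by omega)) _ ih.1
      refine ⟨h1, ?_⟩
      rw [show k :: w = [k] ++ w from rfl, r.T_app, ih.2,
        show r.T [k] = r.T [k % 7] by rw [Rep.T, Rep.T, permW, permW, permW, permW, tv_mod], h3]
      rfl
  rcases hcase with hsX | ⟨qm, hrX, hqR, hpol⟩
  · have hX : mdS.X.all (fun M => M.all fun c => Nat.blt c 256) = true := by decide +kernel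
    have hactw : ∀ w m, act sX w m = w.foldr (fun k x => ap (gen sX (k % 7)) x) m := by
      intro w m
      induction w with
      | nil => rfl
      | cons k w ih => show ap (gen sX k) (act sX w m) = _; rw [ih, List.foldr_cons]; simp [gen]
    have hw := hstep (fun k m => ap (gen sX k) m) fun k hk m hm =>
      ⟨act_lt hX [k] hm, hsX k hk m hm⟩
    have huniq : ∀ v < 256, r.q (lin L v) = mdS.q v := by
      refine form_unique formC (by rw [lin_zero]; exact r.q_zero) (fun i v hv => ?_) ?_ ?_
      · have h := (hw [i] v hv).2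
        simp only [List.foldr_cons, List.foldr_nil] at h
        rw [show gen mdS.X i = gen sX (i % 7) by simp [gen, mdS], ← h, r.qT]
      · intro u v w _ _ _
        simp only [hadd, r.qadd, r.Badd]
        cases r.q (lin L u) <;> cases r.q (lin L v) <;> cases r.q (lin L w) <;> cases r.B (lin L u) (lin L v) <;>
          cases r.B (lin L u) (lin L w) <;> cases r.B (lin L v) (lin L w) <;> rfl
      · by_contra! hc
        haveI : Nontrivial V := Finite.one_lt_card_iff_nontrivial.1 (by omega)
        obtain ⟨u, hu⟩ := exists_ne (0 : V)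
        refine hu (r.nondeg u fun v => ?_)
        have hall : ∀ z, r.q z = false := fun z => by
          obtain ⟨m, hm, rfl⟩ := hsurj z
          exact Bool.eq_false_of_not_eq_true (hc m hm)
        have := r.qadd u v
        rw [hall, hall, hall] at this
        simpa using this.symm
    exact ⟨{
      π := f
      range := hfr
      ker := hker
      c := cc
      c_lt := hclt
      c_mul := hcmul
      c_ker := hcker
      c_surj := hcsurj
      sq := fun q hq => by rw [sq_eq S hq, hqc q hq, huniq _ (hclt q hq), mdS_q]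
      act := fun h w hww q hq => by
        have hm := S.norm h h.2 q hq
        obtain ⟨hlt, he⟩ := hw w (cc q) (hclt q hq)
        refine hinj2 _ (hclt _ hm) _ (by rw [hactw]; exact hlt) ?_
        rw [(hcc _ hm).2, hactw, ← he, hconj h w hww q hq] }, rfl⟩
  · refine (RC.kill (K := ({
      π := f
      range := hfr
      ker := hker
      c := cc
      qm := qm
      c_lt := hclt
      c_mul := hcmul
      c_ker := hcker
      c_surj := hcsurj
      sq := fun q hq => by rw [sq_eq S hq, hqc q hq, hqR _ (hclt q hq)]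
      comm := fun q hq s hs => by
        rw [← hpol, (hcc q hq).2, (hcc s hs).2]
        refine Iff.trans ?_ (iff_of_eq (congrArg (· = false) (hBf ⟨q, hq⟩ ⟨s, hs⟩).symm))
        simp [cmb]
      act := fun h w hww q hq => by
        have hm := S.norm h h.2 q hq
        obtain ⟨hlt, he⟩ := hstep (fun k m => rX true k m) (fun k hk m hm => ⟨rX_lt hm, hrX k hk m hm⟩) w (cc q)
          (hclt q hq)
        have hr : rAct true w (cc q) = w.foldr (fun k x => rX true (k % 7) x) (cc q) := by
          clear hlt he hww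
          induction w with
          | nil => rfl
          | cons k w ih =>
            rw [rAct, ih, List.foldr_cons, rX, rX, rootC, rootC, Nat.mod_mod]
        refine hinj2 _ (hclt _ hm) _ (by rw [hr]; exact hlt) ?_
        rw [(hcc _ hm).2, hr, ← he, hconj h w hww q hq]
      faith := fun h hh => hfaith h (AddMonoidHom.ext fun v => by
        obtain ⟨x, rfl⟩ := hπ v
        show A h (π x) = π x
        rw [hA]
        have h3 := congrArg (lin L) (hh x x.2)
        rw [(hcc _ (S.norm h h.2 x x.2)).2, (hcc _ x.2).2] at h3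
        exact h3) } : RC t Q)) S).elim

/-- **Coordinates**. -/
theorem Setup.exists_coords : Nonempty (Coords t Q) := by
  obtain ⟨f, hfr, hfk⟩ := S.quot
  obtain ⟨K, -⟩ := Setup.exists_coords_of S f hfr hfk
  exact ⟨K⟩

end

end

end Cfsg.Agent.Co2Recog
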