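import Cfsg.Agent.Lib.Co2Recog.NotFused
import Cfsg.Agent.Lib.Co2Recog.First
import Cfsg.Agent.Lib.Co2Recog.Endgame

/-!
Some conjugate of `t` in its centraliser acts on the spin module as a transvection.
-/

set_option autoImplicit false
set_option maxRecDepth 100000

namespace Cfsg.Agent.Co2Recog

open Cfsg.Agent.ThRec.Eight (ap)

variable {G : Type*} [Group G] {t : G} {Q : Subgroup G}

/-- **A conjugate over a transvection.** -/
theorem Coords.rootConj [Finite G] (S : Setup t Q) (K : Coords t Q) : RootConj t Q K := by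
  by_contra hR
  have nf := not_fused S K
  obtain ⟨g, P, hw⟩ := Two.exists_y0 S nf K hR
  refine Two.first_contra S K nf hR P hw (fun g' P' hw' q hq ⟨i, hi, e⟩ => ?_)
    fun g' P' hw' => (P'.first_facts hR hw').2
  have hf : fixV (eW y0W) (K.c q) = true := e ▸ List.all_eq_true.1 fbase_fix i (List.mem_range.2 hi)
  obtain ⟨b, hb⟩ := P'.fix_tw hw' hq hf
  have := (P'.first_facts hR hw').1 q hq b hb
  rw [this, tw, cond_false, mul_one] at hb
  exact (mul_inv_eq_iff_eq_mul.1 hb).symm

end Cfsg.Agent.Co2Recog
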