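import Cfsg.Agent.Lib.Co2Recog.Start
import Cfsg.Agent.Lib.Co2Recog.Module
import Cfsg.Agent.Lib.Co2Recog.Side.Amalgam

/-!
The recognition of the second Conway group: the embedding from the hypotheses on the centraliser.
-/

set_option autoImplicit false
set_option maxRecDepth 20000

namespace Cfsg.Agent.Co2Recog

open Cfsg

universe u

/-- **A copy of the second Conway group** containing the centraliser of the involution and the normaliser of
the image of the sign changes. -/
theorem exists_copy {G : Type u} [Group G] [Finite G] (hO : Cfsg.oddCore G = ⊥) (hZ : Subgroup.center G = ⊥)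
    (t : G) (ht : orderOf t = 2) (hcon : Cfsg.IsPConstrained 2 (Subgroup.centralizer ({t} : Set G)))
    (hQ : Cfsg.IsExtraspecial 2 (Cfsg.pCore 2 (Subgroup.centralizer ({t} : Set G))))
    (hcard : Nat.card (Cfsg.pCore 2 (Subgroup.centralizer ({t} : Set G))) = 2 ^ 9)
    (e : (Subgroup.centralizer ({t} : Set G)) ⧸ Cfsg.pCore 2 (Subgroup.centralizer ({t} : Set G)) ≃*
      Matrix.symplecticGroup (Fin 3) (ZMod 2)) :
    ∃ φ : ↥Spor.Co2 →* G, Function.Injective φ ∧
      (∀ g, g * φ E8Cent.t2 = φ E8Cent.t2 * g → g ∈ φ.range) ∧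
      ∀ g ∈ Subgroup.normalizer ((Side.A2.map φ : Subgroup G) : Set G), g ∈ φ.range := by
  obtain ⟨Q, S⟩ := Start.exists_setup hO hZ t ht hcon hQ hcard e
  obtain ⟨K⟩ := S.exists_coords
  obtain ⟨φ, hinj, -, hC, hA, hN⟩ := Side.exists_embedding S K
  exact ⟨φ, hinj, hC, hA ▸ hN⟩

end Cfsg.Agent.Co2Recog
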