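import Cfsg.Agent.Lib.Co2Recog.ModuleRep

/-!
The size of the commutator group of a product of two adjacent transvections, by a chain of five transvections
centralising them.
-/

set_option autoImplicit false
set_option maxRecDepth 100000

namespace Cfsg.Agent.Co2Recog

open Equiv

/-- The product of the first two transvections. -/
def w1 : List ℕ := [0, 1]

/-- The element of order three in the second plane. -/
def w2 : List ℕ := chn 0 ++ chn 1

/-- The element of order three in the third plane. -/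
def w3 : List ℕ := chn 3 ++ chn 4

theorem w1_facts : eqW (w1 ++ (w1 ++ w1)) [] = true ∧ eqW (w2 ++ (w2 ++ w2)) [] = true ∧
    eqW (w3 ++ (w3 ++ w3)) [] = true := by decide +kernel

theorem plane_facts : eqW (cjW g12 w1) w2 = true ∧ eqW (cjW g12 w2) w1 = true ∧
    eqW (cjW g13 w1) w3 = true ∧ eqW (cjW g13 w3) w1 = true ∧ eqW (cjW g23 w2) w3 = true ∧ eqW (cjW g23 w1) w2 = true := by decide +kernel

theorem norm_facts : ([0, 1].all (fun k => eqW (cjW [k] w1) w1.reverse) = true) ∧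
    ([3, 4, 5, 6].all (fun k => eqW (cjW [k] w1) w1) = true) ∧ eqW (cjW [2] w3) w3 = true := by
  decide +kernel

theorem chain_facts : (List.range 5).all (fun i => eqW (cjW (chn i) w1) w1 && eqW (w1 ++ chn i) (chn i ++ w1) &&
    eqW (chn i ++ chn i) []) = true := by decide +kernel

theorem chain_comm : [(0, 2), (2, 4), (4, 1), (1, 3), (0, 3)].all
    (fun p => eqW (chn p.1 ++ chn p.2) (chn p.2 ++ chn p.1)) = true := by decide +kernel

theorem chain_braid : (List.range 4).all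
    (fun i => eqW (chn i ++ (chn (i + 1) ++ chn i)) (chn (i + 1) ++ (chn i ++ chn (i + 1)))) = true := by
  decide +kernel

namespace Rep

variable {V : Type*} [AddCommGroup V] (r : Rep V)

theorem T_two {x : List ℕ} (h : eqW (x ++ x) [] = true) (v : V) : r.T x (r.T x v) = v := by
  rw [← r.T_app, r.rel h, r.T_nil]; rfl

theorem T_three {x : List ℕ} (h : eqW (x ++ (x ++ x)) [] = true) (v : V) : r.T x (r.T x (r.T x v)) = v := by
  rw [← r.T_app, ← r.T_app, List.append_assoc, r.rel h, r.T_nil]; rfl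

theorem T_swap {x y : List ℕ} (h : eqW (x ++ y) (y ++ x) = true) (v : V) : r.T x (r.T y v) = r.T y (r.T x v) := by
  rw [← r.T_app, ← r.T_app, r.rel h]

theorem fx_mv_zero {x : List ℕ} (h : eqW (x ++ (x ++ x)) [] = true) {v : V} (hf : v ∈ r.fx x) (hm : v ∈ r.mv x) :
    v = 0 := by
  obtain ⟨u, rfl⟩ := r.mem_mv.1 hm
  have h1 := r.mem_fx.1 hf
  rw [map_add] at h1
  have h2 : r.T x (r.T x u) = u := by
    calc r.T x (r.T x u) = r.T x (r.T x u) + r.T x u + r.T x u := by rw [add_assoc, r.two, add_zero]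
      _ = r.T x u + u + r.T x u := by rw [h1]
      _ = u := by rw [add_comm (r.T x u) u, add_assoc, r.two, add_zero]
  have h3 : r.T x u = u := by
    have h4 := congrArg (r.T x) h2
    rw [r.T_three h] at h4
    exact h4.symm
  rw [h3, r.two]

theorem split {x : List ℕ} (h : eqW (x ++ (x ++ x)) [] = true) (v : V) :
    ∃ f ∈ r.fx x, ∃ m ∈ r.mv x, v = f + m := by
  refine ⟨v + (r.T x v + r.T x (r.T x v)), r.mem_fx.2 ?_, r.T x (r.T x v) + r.T x v,
    r.mem_mv.2 ⟨r.T x v, rfl⟩, ?_⟩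
  · rw [map_add, map_add, r.T_three h]; abel
  · rw [add_comm (r.T x (r.T x v)) (r.T x v), add_assoc, r.two, add_zero]

theorem fx_reverse (x : List ℕ) : r.fx x.reverse = r.fx x := by
  ext v
  rw [r.mem_fx, r.mem_fx]
  exact ⟨fun e => (congrArg (r.T x) e).symm.trans (r.T_rev_right x v),
    fun e => (congrArg (r.T x.reverse) e).symm.trans (r.T_rev_left x v)⟩

theorem mv_reverse (x : List ℕ) : r.mv x.reverse = r.mv x := by
  ext v
  rw [r.mem_mv, r.mem_mv]
  constructor
  · rintro ⟨u, rfl⟩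
    exact ⟨r.T x.reverse u, by rw [r.T_rev_right]; abel⟩
  · rintro ⟨u, rfl⟩
    exact ⟨r.T x u, by rw [r.T_rev_left]; abel⟩

theorem mv_le_of_fx_eq {x y : List ℕ} (hx : eqW (x ++ (x ++ x)) [] = true) (h : r.fx x = r.fx y) :
    r.mv y ≤ r.mv x := by
  intro v hv
  obtain ⟨f, hf, m, hm, rfl⟩ := r.split hx v
  suffices f = 0 by rw [this, zero_add]; exact hm
  refine r.nondeg f fun w => ?_
  obtain ⟨g, hg, n, hn, rfl⟩ := r.split hx w
  rw [r.Badd_right, r.fx_ortho hf hn, Bool.xor_false]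
  have h1 := r.fx_ortho (h ▸ hg) hv
  rw [r.Badd_right, r.fx_ortho hg hm, Bool.xor_false, r.Bsymm] at h1
  exact h1

theorem card_split [Finite V] {S : AddSubgroup V} {x : List ℕ} :
    Nat.card ↥(r.fx x ⊓ S) * Nat.card ↥(S.map (r.N x : V →+ V)) = Nat.card S := by
  let f : S →+ V := (r.N x : V →+ V).comp S.subtype
  rw [AddSubgroup.card_eq_card_quotient_mul_card_addSubgroup f.ker,
    Nat.card_congr (QuotientAddGroup.quotientKerEquivRange f).toEquiv, mul_comm,
    show f.range = S.map (r.N x : V →+ V) from (AddMonoidHom.range_comp _ _).trans (congrArg _ S.range_subtype)]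
  congr 1
  refine Nat.card_congr ⟨fun v => ⟨⟨v.1, v.2.2⟩, v.2.1⟩, fun v => ⟨v.1.1, v.2, v.1.2⟩, fun _ => rfl, fun _ => rfl⟩

theorem card_mod_three [Finite V] {x : List ℕ} (h : eqW (x ++ (x ++ x)) [] = true) {S : AddSubgroup V}
    (hS : ∀ v ∈ S, r.T x v ∈ S) (h0 : ∀ v ∈ S, r.T x v = v → v = 0) : Nat.card S % 3 = 1 := by
  classical
  haveI := Fintype.ofFinite S
  let f : Function.End S := fun v => ⟨r.T x v, hS _ v.2⟩
  have hf : f ^ (3 ^ 1) = 1 := funext fun v => Subtype.ext (r.T_three h v.1)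
  have h1 := Equiv.Perm.card_fixedPoints_modEq hf
  rw [show Fintype.card f.fixedPoints = 1 from Fintype.card_eq_one_iff.2
    ⟨⟨0, Subtype.ext (map_zero (r.T x))⟩, fun v =>
      Subtype.ext (Subtype.ext (h0 _ v.1.2 (congrArg Subtype.val v.2)))⟩,
    ← Nat.card_eq_fintype_card] at h1
  exact h1

/-- The chain acts through equal involutions on a small invariant subgroup. -/
theorem chain [Finite V] {k : ℕ} {S : AddSubgroup V} (hk : 1 < k) (hcard : Nat.card S = k * k) {z : List ℕ}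
    (hS : ∀ i < 5, ∀ v ∈ S, r.T (chn i) v ∈ S) (hzS : ∀ v ∈ S, r.T z v ∈ S)
    (hz : ∀ i < 5, eqW (z ++ chn i) (chn i ++ z) = true)
    (hgood : ∀ U : AddSubgroup V, U ≤ S → (∀ v ∈ U, r.T z v ∈ U) →
      Nat.card U = 1 ∨ Nat.card U = k ∨ Nat.card U = k * k) :
    S ≤ r.fx w2 ∧ S ≤ r.fx w3 := by
  have hsq : ∀ i < 5, eqW (chn i ++ chn i) [] = true := fun i hi => by
    have := List.all_eq_true.1 chain_facts i (List.mem_range.2 hi)
    simp only [Bool.and_eq_true] at this
    exact this.2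
  let K : ℕ → AddSubgroup V := fun i => r.fx (chn i) ⊓ S
  let I : ℕ → AddSubgroup V := fun i => S.map (r.N (chn i) : V →+ V)
  have hIK : ∀ i < 5, I i ≤ K i := fun i hi => by
    rintro _ ⟨v, hv, rfl⟩
    refine ⟨r.mem_fx.2 ?_, S.add_mem (hS i hi v hv) hv⟩
    show r.T (chn i) (r.T (chn i) v + v) = r.T (chn i) v + v
    rw [map_add, r.T_two (hsq i hi)]; abel
  have hKz : ∀ i < 5, ∀ v ∈ K i, r.T z v ∈ K i := fun i hi v hv =>
    ⟨r.mem_fx.2 (by rw [← r.T_swap (hz i hi), r.mem_fx.1 hv.1]), hzS v hv.2⟩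
  have hIz : ∀ i < 5, ∀ v ∈ I i, r.T z v ∈ I i := by
    rintro i hi _ ⟨v, hv, rfl⟩
    refine ⟨r.T z v, hzS v hv, ?_⟩
    show r.T (chn i) (r.T z v) + r.T z v = r.T z (r.T (chn i) v + v)
    rw [map_add, r.T_swap (hz i hi)]
  have htri : ∀ i < 5, S ≤ r.fx (chn i) ∨ (I i = K i ∧ Nat.card (K i) = k) := by
    intro i hi
    have hm : Nat.card (K i) * Nat.card (I i) = k * k := r.card_split.trans hcard
    have hle : Nat.card (I i) ≤ Nat.card (K i) :=
      Nat.card_le_card_of_injective _ (AddSubgroup.inclusion_injective (hIK i hi))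
    rcases hgood (I i) ((hIK i hi).trans inf_le_right) (hIz i hi) with e | e | e
    · refine Or.inl fun v hv => r.mem_fx.2 (r.eq_of_add ?_)
      exact (AddSubgroup.mem_bot).1 ((AddSubgroup.eq_bot_of_card_eq _ e) ▸ ⟨v, hv, rfl⟩ : _ ∈ (⊥ : AddSubgroup V))
    · have hK : Nat.card (K i) = k := by rw [e] at hm; exact Nat.eq_of_mul_eq_mul_right (by omega) hm
      exact Or.inr ⟨AddSubgroup.eq_of_le_of_card_ge (hIK i hi) (by omega), hK⟩
    · exfalso
      rw [e] at hm hle
      have : 1 * (k * k) < Nat.card (K i) * (k * k) :=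
        Nat.mul_lt_mul_of_pos_right (lt_of_lt_of_le (Nat.one_lt_mul_iff.2 ⟨by omega, by omega, Or.inl hk⟩) hle)
          (by positivity)
      omega
  have hbr : ∀ i < 4, S ≤ r.fx (chn i) ↔ S ≤ r.fx (chn (i + 1)) := by
    intro i hi
    have hb := List.all_eq_true.1 chain_braid i (List.mem_range.2 hi)
    have he : ∀ v, r.T (chn i) (r.T (chn (i + 1)) (r.T (chn i) v)) =
        r.T (chn (i + 1)) (r.T (chn i) (r.T (chn (i + 1)) v)) := fun v => by
      rw [← r.T_app, ← r.T_app, ← r.T_app, ← r.T_app, List.append_assoc, List.append_assoc, r.rel hb]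
    constructor
    · intro h v hv
      have h1 := he v
      have e1 : ∀ u ∈ S, r.T (chn i) u = u := fun u hu => r.mem_fx.1 (h hu)
      rw [e1 v hv, e1 _ (hS (i + 1) (by omega) v hv), r.T_two (hsq (i + 1) (by omega))] at h1
      exact r.mem_fx.2 h1
    · intro h v hv
      have h1 := he v
      have e1 : ∀ u ∈ S, r.T (chn (i + 1)) u = u := fun u hu => r.mem_fx.1 (h hu)
      rw [e1 v hv, e1 _ (hS i (by omega) v hv), r.T_two (hsq i (by omega))] at h1
      exact r.mem_fx.2 h1.symm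
  by_cases h0 : S ≤ r.fx (chn 0)
  · have h1 := (hbr 0 (by omega)).1 h0
    have h2 := (hbr 1 (by omega)).1 h1
    have h3 := (hbr 2 (by omega)).1 h2
    have h4 := (hbr 3 (by omega)).1 h3
    exact ⟨fun v hv => r.mem_fx.2 (by rw [w2, r.T_app, r.mem_fx.1 (h1 hv), r.mem_fx.1 (h0 hv)]),
      fun v hv => r.mem_fx.2 (by rw [w3, r.T_app, r.mem_fx.1 (h4 hv), r.mem_fx.1 (h3 hv)])⟩
  have hall : ∀ i < 5, ¬ S ≤ r.fx (chn i) := by
    intro i hi
    interval_cases i
    · exact h0
    · exact fun h => h0 ((hbr 0 (by omega)).2 h)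
    · exact fun h => h0 ((hbr 0 (by omega)).2 ((hbr 1 (by omega)).2 h))
    · exact fun h => h0 ((hbr 0 (by omega)).2 ((hbr 1 (by omega)).2 ((hbr 2 (by omega)).2 h)))
    · exact fun h => h0 ((hbr 0 (by omega)).2 ((hbr 1 (by omega)).2 ((hbr 2 (by omega)).2 ((hbr 3 (by omega)).2 h))))
  have hK : ∀ i < 5, I i = K i ∧ Nat.card (K i) = k := fun i hi => (htri i hi).resolve_left (hall i hi)
  have hpair : ∀ p ∈ [(0, 2), (2, 4), (4, 1), (1, 3), (0, 3)], K p.1 = K p.2 := by
    intro p hp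
    have hc := List.all_eq_true.1 chain_comm p hp
    obtain ⟨hi, hj⟩ := (show ∀ q ∈ [(0, 2), (2, 4), (4, 1), (1, 3), (0, 3)], q.1 < 5 ∧ q.2 < 5 by decide) p hp
    have hkeep : ∀ v ∈ K p.1 ⊓ K p.2, r.T z v ∈ K p.1 ⊓ K p.2 :=
      fun v hv => ⟨hKz _ hi v hv.1, hKz _ hj v hv.2⟩
    rcases hgood (K p.1 ⊓ K p.2) (inf_le_left.trans inf_le_right) hkeep with e | e | e
    · exfalso
      have hb := AddSubgroup.eq_bot_of_card_eq _ e
      have hle : K p.1 ≤ K p.2 := fun v hv => by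
        have hn : r.N (chn p.2) v ∈ K p.1 ⊓ K p.2 := by
          refine ⟨⟨r.mem_fx.2 ?_, S.add_mem (hS _ hj v hv.2) hv.2⟩, hIK _ hj ⟨v, hv.2, rfl⟩⟩
          rw [r.N_apply, map_add, r.T_swap hc, r.mem_fx.1 hv.1]
        rw [hb] at hn
        exact ⟨r.mem_fx.2 (r.eq_of_add (AddSubgroup.mem_bot.1 hn)), hv.2⟩
      rw [inf_eq_left.2 hle] at e
      have := (hK _ hi).2
      omega
    · have h1 : K p.1 ⊓ K p.2 = K p.1 :=
        AddSubgroup.eq_of_le_of_card_ge inf_le_left (by rw [e, (hK _ hi).2])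
      have h2 : K p.1 ⊓ K p.2 = K p.2 :=
        AddSubgroup.eq_of_le_of_card_ge inf_le_right (by rw [e, (hK _ hj).2])
      rw [← h1, h2]
    · exfalso
      have hle : Nat.card ↥(K p.1 ⊓ K p.2) ≤ Nat.card (K p.1) :=
        Nat.card_le_card_of_injective _ (AddSubgroup.inclusion_injective inf_le_left)
      rw [e, (hK _ hi).2] at hle
      have : 1 * k < k * k := Nat.mul_lt_mul_of_pos_right hk (by omega)
      omega
  simp only [List.mem_cons, List.not_mem_nil, or_false, forall_eq_or_imp, forall_eq] at hpair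
  obtain ⟨p02, p24, p41, p13, p03⟩ := hpair
  have key : ∀ i < 4, K i = K (i + 1) → ∀ v ∈ S, r.T (chn i) (r.T (chn (i + 1)) v) = v := by
    intro i hi he v hv
    obtain ⟨a, ha, hav⟩ : ∃ a, a ∈ K i ∧ r.T (chn i) v = a + v :=
      ⟨r.N (chn i) v, hIK i (by omega) ⟨v, hv, rfl⟩, r.T_of_N _ _⟩
    obtain ⟨b, hb, hbv⟩ : ∃ b, b ∈ K i ∧ r.T (chn (i + 1)) v = b + v :=
      ⟨r.N (chn (i + 1)) v, he ▸ hIK (i + 1) (by omega) ⟨v, hv, rfl⟩, r.T_of_N _ _⟩
    have ha0 : r.T (chn i) a = a := r.mem_fx.1 ha.1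
    have ha1 : r.T (chn (i + 1)) a = a := r.mem_fx.1 (show a ∈ K (i + 1) from he ▸ ha).1
    have hb0 : r.T (chn i) b = b := r.mem_fx.1 hb.1
    have hb1 : r.T (chn (i + 1)) b = b := r.mem_fx.1 (show b ∈ K (i + 1) from he ▸ hb).1
    have hw := List.all_eq_true.1 chain_braid i (List.mem_range.2 hi)
    have h1 : r.T (chn i) (r.T (chn (i + 1)) (r.T (chn i) v)) =
        r.T (chn (i + 1)) (r.T (chn i) (r.T (chn (i + 1)) v)) := by
      rw [← r.T_app, ← r.T_app, ← r.T_app, ← r.T_app, List.append_assoc, List.append_assoc, r.rel hw]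
    simp only [hav, hbv, map_add, ha0, ha1, hb0, hb1] at h1
    have hab : a = b := by
      have e : ∀ x y : V, x + (y + (x + v)) = y + v := fun x y => by
        calc x + (y + (x + v)) = (x + x) + (y + v) := by abel
          _ = y + v := by rw [r.two, zero_add]
      rw [e, e] at h1
      exact (add_right_cancel h1).symm
    rw [hbv, map_add, hb0, hav, hab, ← add_assoc, r.two, zero_add]
  exact ⟨fun v hv => r.mem_fx.2 (by rw [w2, r.T_app, key 0 (by omega) (p02.trans (p24.trans p41)) v hv]),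
    fun v hv => r.mem_fx.2 (by rw [w3, r.T_app, key 3 (by omega) ((p13.symm.trans p41.symm)) v hv])⟩

/-- Either the commutator group has order four or a nontrivial invariant subgroup meets no fixed point. -/
theorem dichotomy [Finite V] (hV : Nat.card V = 256) :
    Nat.card (r.mv w1) = 4 ∨ ∃ W : AddSubgroup V, (∀ k, ∀ v ∈ W, r.T [k] v ∈ W) ∧
      (∀ v ∈ W, r.T w1 v = v → v = 0) ∧ ∃ v ∈ W, v ≠ 0 := by
  obtain ⟨hw1, hw2, hw3⟩ := w1_facts
  obtain ⟨g12a, g12b, g13a, g13b, g23a, g23b⟩ := plane_facts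
  have hcomm : ∀ i < 5, eqW (cjW (chn i) w1) w1 = true ∧ eqW (w1 ++ chn i) (chn i ++ w1) = true := fun i hi => by
    have := List.all_eq_true.1 chain_facts i (List.mem_range.2 hi)
    simp only [Bool.and_eq_true] at this
    exact this.1
  have hfix0 : ∀ v ∈ r.mv w1, r.T w1 v = v → v = 0 := fun v hv e => r.fx_mv_zero hw1 (r.mem_fx.2 e) hv
  have hinv : ∀ v ∈ r.mv w1, r.T w1 v ∈ r.mv w1 := by
    intro _ hv
    obtain ⟨u, rfl⟩ := r.mem_mv.1 hv
    exact r.mem_mv.2 ⟨r.T w1 u, (map_add _ _ _).symm⟩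
  have hmod := r.card_mod_three hw1 hinv hfix0
  have hcm := r.card_mul w1
  rw [hV] at hcm
  obtain ⟨e, he, hK⟩ := (Nat.dvd_prime_pow Nat.prime_two).1
    (show Nat.card (r.mv w1) ∣ 2 ^ 8 from Dvd.intro_left _ hcm)
  rw [hK] at hmod hcm
  rcases (show e = 0 ∨ e = 2 ∨ e = 4 ∨ e = 6 ∨ e = 8 by interval_cases e <;> simp_all) with
    rfl | rfl | rfl | rfl | rfl <;> norm_num at hK hcm
  · -- the trivial case
    exfalso
    have hb := hK
    have hT : r.T w1 = 1 := AddMonoidHom.ext fun v => r.eq_of_add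
      (AddSubgroup.mem_bot.1 (hb ▸ r.mem_mv.2 ⟨v, rfl⟩ : _ ∈ (⊥ : AddSubgroup V)))
    have h1 := r.faith _ (permW_mem w1) hT
    exact absurd (Equiv.congr_fun h1 0) (by rw [← stepW_spec]; decide +kernel)
  · exact Or.inl hK
  · -- sixteen
    exfalso
    obtain ⟨h2, h3⟩ := r.chain (k := 4) (by omega) hK (z := w1) (fun i hi v hv => r.map_mv (hcomm i hi).1 hv)
      hinv (fun i hi => (hcomm i hi).2) fun U hU hUz => by
        have hm := r.card_mod_three hw1 hUz fun v hv => hfix0 v (hU hv)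
        have hd : Nat.card U ∣ 2 ^ 4 := by
          rw [show (2 : ℕ) ^ 4 = Nat.card (r.mv w1) by rw [hK]; norm_num]
          exact AddSubgroup.card_dvd_of_le hU
        obtain ⟨j, hj, hj'⟩ := (Nat.dvd_prime_pow Nat.prime_two).1 hd
        interval_cases j <;> simp_all
    let φ : r.mv w1 × r.mv w2 → r.fx w3 := fun p => ⟨p.1.1 + p.2.1, (r.fx w3).add_mem (h3 p.1.2) (by
      obtain ⟨u, hu, e⟩ := r.exists_mv g23b p.2.2
      exact e ▸ r.map_fx g23a (h2 hu))⟩
    have hφ : Function.Injective φ := by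
      intro p q e
      have e' : p.1.1 + p.2.1 = q.1.1 + q.2.1 := congrArg Subtype.val e
      have e'' : p.1.1 + q.1.1 = p.2.1 + q.2.1 := by
        calc p.1.1 + q.1.1 = p.1.1 + p.2.1 + (q.1.1 + p.2.1) := by
              rw [add_assoc p.1.1, ← add_assoc p.2.1, add_comm p.2.1 q.1.1, add_assoc q.1.1, r.two, add_zero]
          _ = _ := by rw [e', add_assoc q.1.1, ← add_assoc q.2.1, add_comm q.2.1 q.1.1, add_assoc q.1.1,
                ← add_assoc q.1.1 q.1.1, r.two, zero_add, add_comm]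
      have h0 : p.1.1 + q.1.1 = 0 := r.fx_mv_zero hw2 (h2 ((r.mv w1).add_mem p.1.2 q.1.2))
        (e'' ▸ (r.mv w2).add_mem p.2.2 q.2.2)
      exact Prod.ext (Subtype.ext (r.eq_of_add h0)) (Subtype.ext (r.eq_of_add (e'' ▸ h0)))
    have hle := Nat.card_le_card_of_injective φ hφ
    have h3c := r.card_mul w3
    rw [r.card_mv g13a, hK, hV] at h3c
    rw [Nat.card_prod, r.card_mv g12a, hK] at hle
    omega
  · -- sixty-four
    refine Or.inr ⟨r.mv w1, ?_, hfix0, ?_⟩
    · have hF : Nat.card (r.fx w1) = 2 * 2 := by omega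
      obtain ⟨h2, h3⟩ := r.chain (k := 2) (by omega) hF (z := []) (fun i hi v hv => r.map_fx (hcomm i hi).1 hv)
        (fun v hv => by rw [r.T_nil]; exact hv) (fun i _ => by simp [eqW]) fun U hU _ => by
          have hd : Nat.card U ∣ 2 ^ 2 := by
            rw [show (2 : ℕ) ^ 2 = Nat.card (r.fx w1) by rw [hF]; norm_num]
            exact AddSubgroup.card_dvd_of_le hU
          obtain ⟨j, hj, hj'⟩ := (Nat.dvd_prime_pow Nat.prime_two).1 hd
          interval_cases j <;> simp_all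
      have hc3 := r.card_mul w3
      rw [r.card_mv g13a, hK, hV] at hc3
      have he := AddSubgroup.eq_of_le_of_card_ge h3 (by omega)
      have hmv : r.mv w3 = r.mv w1 :=
        le_antisymm (r.mv_le_of_fx_eq hw1 he) (r.mv_le_of_fx_eq hw3 he.symm)
      intro k v hv
      obtain ⟨hn, hn', hn2⟩ := norm_facts
      rw [show r.T [k] v = r.T [k % 7] v by rw [T, T, permW, permW, permW, permW, tv_mod]]
      have hk : k % 7 < 7 := Nat.mod_lt _ (by omega)
      interval_cases k % 7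
      · rw [← r.mv_reverse]; exact r.map_mv (List.all_eq_true.1 hn 0 (by decide)) hv
      · rw [← r.mv_reverse]; exact r.map_mv (List.all_eq_true.1 hn 1 (by decide)) hv
      · rw [← hmv] at hv ⊢; exact r.map_mv hn2 hv
      all_goals exact r.map_mv (List.all_eq_true.1 hn' _ (by decide)) hv
    · by_contra! hc
      have hb : r.mv w1 = ⊥ := (AddSubgroup.eq_bot_iff_forall _).2 hc
      rw [hb, AddSubgroup.card_bot] at hK
      omega
  · refine Or.inr ⟨⊤, fun _ _ _ => trivial, fun v _ h => ?_, ?_⟩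
    · have hb : r.fx w1 = ⊥ := hcm
      exact AddSubgroup.mem_bot.1 (hb ▸ r.mem_fx.2 h)
    · haveI : Nontrivial V := Finite.one_lt_card_iff_nontrivial.1 (by omega)
      obtain ⟨v, hv⟩ := exists_ne (0 : V)
      exact ⟨v, trivial, hv⟩

end Rep

end Cfsg.Agent.Co2Recog
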