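import Cfsg.Agent.Lib.Co2Recog.ModuleChain

/-!
Seven square-zero operators with the anticommutation relations of the diagram: an invariant subgroup without
fixed points is the spin module.
-/

set_option autoImplicit false
set_option maxRecDepth 100000

namespace Cfsg.Agent.Co2Recog

open Cfsg.Agent.ThRec.Eight (ap gen lin lin_cons map_lin lin_ap lin_xor lin_zero ap_lt allV allV_spec xor_lt)

/-- Adjacency in the diagram. -/
def adj (a b : ℕ) : Bool :=
  [(0, 1), (1, 2), (2, 3), (3, 4), (4, 5), (2, 6)].any fun e => e == (a, b) || e == (b, a)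

/-- The pairing of two sums of letters. -/
def adjL (l l' : List ℕ) : Bool :=
  l'.foldr (fun b x => (l.foldr (fun a y => adj a b ^^ y) false) ^^ x) false

/-- The six operators as sums of letters. -/
def opsL : List (List ℕ) := [[0], [2], [4], [1, 3, 5], [3, 5], [5]]

/-- The product of the annihilators selected by a mask. -/
def eseq (s m : ℕ) : ℕ :=
  let f := fun (i : ℕ) (x : ℕ) => cond (s.testBit i) (ap (opM.getD i []) x) x
  f 2 (f 1 (f 0 m))

theorem mask_inj : allV (fun m => m == 0 || (List.range 8).any fun s => eseq s m == 1) = true := by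
  decide +kernel

theorem mask_kill : allV (fun m => !(ap (opM.getD 0 []) m == 0 && ap (opM.getD 1 []) m == 0 &&
    ap (opM.getD 2 []) m == 0) || (m == 0 || m == 1)) = true := by decide +kernel

theorem spin_table : (List.range 7).all (fun k => allV fun m =>
    Nat.xor (ap spinL m) (ap (opM.map fun M => ap M (ap spinL m)) (spinC.getD k 0)) ==
      ap spinL (ap (gen sX k) m)) = true := by decide +kernel

theorem spinL_inj : allV (fun m => m == 0 || !(ap spinL m == 0)) = true := by decide +kernel

theorem spinL_lt : ∀ c ∈ spinL, c < 2 ^ 8 := by decide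

theorem eq_of_add_two {A : Type*} [AddCommGroup A] (two : ∀ x : A, x + x = 0) {a b : A} (h : a + b = 0) :
    a = b := by
  calc a = a + (b + b) := by rw [two, add_zero]
    _ = b := by rw [← add_assoc, h, zero_add]

theorem lin_nil {A : Type*} [AddCommGroup A] (m : ℕ) : lin ([] : List A) m = 0 := rfl

theorem lin_replicate {A : Type*} [AddCommGroup A] : ∀ (k m : ℕ), lin (List.replicate k (0 : A)) m = 0
  | 0, _ => rfl
  | k + 1, m => by
    show cond _ (0 : A) 0 + lin (List.replicate k 0) _ = 0
    rw [lin_replicate k, add_zero, Bool.cond_self]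

section
variable {A : Type*} [AddCommGroup A] (n : ℕ → AddMonoid.End A) (two : ∀ x : A, x + x = 0)
  (sq : ∀ a x, a < 7 → n a (n a x) = 0)
  (anti : ∀ a b x, a < 7 → b < 7 → n a (n b x) + n b (n a x) = cond (adj a b) x 0)

/-- A sum of operators. -/
def opS : List ℕ → AddMonoid.End A
  | [] => 0
  | a :: l => n a + opS l

include two in
theorem cond_add (p q : Bool) (x : A) : cond p x 0 + cond q x 0 = cond (p ^^ q) x 0 := by
  cases p <;> cases q <;> simp [two]

include two anti in
theorem opS_anti_one : ∀ (l : List ℕ), (∀ a ∈ l, a < 7) → ∀ b, b < 7 → ∀ x,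
    opS n l (n b x) + n b (opS n l x) = cond (l.foldr (fun a y => adj a b ^^ y) false) x 0
  | [], _, b, _, x => by simp [opS]
  | a :: l, h, b, hb, x => by
    have h1 := opS_anti_one l (fun c hc => h c (List.mem_cons_of_mem _ hc)) b hb x
    have h2 := anti a b x (h a List.mem_cons_self) hb
    show n a (n b x) + opS n l (n b x) + n b (n a x + opS n l x) = _
    rw [map_add, List.foldr_cons, ← cond_add two, ← h1, ← h2]
    abel

include two anti in
theorem opS_anti : ∀ (l l' : List ℕ), (∀ a ∈ l, a < 7) → (∀ a ∈ l', a < 7) → ∀ x,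
    opS n l (opS n l' x) + opS n l' (opS n l x) = cond (adjL l l') x 0
  | l, [], _, _, x => by simp [opS, adjL]
  | l, b :: l', h, h', x => by
    have h1 := opS_anti l l' h (fun c hc => h' c (List.mem_cons_of_mem _ hc)) x
    have h2 := opS_anti_one n two anti l h b (h' b List.mem_cons_self) x
    show opS n l (n b x + opS n l' x) + (n b (opS n l x) + opS n l' (opS n l x)) = _
    rw [map_add, adjL, List.foldr_cons, ← adjL, ← cond_add two, ← h1, ← h2]
    abel

include two sq anti in
theorem opS_sq : ∀ (l : List ℕ), (∀ a ∈ l, a < 7) → (∀ a ∈ l, ∀ b ∈ l, adj a b = false) →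
    ∀ x, opS n l (opS n l x) = 0
  | [], _, _, x => rfl
  | a :: l, h, hn, x => by
    have h1 := opS_sq l (fun c hc => h c (List.mem_cons_of_mem _ hc))
      (fun c hc d hd => hn c (List.mem_cons_of_mem _ hc) d (List.mem_cons_of_mem _ hd)) x
    have h2 := opS_anti_one n two anti l (fun c hc => h c (List.mem_cons_of_mem _ hc)) a (h a List.mem_cons_self) x
    have hz : l.foldr (fun c y => adj c a ^^ y) false = false := by
      have : ∀ c ∈ l, adj c a = false := fun c hc => hn c (List.mem_cons_of_mem _ hc) a List.mem_cons_self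
      clear h h1 h2 hn
      induction l with
      | nil => rfl
      | cons c l ih =>
        rw [List.foldr_cons, this c List.mem_cons_self, ih fun d hd => this d (List.mem_cons_of_mem _ hd)]
        rfl
    rw [hz, cond_false] at h2
    show n a (n a x + opS n l x) + opS n l (n a x + opS n l x) = 0
    rw [map_add, map_add, sq a x (h a List.mem_cons_self), h1, zero_add, add_zero, add_comm]
    exact h2

/-- An operator of the six. -/
def opJ (j : ℕ) : AddMonoid.End A := opS n (opsL.getD j [])

include two sq anti in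
theorem spin_basis {u : A} (hu : u ≠ 0) :
    ∃ L : List A, (∀ m < 256, lin L m = 0 → m = 0) ∧
      ((∀ x, ∃ m < 256, lin L m = x) → ∀ k < 7, ∀ m < 256, lin L m + n k (lin L m) = lin L (ap (gen sX k) m)) := by
  have hops : ∀ j < 6, ∀ a ∈ opsL.getD j [], a < 7 := by decide
  have hanti : ∀ i < 6, ∀ j < 6, ∀ x, opJ n i (opJ n j x) + opJ n j (opJ n i x) =
      cond (adjL (opsL.getD i []) (opsL.getD j [])) x 0 :=
    fun i hi j hj x => opS_anti n two anti _ _ (hops i hi) (hops j hj) x
  have hsq : ∀ j < 6, ∀ x, opJ n j (opJ n j x) = 0 := fun j hj x =>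
    opS_sq n two sq anti _ (hops j hj)
      ((show ∀ j < 6, ∀ a ∈ opsL.getD j [], ∀ b ∈ opsL.getD j [], adj a b = false by decide) j hj) x
  have hswap : ∀ i < 6, ∀ j < 6, ∀ x, opJ n i (opJ n j x) =
      opJ n j (opJ n i x) + cond (adjL (opsL.getD i []) (opsL.getD j [])) x 0 := fun i hi j hj x => by
    rw [← hanti i hi j hj, add_left_comm, two, add_zero]
  obtain ⟨v, hv0, h0, h1, h2⟩ : ∃ v, v ≠ 0 ∧ opJ n 0 v = 0 ∧ opJ n 1 v = 0 ∧ opJ n 2 v = 0 := by
    obtain ⟨a, ha, ha0⟩ : ∃ a, a ≠ 0 ∧ opJ n 0 a = 0 := by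
      by_cases e : opJ n 0 u = 0
      exacts [⟨u, hu, e⟩, ⟨_, e, hsq 0 (by omega) u⟩]
    obtain ⟨b, hb, hb0, hb1⟩ : ∃ b, b ≠ 0 ∧ opJ n 0 b = 0 ∧ opJ n 1 b = 0 := by
      by_cases e : opJ n 1 a = 0
      · exact ⟨a, ha, ha0, e⟩
      · refine ⟨_, e, ?_, hsq 1 (by omega) a⟩
        rw [hswap 0 (by omega) 1 (by omega), ha0,
          show adjL (opsL.getD 0 []) (opsL.getD 1 []) = false by decide, cond_false, map_zero, add_zero]
    by_cases e : opJ n 2 b = 0
    · exact ⟨b, hb, hb0, hb1, e⟩
    · refine ⟨_, e, ?_, ?_, hsq 2 (by omega) b⟩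
      · rw [hswap 0 (by omega) 2 (by omega), hb0,
          show adjL (opsL.getD 0 []) (opsL.getD 2 []) = false by decide, cond_false, map_zero, add_zero]
      · rw [hswap 1 (by omega) 2 (by omega), hb1,
          show adjL (opsL.getD 1 []) (opsL.getD 2 []) = false by decide, cond_false, map_zero, add_zero]
  let L : List A := [v, opJ n 3 v, opJ n 4 v, opJ n 4 (opJ n 3 v), opJ n 5 v, opJ n 5 (opJ n 3 v),
    opJ n 5 (opJ n 4 v), opJ n 5 (opJ n 4 (opJ n 3 v))]
  have hlad : ∀ M m, lin L (ap M m) = lin (M.map (lin L)) m := lin_ap (lin_zero L) (lin_xor two L)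
  have hL1 : lin L 1 = v := Cfsg.Agent.ThRec.Eight.lin_two_pow L 0
  have hact : ∀ j < 6, ∀ m, opJ n j (lin L m) = lin L (ap (opM.getD j []) m) := by
    have e03 : ∀ x, opJ n 0 (opJ n 3 x) = opJ n 3 (opJ n 0 x) + x := hswap 0 (by omega) 3 (by omega)
    have e04 : ∀ x, opJ n 0 (opJ n 4 x) = opJ n 4 (opJ n 0 x) + 0 := hswap 0 (by omega) 4 (by omega)
    have e05 : ∀ x, opJ n 0 (opJ n 5 x) = opJ n 5 (opJ n 0 x) + 0 := hswap 0 (by omega) 5 (by omega)
    have e13 : ∀ x, opJ n 1 (opJ n 3 x) = opJ n 3 (opJ n 1 x) + 0 := hswap 1 (by omega) 3 (by omega)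
    have e14 : ∀ x, opJ n 1 (opJ n 4 x) = opJ n 4 (opJ n 1 x) + x := hswap 1 (by omega) 4 (by omega)
    have e15 : ∀ x, opJ n 1 (opJ n 5 x) = opJ n 5 (opJ n 1 x) + 0 := hswap 1 (by omega) 5 (by omega)
    have e23 : ∀ x, opJ n 2 (opJ n 3 x) = opJ n 3 (opJ n 2 x) + 0 := hswap 2 (by omega) 3 (by omega)
    have e24 : ∀ x, opJ n 2 (opJ n 4 x) = opJ n 4 (opJ n 2 x) + 0 := hswap 2 (by omega) 4 (by omega)
    have e25 : ∀ x, opJ n 2 (opJ n 5 x) = opJ n 5 (opJ n 2 x) + x := hswap 2 (by omega) 5 (by omega)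
    have e34 : ∀ x, opJ n 3 (opJ n 4 x) = opJ n 4 (opJ n 3 x) + 0 := hswap 3 (by omega) 4 (by omega)
    have e35 : ∀ x, opJ n 3 (opJ n 5 x) = opJ n 5 (opJ n 3 x) + 0 := hswap 3 (by omega) 5 (by omega)
    have e45 : ∀ x, opJ n 4 (opJ n 5 x) = opJ n 5 (opJ n 4 x) + 0 := hswap 4 (by omega) 5 (by omega)
    intro j hj m
    rw [hlad]
    refine (map_lin (opJ n j : A →+ A) L m).trans (congrArg (fun l => lin l m)
      (?_ : L.map (fun x => opJ n j x) = _))
    interval_cases j <;>
      simp [L, opM, lin_cons, lin_nil, Cfsg.Agent.ThRec.Eight.odd_eq, Nat.testBit_zero, e03, e04, e05, e13, e14, e15, e23, e24, e25, e34, e35, e45,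
        h0, h1, h2, hsq 3 (by omega), hsq 4 (by omega), hsq 5 (by omega)]
  have hinj : ∀ m < 256, lin L m = 0 → m = 0 := by
    intro m hm hz
    have h := allV_spec mask_inj hm
    rw [Bool.or_eq_true, beq_iff_eq, List.any_eq_true] at h
    rcases h with e | ⟨s, -, e⟩
    · exact e
    exfalso
    have hstep : ∀ i < 6, ∀ x, lin L x = 0 → lin L (cond (s.testBit i) (ap (opM.getD i []) x) x) = 0 := by
      intro i hi x hx
      cases s.testBit i
      · exact hx
      · rw [cond_true, ← hact i hi, hx, map_zero]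
    have := hstep 2 (by omega) _ (hstep 1 (by omega) _ (hstep 0 (by omega) _ hz))
    rw [show cond (s.testBit 2) _ _ = eseq s m from rfl, beq_iff_eq.1 e] at this
    exact hv0 (hL1.symm.trans this)
  refine ⟨spinL.map (lin L), fun m hm hz => ?_, fun hs k hk m hm => ?_⟩
  · rw [← hlad] at hz
    have h := allV_spec spinL_inj hm
    rw [hinj _ (ap_lt (n := 8) spinL_lt m) hz] at h
    simpa using h
  · simp only [← hlad] at hs ⊢
    have hcent : ∀ j < 6, ∀ x, opS n [3, 5, 6] (opJ n j x) = opJ n j (opS n [3, 5, 6] x) := by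
      intro j hj x
      refine (eq_of_add_two two ?_)
      rw [opJ, opS_anti n two anti _ _ (by decide) (hops j hj),
        (show ∀ j < 6, adjL [3, 5, 6] (opsL.getD j []) = false by decide) j hj]
      rfl
    have hXv : opS n [3, 5, 6] v = 0 := by
      obtain ⟨c, hc, e⟩ := hs (opS n [3, 5, 6] v)
      have hk : ∀ j < 3, ap (opM.getD j []) (ap spinL c) = 0 := fun j hj => by
        refine hinj _ (ap_lt (n := 8) ((show ∀ j < 3, ∀ z ∈ opM.getD j [], z < 2 ^ 8 by decide) j hj) _) ?_
        rw [← hact j (by omega), e, ← hcent j (by omega)]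
        interval_cases j <;> simp [h0, h1, h2]
      have h := allV_spec mask_kill (ap_lt (n := 8) spinL_lt c)
      rw [hk 0 (by omega), hk 1 (by omega), hk 2 (by omega)] at h
      simp only [beq_self_eq_true, Bool.and_self, Bool.not_true, Bool.false_or, Bool.or_eq_true, beq_iff_eq] at h
      rcases h with h | h <;> rw [h] at e
      · rw [← e, lin_zero]
      · have e' : opS n [3, 5, 6] v = v := e.symm.trans hL1
        have := opS_sq n two sq anti [3, 5, 6] (by decide) (by decide) v
        rw [e', e'] at this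
        exact absurd this hv0
    have hX : ∀ x, opS n [3, 5, 6] x = 0 := by
      intro x
      obtain ⟨c, hc, rfl⟩ := hs x
      have hz : L.map (fun x => opS n [3, 5, 6] x) = List.replicate 8 0 := by
        simp [L, hcent, hXv]
      exact (map_lin (opS n [3, 5, 6] : A →+ A) L _).trans
        ((congrArg (fun l => lin l _) hz).trans (lin_replicate _ _))
    have hn : ∀ x, n k x = lin ((List.range 6).map fun j => opJ n j x) (spinC.getD k 0) := by
      intro x
      have e6 : n 6 x = n 3 x + n 5 x := by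
        refine eq_of_add_two two ?_
        rw [← hX x]
        show n 6 x + (n 3 x + n 5 x) = n 3 x + (n 5 x + (n 6 x + (0 : AddMonoid.End A) x))
        rw [show (0 : AddMonoid.End A) x = 0 from rfl]; abel
      have hl : ∀ (f g : AddMonoid.End A) (y : A), (f + g) y = f y + g y := fun _ _ _ => rfl
      interval_cases k <;>
        simp [spinC, lin_cons, lin_nil, opJ, opsL, opS, Cfsg.Agent.ThRec.Eight.odd_eq, Nat.testBit_zero, List.range_succ, e6, two, hl]
      all_goals abel_nf
      all_goals try simp [two_zsmul, two_nsmul, two]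
    have hmap : ((List.range 6).map fun j => opJ n j (lin L (ap spinL m))) =
        (opM.map fun M => ap M (ap spinL m)).map (lin L) := by
      rw [List.map_map, show opM = (List.range 6).map (fun j => opM.getD j []) from rfl, List.map_map]
      exact List.map_congr_left fun j hj => hact j (List.mem_range.1 hj) _
    rw [hn, hmap, ← hlad, ← lin_xor two]
    congr 1
    exact beq_iff_eq.1 (allV_spec (List.all_eq_true.1 spin_table k (List.mem_range.2 hk)) hm)
end

theorem edge_facts : (List.range 6).all (fun e =>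
    let p := [(0, 1), (1, 2), (2, 3), (3, 4), (4, 5), (2, 6)].getD e (0, 0)
    eqW (cjW (edgeW.getD e []) w1) [p.1, p.2]) = true := by decide +kernel

theorem nonedge_facts : (List.range 7).all (fun a => (List.range 7).all fun b =>
    adj a b || eqW ([a] ++ [b]) ([b] ++ [a])) = true := by decide +kernel

theorem letter_sq : (List.range 7).all (fun a => eqW ([a] ++ [a]) []) = true := by decide +kernel

theorem adj_edge : ∀ a < 7, ∀ b < 7, adj a b = true → ∃ e < 6,
    [(0, 1), (1, 2), (2, 3), (3, 4), (4, 5), (2, 6)].getD e (0, 0) = (a, b) ∨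
      [(0, 1), (1, 2), (2, 3), (3, 4), (4, 5), (2, 6)].getD e (0, 0) = (b, a) := by decide +kernel

namespace Rep

variable {V : Type*} [AddCommGroup V] (r : Rep V)

theorem T_mem {W : AddSubgroup V} (hT : ∀ k, ∀ v ∈ W, r.T [k] v ∈ W) : ∀ (w : List ℕ), ∀ v ∈ W, r.T w v ∈ W
  | [], v, hv => by rw [r.T_nil]; exact hv
  | k :: w, v, hv => by
    rw [show k :: w = [k] ++ w from rfl, r.T_app]
    exact hT k _ (T_mem hT w v hv)

theorem cases_256 [Finite V] (hV : Nat.card V = 256) {W : AddSubgroup V} (hT : ∀ k, ∀ v ∈ W, r.T [k] v ∈ W)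
    (h0 : ∀ v ∈ W, r.T w1 v = v → v = 0) (hne : ∃ v ∈ W, v ≠ 0) :
    ∃ L : List V, (∀ m < 256, lin L m = 0 → m = 0) ∧ (∀ x, ∃ m < 256, lin L m = x) ∧
      ∀ k < 7, ∀ m < 256, r.T [k] (lin L m) = lin L (ap (gen sX k) m) := by
  let n : ℕ → AddMonoid.End W := fun k => ((r.N [k] : V →+ V).comp W.subtype).codRestrict W
    fun v => W.add_mem (hT k v v.2) v.2
  have hn : ∀ k (x : W), ((n k x : W) : V) = r.T [k] x + x := fun _ _ => rfl
  have two : ∀ x : W, x + x = 0 := fun x => Subtype.ext (r.two _)
  have hsq : ∀ a < 7, ∀ v : V, r.T [a] (r.T [a] v) = v := fun a ha v =>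
    r.T_two (List.all_eq_true.1 letter_sq a (List.mem_range.2 ha)) v
  have sq : ∀ a x, a < 7 → n a (n a x) = 0 := fun a x ha => Subtype.ext (by
    rw [hn, hn, map_add, hsq a ha, add_comm, add_comm (x : V), r.two]; rfl)
  have anti : ∀ a b x, a < 7 → b < 7 → n a (n b x) + n b (n a x) = cond (adj a b) x 0 := by
    intro a b x ha hb
    refine Subtype.ext ?_
    have hl : ((n a (n b x) + n b (n a x) : W) : V) = r.T [a] (r.T [b] x) + r.T [b] (r.T [a] x) := by
      rw [AddSubgroup.coe_add, hn, hn, hn, hn, map_add, map_add]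
      calc _ = r.T [a] (r.T [b] x) + r.T [b] (r.T [a] x) + ((r.T [a] x + r.T [a] x) + (r.T [b] x + r.T [b] x) +
            ((x : V) + x)) := by abel
        _ = _ := by simp [r.two]
    rw [hl]
    cases h : adj a b
    · have he := List.all_eq_true.1 (List.all_eq_true.1 nonedge_facts a (List.mem_range.2 ha)) b
        (List.mem_range.2 hb)
      rw [h, Bool.false_or] at he
      rw [r.T_swap he, r.two]; rfl
    · have hmem := adj_edge a ha b hb h
      obtain ⟨e, he, hp⟩ := hmem
      suffices ∀ c d, eqW (cjW (edgeW.getD e []) w1) [c, d] = true → c < 7 → d < 7 →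
          r.T [c] (r.T [d] x) + r.T [d] (r.T [c] x) = x by
        have hf := List.all_eq_true.1 edge_facts e (List.mem_range.2 he)
        rcases hp with hp | hp <;> simp only [hp] at hf
        · exact this a b hf ha hb
        · exact (add_comm _ _).trans (this b a hf hb ha)
      intro c d hcd hc hd
      let g := edgeW.getD e []
      let y := r.T [c] (r.T [d] x)
      have happ : ∀ v, r.T [c, d] v = r.T [c] (r.T [d] v) := fun v => r.T_app [c] [d] v
      have hy : r.T [c] (r.T [d] x) + r.T [d] (r.T [c] x) + x ∈ r.fx [c, d] := by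
        refine r.mem_fx.2 ?_
        rw [happ, map_add, map_add, map_add, map_add, hsq d hd, hsq c hc]
        have h3 : r.T [c] (r.T [d] (r.T [c] (r.T [d] x))) = r.T [d] (r.T [c] x) := by
          have h := r.T_three w1_facts.1
          obtain ⟨u, hu⟩ : ∃ u, r.T g u = x := ⟨_, r.T_rev_right g x⟩
          have h4 : r.T [c, d] (r.T [c, d] (r.T [c, d] (x : V))) = x := by
            rw [← hu, r.T_cj hcd, r.T_cj hcd, r.T_cj hcd, h]
          rw [happ, happ, happ] at h4
          have h5 := congrArg (fun v => r.T [d] (r.T [c] v)) h4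
          simp only [hsq c hc, hsq d hd] at h5
          exact h5
        rw [h3]
        abel
      obtain ⟨u, hu, e'⟩ := r.exists_fx hcd hy
      have huW : u ∈ W := by
        rw [← r.T_rev_left g u, e']
        exact r.T_mem hT _ _ (W.add_mem (W.add_mem (hT c _ (hT d _ x.2)) (hT d _ (hT c _ x.2))) x.2)
      rw [h0 u huW (r.mem_fx.1 hu), map_zero] at e'
      exact r.eq_of_add e'.symm
  obtain ⟨u, huW, hu⟩ := hne
  obtain ⟨L, hinj, hact⟩ := spin_basis n two sq anti (u := ⟨u, huW⟩) fun e => hu (congrArg Subtype.val e)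
  haveI := Fintype.ofFinite V
  let f : Fin 256 → V := fun m => (lin L m.val : W)
  have hf : Function.Bijective f := (Fintype.bijective_iff_injective_and_card f).2 ⟨fun a b e => by
    have e' : lin L a.val + lin L b.val = 0 := by rw [Subtype.ext e, two]
    rw [← lin_xor two] at e'
    exact Fin.ext (Nat.xor_eq_zero_iff.1 (hinj _ (xor_lt a.2 b.2) e')), by
    rw [Fintype.card_fin, ← Nat.card_eq_fintype_card, hV]⟩
  have hmap : ∀ m, (lin L m : W).val = lin (L.map W.subtype) m := fun m => map_lin W.subtype L m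
  refine ⟨L.map W.subtype, fun m hm e => hinj m hm (Subtype.ext ((hmap m).trans e)), fun x => ?_, fun k hk m hm => ?_⟩
  · obtain ⟨m, rfl⟩ := hf.2 x
    exact ⟨m.val, m.2, (hmap _).symm⟩
  · have h := congrArg Subtype.val (hact (fun x => ?_) k hk m hm)
    · rw [AddSubgroup.coe_add, hn, hmap, hmap, add_comm (r.T [k] _), ← add_assoc, r.two, zero_add] at h
      exact h
    · obtain ⟨m, e⟩ := hf.2 x
      exact ⟨m.val, m.2, Subtype.ext e⟩

end Rep

end Cfsg.Agent.Co2Recog
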