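import Mathlib.Data.List.Basic

/-!
Tables for the eight-dimensional spin module of the symplectic group in six dimensions over the field of two
elements: vectors are bit masks, matrices are lists of images of basis vectors. The seven generators are the
transvections of a simple system of type E7.
-/

set_option autoImplicit false

namespace Cfsg.Agent.Co2Recog

/-- The centres of the seven transvections, as six-bit vectors. -/
def tvec : List ℕ :=
    [1, 8, 3, 16, 6, 32, 48]

/-- The seven transvections on the spin module. -/
def sX : List (List ℕ) :=
    [[3, 2, 12, 8, 48, 32, 192, 128], [1, 3, 4, 12, 16, 48, 64, 192], [7, 10, 12, 8, 112, 160, 192, 128],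
    [1, 2, 5, 10, 16, 32, 80, 160], [21, 42, 68, 136, 80, 160, 64, 128], [1, 2, 4, 8, 17, 34, 68, 136], [1,
    2, 5, 10, 17, 34, 84, 168]]

/-- The quadratic form on the spin module, one bit for each vector. -/
def qS : ℕ :=
    47758915483058652629300889924143904114798786457834842901517979108472281628672

end Cfsg.Agent.Co2Recog
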