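import Cfsg.Agent.Lib.Co2Recog.ModuleKillData

/-!
The reflection model contradicts the existence of a conjugate of the involution in its centraliser.
-/

set_option autoImplicit false
set_option maxRecDepth 100000

namespace Cfsg.Agent.Co2Recog

open Equiv
open Cfsg.Agent.ThRec.Eight (allV allV_spec xor_lt odd odd_xor)
open scoped Classical

/-- Coordinates of reflection type. -/
structure RC {G : Type*} [Group G] (t : G) (Q : Subgroup G) where
  /-- The action on the 63 vectors. -/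
  π : ↥(Subgroup.centralizer ({t} : Set G)) →* Perm (Fin 63)
  range : π.range = Sp63
  ker : ∀ x : ↥(Subgroup.centralizer ({t} : Set G)), π x = 1 ↔ (x : G) ∈ Q
  /-- The coordinates. -/
  c : G → ℕ
  /-- The value of the form on the last basis vector. -/
  qm : Bool
  c_lt : ∀ q ∈ Q, c q < 256
  c_mul : ∀ q ∈ Q, ∀ r ∈ Q, c (q * r) = c q ^^^ c r
  c_ker : ∀ q ∈ Q, c q = 0 ↔ q = 1 ∨ q = t
  c_surj : ∀ v < 256, ∃ q ∈ Q, c q = v
  sq : ∀ q ∈ Q, q * q = tw t (qR qm (c q))
  comm : ∀ q ∈ Q, ∀ r ∈ Q, q * r = r * q ↔ polR (c q) (c r) = false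
  act : ∀ (x : ↥(Subgroup.centralizer ({t} : Set G))) (w : List ℕ), permW w = π x →
    ∀ q ∈ Q, c ((x : G) * q * (x : G)⁻¹) = rAct true w (c q)
  faith : ∀ x : ↥(Subgroup.centralizer ({t} : Set G)),
    (∀ q ∈ Q, c ((x : G) * q * (x : G)⁻¹) = c q) → (x : G) ∈ Q

theorem parL_xor : ∀ (l : List Bool) (u v : ℕ), parL l (u ^^^ v) = (parL l u ^^ parL l v)
  | [], _, _ => rfl
  | b :: l, u, v => by
    rw [parL_cons, parL_cons, parL_cons, show (u ^^^ v) / 2 = u / 2 ^^^ v / 2 from Nat.xor_div_two,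
      parL_xor l, odd_xor]
    cases odd u <;> cases odd v <;> cases b <;> simp

theorem polR_xor (u v w : ℕ) : polR (u ^^^ v) w = (polR u w ^^ polR v w) := parL_xor _ _ _

/-- `x` is an axis of `a`: its square is `a` and the centraliser of `a` moves it at most by `a`. -/
def Ax {G : Type*} [Group G] (a x : G) : Prop :=
  x * x = a ∧ ∀ z, z * a = a * z → z * x * z⁻¹ = x ∨ z * x * z⁻¹ = x * a

theorem Ax.conj {G : Type*} [Group G] {a x : G} (h : Ax a x) (g : G) : Ax (g * a * g⁻¹) (g * x * g⁻¹) := by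
  refine ⟨by rw [← h.1]; group, fun z hz => ?_⟩
  have hz' : g⁻¹ * z * g * a = a * (g⁻¹ * z * g) :=
    calc g⁻¹ * z * g * a = g⁻¹ * (z * (g * a * g⁻¹)) * g := by group
      _ = g⁻¹ * (g * a * g⁻¹ * z) * g := by rw [hz]
      _ = a * (g⁻¹ * z * g) := by group
  rcases h.2 _ hz' with e | e
  · refine Or.inl ?_
    calc z * (g * x * g⁻¹) * z⁻¹ = g * (g⁻¹ * z * g * x * (g⁻¹ * z * g)⁻¹) * g⁻¹ := by group
      _ = _ := by rw [e]
  · refine Or.inr ?_
    calc z * (g * x * g⁻¹) * z⁻¹ = g * (g⁻¹ * z * g * x * (g⁻¹ * z * g)⁻¹) * g⁻¹ := by group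
      _ = _ := by rw [e]; group

/-- Two involutions with an axis of one centralising the other. -/
theorem Ax.pair {G : Type*} [Group G] {a b xa xb : G} (ha : Ax a xa) (hb : Ax b xb) (hab : a ≠ b)
    (ha2 : a * a = 1) (hb2 : b * b = 1) (h : b * xa = xa * b) : a * xb = xb * a ∧ xa * xb = xb * xa := by
  have hbxb : b * xb = xb * b := by rw [← hb.1, mul_assoc]
  have haxa : a * xa = xa * a := by rw [← ha.1, mul_assoc]
  have h1 := hb.2 xa h.symm
  have hax : a * xb = xb * a := by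
    rcases h1 with e | e
    · have e' : xa * xb = xb * xa := by rw [← mul_inv_eq_iff_eq_mul]; exact e
      rw [← ha.1, mul_assoc, e', ← mul_assoc, e', mul_assoc]
    · have e' : xa * xb = xb * b * xa := by rw [← mul_inv_eq_iff_eq_mul]; exact e
      rw [← ha.1]
      calc xa * xa * xb = xa * (xb * b * xa) := by rw [mul_assoc, e']
        _ = xa * xb * (b * xa) := by group
        _ = xb * b * xa * (b * xa) := by rw [e']
        _ = xb * b * (xa * b) * xa := by group
        _ = xb * b * (b * xa) * xa := by rw [h]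
        _ = xb * (b * b) * (xa * xa) := by simp only [mul_assoc]
        _ = xb * (xa * xa) := by rw [hb2, mul_one]
  refine ⟨hax, ?_⟩
  rcases ha.2 xb hax.symm with f | f
  · exact (mul_inv_eq_iff_eq_mul.1 f).symm
  · rcases h1 with e | e
    · exact mul_inv_eq_iff_eq_mul.1 e
    · exfalso
      have e' : xa * xb = xb * b * xa := mul_inv_eq_iff_eq_mul.1 e
      have f' : xb * xa = xa * a * xb := mul_inv_eq_iff_eq_mul.1 f
      refine hab ?_
      have hba : xa * xb = xa * xb * (a * b) := by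
        calc xa * xb = xb * (b * xa) := by rw [e', mul_assoc]
          _ = xb * xa * b := by rw [h, mul_assoc]
          _ = xa * (a * xb) * b := by rw [f', mul_assoc xa a]
          _ = _ := by rw [hax]; simp only [mul_assoc]
      have hab1 : a * b = 1 := mul_left_cancel (a := xa * xb) (by rw [mul_one]; exact hba.symm)
      calc a = a * (b * b) := by rw [hb2, mul_one]
        _ = b := by rw [← mul_assoc, hab1, one_mul]

namespace RC

variable {G : Type*} [Group G] {t : G} {Q : Subgroup G}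

/-- A member of `Q` with given code. -/
noncomputable def e (K : RC t Q) (v : ℕ) : G := if h : v < 256 then (K.c_surj v h).choose else 1

theorem e_spec (K : RC t Q) {v : ℕ} (hv : v < 256) : K.e v ∈ Q ∧ K.c (K.e v) = v := by
  rw [e, dif_pos hv]; exact (K.c_surj v hv).choose_spec

/-- The action of a centralising element on codes. -/
noncomputable def al (K : RC t Q) (x : G) (v : ℕ) : ℕ := K.c (x * K.e v * x⁻¹)

variable (K : RC t Q) (S : Setup t Q)
include S

theorem t2 : t * t = 1 := by rw [← pow_two, ← S.ht, pow_orderOf_eq_one]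

theorem t_ne : t ≠ 1 := fun h => by
  have := S.ht
  rw [h, orderOf_one] at this
  omega

omit S in
theorem mem_C {x : G} : x ∈ Subgroup.centralizer ({t} : Set G) ↔ x * t = t * x :=
  Subgroup.mem_centralizer_singleton_iff.trans Iff.rfl

theorem t_comm {q : G} (hq : q ∈ Q) : q * t = t * q := mem_C.1 (S.le hq)

theorem t_mem : t ∈ Q := S.self t (mem_C.2 rfl) fun _ hq => (t_comm S hq).symm

theorem c_one : K.c 1 = 0 := (K.c_ker 1 (one_mem Q)).2 (Or.inl rfl)

theorem c_t : K.c t = 0 := (K.c_ker t (t_mem S)).2 (Or.inr rfl)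

theorem same {q r : G} (hq : q ∈ Q) (hr : r ∈ Q) (h : K.c q = K.c r) : r = q ∨ r = q * t := by
  have h1 : K.c q⁻¹ = K.c q := by
    have := K.c_mul q hq q⁻¹ (inv_mem hq)
    rw [mul_inv_cancel, K.c_one S] at this
    exact (Nat.xor_eq_zero_iff.1 this.symm).symm
  have h2 : K.c (q⁻¹ * r) = 0 := by rw [K.c_mul _ (inv_mem hq) _ hr, h1, h, Nat.xor_self]
  rcases (K.c_ker _ (mul_mem (inv_mem hq) hr)).1 h2 with e | e
  · exact Or.inl (inv_mul_eq_one.1 e).symm
  · exact Or.inr (inv_mul_eq_iff_eq_mul.1 e)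

theorem conj_c {x q r : G} (hx : x * t = t * x) (hq : q ∈ Q) (hr : r ∈ Q) (h : K.c q = K.c r) :
    K.c (x * q * x⁻¹) = K.c (x * r * x⁻¹) := by
  have hm : x * q * x⁻¹ ∈ Q := S.norm x (mem_C.2 hx) q hq
  rcases K.same S hq hr h with rfl | rfl
  · rfl
  · rw [show x * (q * t) * x⁻¹ = x * q * x⁻¹ * (x * t * x⁻¹) by group,
      show x * t * x⁻¹ = t by rw [hx, mul_inv_cancel_right], K.c_mul _ hm _ (t_mem S), K.c_t S, Nat.xor_zero]

theorem al_eq {x q : G} (hx : x * t = t * x) (hq : q ∈ Q) : K.c (x * q * x⁻¹) = K.al x (K.c q) :=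
  K.conj_c S hx hq (K.e_spec (K.c_lt q hq)).1 (K.e_spec (K.c_lt q hq)).2.symm

theorem al_lt {x : G} (hx : x * t = t * x) {v : ℕ} (hv : v < 256) : K.al x v < 256 :=
  K.c_lt _ (S.norm x (mem_C.2 hx) _ (K.e_spec hv).1)

theorem al_mul {x y : G} (hx : x * t = t * x) (hy : y * t = t * y) {v : ℕ} (hv : v < 256) :
    K.al (x * y) v = K.al x (K.al y v) := by
  show K.c (x * y * K.e v * (x * y)⁻¹) = _
  rw [show x * y * K.e v * (x * y)⁻¹ = x * (y * K.e v * y⁻¹) * x⁻¹ by group,
    K.al_eq S hx (S.norm y (mem_C.2 hy) _ (K.e_spec hv).1)]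
  rfl

theorem al_xor {x : G} (hx : x * t = t * x) {u v : ℕ} (hu : u < 256) (hv : v < 256) :
    K.al x (u ^^^ v) = K.al x u ^^^ K.al x v := by
  have h1 := K.e_spec hu
  have h2 := K.e_spec hv
  have h := K.al_eq S hx (mul_mem h1.1 h2.1)
  rw [K.c_mul _ h1.1 _ h2.1, h1.2, h2.2] at h
  rw [← h, show x * (K.e u * K.e v) * x⁻¹ = x * K.e u * x⁻¹ * (x * K.e v * x⁻¹) by group,
    K.c_mul _ (S.norm x (mem_C.2 hx) _ h1.1) _ (S.norm x (mem_C.2 hx) _ h2.1)]
  rfl

theorem al_word {x : ↥(Subgroup.centralizer ({t} : Set G))} {w : List ℕ} (h : permW w = K.π x) {v : ℕ}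
    (hv : v < 256) : K.al (x : G) v = rAct true w v := by
  have := K.act x w h _ (K.e_spec hv).1
  rwa [(K.e_spec hv).2] at this

theorem al_one {v : ℕ} (hv : v < 256) : K.al 1 v = v := by
  show K.c (1 * K.e v * 1⁻¹) = v
  rw [one_mul, inv_one, mul_one, (K.e_spec hv).2]

theorem al_inv {x : G} (hx : x * t = t * x) {v : ℕ} (hv : v < 256) : K.al x (K.al x⁻¹ v) = v := by
  rw [← K.al_mul S hx (mem_C.1 (inv_mem (mem_C.2 hx))) hv, mul_inv_cancel, K.al_one S hv]

theorem al_pol {x : G} (hx : x * t = t * x) {u v : ℕ} (hu : u < 256) (hv : v < 256) :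
    polR (K.al x u) (K.al x v) = polR u v := by
  have h1 := K.e_spec hu
  have h2 := K.e_spec hv
  rw [Bool.eq_iff_iff, ← not_iff_not, Bool.not_eq_true, Bool.not_eq_true]
  refine Iff.trans (K.comm _ (S.norm x (mem_C.2 hx) _ h1.1) _ (S.norm x (mem_C.2 hx) _ h2.1)).symm ?_
  conv_rhs => rw [← h1.2, ← h2.2, ← K.comm _ h1.1 _ h2.1]
  rw [show x * K.e u * x⁻¹ * (x * K.e v * x⁻¹) = MulAut.conj x (K.e u * K.e v) by simp [mul_assoc],
    show x * K.e v * x⁻¹ * (x * K.e u * x⁻¹) = MulAut.conj x (K.e v * K.e u) by simp [mul_assoc]]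
  exact (MulAut.conj x).injective.eq_iff

theorem tw_inj {a b : Bool} (h : tw t a = tw t b) : a = b := by
  have := t_ne S
  cases a <;> cases b <;> simp [tw, this, this.symm] at h ⊢

theorem al_q {x : G} (hx : x * t = t * x) {v : ℕ} (hv : v < 256) : qR K.qm (K.al x v) = qR K.qm v := by
  have h1 := K.e_spec hv
  refine tw_inj S ?_
  show tw t (qR K.qm (K.c (x * K.e v * x⁻¹))) = _
  rw [← K.sq _ (S.norm x (mem_C.2 hx) _ h1.1),
    show x * K.e v * x⁻¹ * (x * K.e v * x⁻¹) = x * (K.e v * K.e v) * x⁻¹ by group, K.sq _ h1.1, h1.2]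
  cases qR K.qm v
  · simp [tw]
  · show x * t * x⁻¹ = t
    rw [hx, mul_inv_cancel_right]

theorem exists_word_of (x : ↥(Subgroup.centralizer ({t} : Set G))) : ∃ w, permW w = K.π x ∧ ∀ k ∈ w, k < 7 := by
  obtain ⟨w, hw⟩ := exists_word (show K.π x ∈ Sp63 from K.range ▸ ⟨x, rfl⟩)
  refine ⟨w.map (· % 7), ?_, fun k hk => ?_⟩
  · rw [← hw]
    clear hw
    induction w with
    | nil => rfl
    | cons k w ih => rw [List.map_cons, permW, permW, ih, tv_mod]
  · obtain ⟨j, -, rfl⟩ := List.mem_map.1 hk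
    exact Nat.mod_lt _ (by omega)

theorem al_fix {x : G} (hx : x * t = t * x) : K.al x 64 = 64 := by
  obtain ⟨w, hw, hw7⟩ := K.exists_word_of S ⟨x, mem_C.2 hx⟩
  rw [K.al_word S (x := ⟨x, mem_C.2 hx⟩) hw (by omega)]
  clear hw
  induction w with
  | nil => rfl
  | cons k w ih =>
    rw [rAct, ih fun j hj => hw7 j (List.mem_cons_of_mem _ hj)]
    exact beq_iff_eq.1 (List.all_eq_true.1 fix_radical k (List.mem_range.2 (hw7 k List.mem_cons_self)))

include K in
theorem polR_symm {u v : ℕ} (hu : u < 256) (hv : v < 256) : polR u v = polR v u := by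
  have h1 := K.e_spec hu
  have h2 := K.e_spec hv
  have e1 := K.comm _ h1.1 _ h2.1
  have e2 := K.comm _ h2.1 _ h1.1
  rw [h1.2, h2.2] at e1 e2
  rw [Bool.eq_iff_iff, ← not_iff_not, Bool.not_eq_true, Bool.not_eq_true, ← e1, ← e2, eq_comm]

include K in
theorem pol_xor_right {u v w : ℕ} (hu : u < 256) (hv : v < 256) (hw : w < 256) :
    polR u (v ^^^ w) = (polR u v ^^ polR u w) := by
  rw [K.polR_symm S hu (xor_lt hv hw), polR_xor, K.polR_symm S hv hu, K.polR_symm S hw hu]

theorem comm_tw {q r : G} (hq : q ∈ Q) (hr : r ∈ Q) : r * q = q * r * tw t (polR (K.c q) (K.c r)) := by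
  have hc : K.c (q * r) = K.c (r * q) := by rw [K.c_mul q hq r hr, K.c_mul r hr q hq, Nat.xor_comm]
  rcases K.same S (mul_mem hq hr) (mul_mem hr hq) hc with e | e
  · rw [(K.comm q hq r hr).1 e.symm, e]; simp [tw]
  · have : polR (K.c q) (K.c r) = true := by
      rw [← Bool.not_eq_false, ← K.comm q hq r hr]
      exact fun h => t_ne S (mul_left_cancel (a := q * r) (by rw [← e, mul_one, h]))
    rw [this, e]; rfl

theorem q_xor {u v : ℕ} (hu : u < 256) (hv : v < 256) :
    qR K.qm (u ^^^ v) = ((qR K.qm u ^^ qR K.qm v) ^^ polR u v) := by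
  have h1 := K.e_spec hu
  have h2 := K.e_spec hv
  refine tw_inj S ?_
  have h3 := K.sq _ (mul_mem h1.1 h2.1)
  rw [K.c_mul _ h1.1 _ h2.1, h1.2, h2.2] at h3
  rw [← h3]
  have hm : ∀ (b : Bool) (z : G), z * t = t * z → z * tw t b = tw t b * z := fun b z hz => by
    cases b
    · simp [tw]
    · exact hz
  calc K.e u * K.e v * (K.e u * K.e v) = K.e u * (K.e v * K.e u) * K.e v := by simp only [mul_assoc]
    _ = K.e u * K.e u * (K.e v * (tw t (polR u v) * K.e v)) := by
      rw [K.comm_tw S h1.1 h2.1, h1.2, h2.2]; simp only [mul_assoc]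
    _ = tw t (qR K.qm u) * (K.e v * K.e v * tw t (polR u v)) := by
      rw [K.sq _ h1.1, h1.2, ← hm _ _ (t_comm S h2.1)]; simp only [mul_assoc]
    _ = _ := by
      rw [K.sq _ h2.1, h2.2]
      cases qR K.qm u <;> cases qR K.qm v <;> cases polR u v <;> simp [tw, t2 S]

theorem exists_C (w : List ℕ) : ∃ x, x * t = t * x ∧ ∀ v < 256, K.al x v = rAct true w v := by
  obtain ⟨x, hx⟩ : permW w ∈ K.π.range := K.range ▸ permW_mem w
  exact ⟨x, mem_C.1 x.2, fun v hv => K.al_word S hx.symm hv⟩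

theorem eq_id {x : G} (hx : x * t = t * x) (h : ∀ v < 256, K.al x v = v) : x ∈ Q :=
  K.faith ⟨x, mem_C.2 hx⟩ fun q hq => by rw [K.al_eq S hx hq, h _ (K.c_lt q hq)]

/-- No element acts as the transvection of the radical. -/
theorem no_tau {x : G} (hx : x * t = t * x) (h : ∀ v < 256, K.al x v = v ^^^ cond (polR 64 v) 64 0) : False := by
  have hQ : x ∈ Q := by
    have hπ : K.π ⟨x, mem_C.2 hx⟩ = 1 := by
      refine eq_one_of_comm fun k => ?_
      obtain ⟨y, hy⟩ : tv k ∈ K.π.range := K.range ▸ tv_mem k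
      rw [← hy, ← map_mul, ← map_mul]
      have hxy : ∀ v < 256, K.al (x * y) v = K.al ((y : G) * x) v := fun v hv => by
        have hyt := mem_C.1 y.2
        rw [K.al_mul S hx hyt hv, K.al_mul S hyt hx hv, h _ (K.al_lt S hyt hv), h v hv]
        have hp : polR 64 (K.al y v) = polR 64 v := by
          conv_lhs => rw [← K.al_fix S hyt]
          exact K.al_pol S hyt (by omega) hv
        rw [hp]
        cases polR 64 v
        · simp
        · rw [cond_true, K.al_xor S hyt hv (by omega), K.al_fix S hyt]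
      have hm : ((y : G) * x)⁻¹ * (x * y) ∈ Q := by
        have h1 : (y : G) * x * t = t * (y * x) :=
          mem_C.1 (mul_mem y.2 (mem_C.2 hx : x ∈ Subgroup.centralizer ({t} : Set G)))
        have h2 : x * (y : G) * t = t * (x * y) :=
          mem_C.1 (mul_mem (mem_C.2 hx : x ∈ Subgroup.centralizer ({t} : Set G)) y.2)
        have h1' := mem_C.1 (inv_mem (mem_C.2 h1))
        refine K.eq_id S (mem_C.1 (mul_mem (inv_mem (mem_C.2 h1)) (mem_C.2 h2))) fun v hv => ?_
        rw [K.al_mul S h1' h2 hv, hxy v hv, ← K.al_mul S h1' h1 hv, inv_mul_cancel, K.al_one S hv]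
      have := (K.ker ((y * ⟨x, mem_C.2 hx⟩)⁻¹ * (⟨x, mem_C.2 hx⟩ * y))).2 hm
      rw [map_mul, map_inv, inv_mul_eq_one] at this
      exact this.symm
    exact (K.ker _).1 hπ
  have h1 := h 128 (by omega)
  rw [show K.al x 128 = K.c (x * K.e 128 * x⁻¹) from rfl] at h1
  have hm := K.c_mul _ (mul_mem hQ (K.e_spec (v := 128) (by omega)).1) _ (inv_mem hQ)
  have hi := K.c_mul _ hQ _ (inv_mem hQ)
  rw [mul_inv_cancel, K.c_one S] at hi
  rw [hm, K.c_mul _ hQ _ (K.e_spec (v := 128) (by omega)).1, (K.e_spec (v := 128) (by omega)).2,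
    ← Nat.xor_eq_zero_iff.1 hi.symm, show polR 64 128 = true by decide +kernel, Nat.xor_comm (K.c x) 128,
    Nat.xor_assoc, Nat.xor_self, Nat.xor_zero] at h1
  exact absurd h1 (by decide)

/-- The transvection of a vector of norm one orthogonal to the radical. -/
theorem exists_root {d : ℕ} (hd : d < 256) (h64 : polR 64 d = false) (hq : qR K.qm d = true) (hne : d ≠ 64) :
    ∃ x, x * t = t * x ∧ ∀ v < 256, K.al x v = (v ^^^ cond (polR d v) d 0) ^^^ cond (polR 64 v) 64 0 := by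
  have h := allV_spec (root_cover K.qm) hd
  rw [h64, hq] at h
  simp only [Bool.false_or, Bool.not_true, Bool.or_eq_true, beq_iff_eq, hne, false_or, List.any_eq_true] at h
  obtain ⟨⟨d', w⟩, hmem, rfl⟩ := h
  have hw := List.all_eq_true.1 rootW_ok _ hmem
  simp only [Bool.and_eq_true, beq_iff_eq] at hw
  obtain ⟨g, hg, hgal⟩ := K.exists_C S w
  obtain ⟨s, hs, hsal⟩ := K.exists_C S [0]
  have hgi := mem_C.1 (inv_mem (mem_C.2 hg))
  have hgs := mem_C.1 (mul_mem (mem_C.2 hg) (mem_C.2 hs))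
  refine ⟨g * s * g⁻¹, mem_C.1 (mul_mem (mem_C.2 hgs) (inv_mem (mem_C.2 hg))), fun v hv => ?_⟩
  obtain ⟨u, hu, rfl⟩ : ∃ u < 256, K.al g u = v := ⟨_, K.al_lt S hgi hv, K.al_inv S hg hv⟩
  rw [K.al_mul S hgs hgi hv, ← K.al_mul S hgi hg hu, inv_mul_cancel, K.al_one S hu, K.al_mul S hg hs hu,
    hsal u hu]
  show K.al g ((u ^^^ cond (polR 1 u) 1 0) ^^^ cond (true && polR 64 u) 64 0) = _
  have h1 : polR d' (K.al g u) = polR 1 u := by
    rw [← hw.1.2, ← hgal 1 (by omega), K.al_pol S hg (by omega) hu]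
  have h2 : polR 64 (K.al g u) = polR 64 u := by
    conv_lhs => rw [← K.al_fix S hg]
    exact K.al_pol S hg (by omega) hu
  have hz : K.al g 0 = 0 := by
    have := K.al_xor S hg (u := 0) (v := 0) (by omega) (by omega)
    rw [Nat.xor_self] at this
    exact this.trans (Nat.xor_self _)
  rw [h1, h2, Bool.true_and]
  have hb : ∀ (b : Bool) (z : ℕ), z < 256 → cond b z 0 < 256 := fun b z hz => by cases b <;> simp [hz]
  rw [K.al_xor S hg (xor_lt hu (hb _ 1 (by omega))) (hb _ 64 (by omega)), K.al_xor S hg hu (hb _ 1 (by omega))]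
  cases polR 1 u <;> cases polR 64 u <;> simp [hz, hgal 1, hw.1.2, K.al_fix S hg]

/-- An involution outside `Q` centralising `t` moves some vector by a nonzero singular one. -/
theorem exists_singular {y : G} (hy : y * t = t * y) (hy2 : y * y = 1) (hyQ : y ∉ Q) :
    ∃ u < 256, qR K.qm (K.al y u ^^^ u) = false ∧ K.al y u ≠ u := by
  by_contra! hc
  have ha2 : ∀ v < 256, K.al y (K.al y v) = v := fun v hv => by
    rw [← K.al_mul S hy hy hv, hy2, K.al_one S hv]
  have hlt : ∀ v < 256, K.al y v ^^^ v < 256 := fun v hv => xor_lt (K.al_lt S hy hv) hv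
  obtain ⟨u, hu, hne⟩ : ∃ u < 256, K.al y u ≠ u := by
    by_contra! h; exact hyQ (K.eq_id S hy h)
  set d := K.al y u ^^^ u with hd
  have hq1 : ∀ v < 256, K.al y v ≠ v → qR K.qm (K.al y v ^^^ v) = true := fun v hv hv' => by
    by_contra h; exact hv' (hc v hv (Bool.eq_false_of_not_eq_true h))
  have hsum : ∀ v < 256, ∀ w < 256, K.al y (v ^^^ w) ^^^ (v ^^^ w) = (K.al y v ^^^ v) ^^^ (K.al y w ^^^ w) :=
    fun v hv w hw => by
      rw [K.al_xor S hy hv hw]
      simp [Nat.xor_assoc, Nat.xor_left_comm, Nat.xor_comm]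
  have horth : ∀ v < 256, ∀ w < 256, polR (K.al y v ^^^ v) (K.al y w ^^^ w) = false := fun v hv w hw => by
    have h1 := K.al_pol S hy (K.al_lt S hy hv) hw
    rw [ha2 v hv] at h1
    rw [polR_xor, K.pol_xor_right S (K.al_lt S hy hv) (K.al_lt S hy hw) hw,
      K.pol_xor_right S hv (K.al_lt S hy hw) hw, K.al_pol S hy hv hw, h1]
    cases polR v w <;> cases polR (K.al y v) w <;> rfl
  have hrank : ∀ v < 256, K.al y v ^^^ v = 0 ∨ K.al y v ^^^ v = d := by
    intro v hv
    by_contra! h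
    have h1 : K.al y v ≠ v := fun e => h.1 (by rw [e, Nat.xor_self])
    have h2 : K.al y (v ^^^ u) ≠ v ^^^ u := fun e => h.2 (by
      have := hsum v hv u hu
      rw [e, Nat.xor_self] at this
      exact Nat.xor_eq_zero_iff.1 this.symm)
    have h3 := hq1 _ (xor_lt hv hu) h2
    rw [hsum v hv u hu, K.q_xor S (hlt v hv) (hlt u hu), hq1 v hv h1, hq1 u hu hne, horth v hv u hu] at h3
    exact Bool.false_ne_true h3
  have hform : ∀ v < 256, K.al y v = v ^^^ cond (polR d v) d 0 := by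
    intro v hv
    have hd' : d < 256 := hlt u hu
    rcases hrank v hv with e | e
    · have hfix : K.al y v = v := Nat.xor_eq_zero_iff.1 e
      have : polR d v = false := by
        have h1 := K.al_pol S hy hu hv
        rw [hfix] at h1
        rw [hd, polR_xor, h1, Bool.xor_self]
      rw [this, hfix]; simp
    · have hv' : K.al y v = v ^^^ d := by rw [← e, Nat.xor_comm (K.al y v), ← Nat.xor_assoc, Nat.xor_self, Nat.zero_xor]
      have h1 := K.al_q S hy hv
      rw [hv', K.q_xor S hv hd', hq1 u hu hne] at h1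
      have : polR d v = true := by
        rw [K.polR_symm S hd' hv]
        revert h1
        cases qR K.qm v <;> cases polR v d <;> simp
      rw [this, hv']; rfl
  have hd' : d < 256 := hlt u hu
  have h64 : polR 64 d = false := by
    have h1 := hform 64 (by omega)
    rw [K.al_fix S hy] at h1
    rw [K.polR_symm S (by omega) hd']
    by_contra h
    rw [Bool.not_eq_false] at h
    rw [h] at h1
    have : d = 0 := by
      have := congrArg (fun z => 64 ^^^ z) h1
      simp only [cond_true, ← Nat.xor_assoc, Nat.xor_self, Nat.zero_xor] at this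
      exact this.symm
    exact hne (Nat.xor_eq_zero_iff.1 this)
  by_cases h : d = 64
  · exact K.no_tau S hy fun v hv => by rw [hform v hv, h]
  · obtain ⟨s, hs, hsal⟩ := K.exists_root S hd' h64 (hq1 u hu hne) h
    refine K.no_tau S (mem_C.1 (mul_mem (mem_C.2 hy) (mem_C.2 hs))) fun v hv => ?_
    have hlt1 : (v ^^^ cond (polR d v) d 0) ^^^ cond (polR 64 v) 64 0 < 256 :=
      xor_lt (xor_lt hv (by cases polR d v <;> simp [hd'])) (by cases polR 64 v <;> simp)
    rw [K.al_mul S hy hs hv, hsal v hv, hform _ hlt1]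
    have : polR d ((v ^^^ cond (polR d v) d 0) ^^^ cond (polR 64 v) 64 0) = polR d v := by
      have hdd : polR d d = false := horth u hu u hu
      have hd64 : polR d 64 = false := by rw [K.polR_symm S hd' (by omega), h64]
      have hz : polR d 0 = false := by
        have := K.pol_xor_right S hd' (v := 0) (w := 0) (by omega) (by omega)
        rw [Nat.xor_self, Bool.xor_self] at this
        exact this
      rw [K.pol_xor_right S hd' (xor_lt hv (by cases polR d v <;> simp [hd'])) (by cases polR 64 v <;> simp),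
        K.pol_xor_right S hd' hv (by cases polR d v <;> simp [hd'])]
      cases polR d v <;> cases polR 64 v <;> simp [hdd, hd64, hz]
    rw [this]
    cases polR d v <;> cases polR 64 v <;> simp [Nat.xor_assoc, Nat.xor_left_comm, Nat.xor_comm]

omit S in
/-- The radical has norm one. -/
theorem q64 : ∀ qm, qR qm 64 = true := by decide +kernel

theorem c_inv {q : G} (hq : q ∈ Q) : K.c q⁻¹ = K.c q := by
  have := K.c_mul q hq q⁻¹ (inv_mem hq)
  rw [mul_inv_cancel, K.c_one S] at this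
  exact (Nat.xor_eq_zero_iff.1 this.symm).symm

theorem al_Q {q : G} (hq : q ∈ Q) {v : ℕ} (hv : v < 256) : K.al q v = v := by
  have h := K.e_spec hv
  show K.c (q * K.e v * q⁻¹) = v
  rw [K.c_mul _ (mul_mem hq h.1) _ (inv_mem hq), K.c_mul _ hq _ h.1, K.c_inv S hq, h.2, Nat.xor_comm (K.c q) v,
    Nat.xor_assoc, Nat.xor_self, Nat.xor_zero]

/-- The axis of `t`. -/
noncomputable def x0 (K : RC t Q) : G := K.e 64

theorem x0_facts : K.x0 ∈ Q ∧ K.c K.x0 = 64 ∧ Ax t K.x0 := by
  have h := K.e_spec (v := 64) (by omega)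
  refine ⟨h.1, h.2, ?_, fun z hz => ?_⟩
  · rw [x0, K.sq _ h.1, h.2, q64]; rfl
  · refine K.same S h.1 (S.norm z (mem_C.2 hz) _ h.1) ?_
    show K.c (K.e 64) = K.c (z * K.e 64 * z⁻¹)
    rw [K.al_eq S hz h.1, h.2, K.al_fix S hz]

/-- A conjugate of `t` in its centraliser which centralises the axis. -/
def Col (K : RC t Q) (g : G) : Prop :=
  g * t * g⁻¹ * t = t * (g * t * g⁻¹) ∧ g * t * g⁻¹ ≠ t ∧ g * t * g⁻¹ * K.x0 = K.x0 * (g * t * g⁻¹)

theorem conj_sq (g : G) : g * t * g⁻¹ * (g * t * g⁻¹) = 1 := by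
  rw [show g * t * g⁻¹ * (g * t * g⁻¹) = g * (t * t) * g⁻¹ by group, t2 S, mul_one, mul_inv_cancel]

theorem col_pair {g : G} (h : K.Col g) : g * K.x0 * g⁻¹ * t = t * (g * K.x0 * g⁻¹) ∧
    K.x0 * (g * K.x0 * g⁻¹) = g * K.x0 * g⁻¹ * K.x0 := by
  have ha := (K.x0_facts S).2.2
  have := Ax.pair ha (ha.conj g) h.2.1.symm (t2 S) (conj_sq S g) h.2.2
  exact ⟨this.1.symm, this.2⟩

theorem col_symm {g : G} (h : K.Col g) : K.Col g⁻¹ := by
  have hp := (K.col_pair S h).1
  refine ⟨?_, fun e => h.2.1 ?_, ?_⟩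
  · calc g⁻¹ * t * g⁻¹⁻¹ * t = g⁻¹ * (t * (g * t * g⁻¹)) * g := by group
      _ = g⁻¹ * (g * t * g⁻¹ * t) * g := by rw [h.1]
      _ = _ := by group
  · calc g * t * g⁻¹ = g * (g⁻¹ * t * g⁻¹⁻¹) * g⁻¹ := by rw [e]
      _ = t := by group
  · calc g⁻¹ * t * g⁻¹⁻¹ * K.x0 = g⁻¹ * (t * (g * K.x0 * g⁻¹)) * g := by group
      _ = g⁻¹ * (g * K.x0 * g⁻¹ * t) * g := by rw [hp]
      _ = _ := by group

theorem col_mem {g : G} (h : K.Col g) : g * t * g⁻¹ ∈ Q := by
  by_contra hyQ
  obtain ⟨hxt, hxx⟩ := K.col_pair S h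
  obtain ⟨hty, hne, hyx0⟩ := h
  set y := g * t * g⁻¹ with hy
  set x := g * K.x0 * g⁻¹ with hx
  have hy2 : y * y = 1 := conj_sq S g
  have hax : Ax y x := (K.x0_facts S).2.2.conj g
  obtain ⟨u, hu, hq, hmov⟩ := K.exists_singular S hty hy2 hyQ
  have hyi : y⁻¹ = y := inv_eq_of_mul_eq_one_right hy2
  have hq0 := K.e_spec hu
  set q0 := K.e u
  have hyq : y * q0 * y⁻¹ ∈ Q := S.norm y (mem_C.2 hty) _ hq0.1
  set w := y * q0 * y⁻¹ * q0⁻¹ with hw
  have hwQ : w ∈ Q := mul_mem hyq (inv_mem hq0.1)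
  have hwc : K.c w = K.al y u ^^^ u := by
    rw [hw, K.c_mul _ hyq _ (inv_mem hq0.1), K.c_inv S hq0.1, K.al_eq S hty hq0.1, hq0.2]
  have hw2 : w * w = 1 := by rw [K.sq w hwQ, hwc, hq]; rfl
  have hwy : w * y = y * w := by
    have e : y * w * y⁻¹ = w⁻¹ := by
      rw [hw, hyi]
      calc y * (y * q0 * y * q0⁻¹) * y = (y * y) * q0 * y * q0⁻¹ * y := by group
        _ = q0 * y⁻¹ * q0⁻¹ * y⁻¹ := by rw [hy2, one_mul, hyi]
        _ = _ := by group
    rw [inv_eq_of_mul_eq_one_right hw2] at e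
    exact (mul_inv_eq_iff_eq_mul.1 e).symm
  have hwx : w * x = x * w := by
    rcases hax.2 w hwy with e | e
    · exact mul_inv_eq_iff_eq_mul.1 e
    · refine absurd ?_ hyQ
      rw [show y = x⁻¹ * w * x⁻¹⁻¹ * w⁻¹ from
        calc y = x⁻¹ * (x * y) := by group
          _ = x⁻¹ * (w * x * w⁻¹) := by rw [e]
          _ = _ := by group]
      exact mul_mem (S.norm _ (inv_mem (mem_C.2 hxt)) _ hwQ) (inv_mem hwQ)
  have hyx : y * x = x * y := by rw [← hax.1, mul_assoc]
  have hy' : y * w = q0 * y * q0⁻¹ := by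
    rw [hw, hyi]
    calc y * (y * q0 * y * q0⁻¹) = (y * y) * q0 * y * q0⁻¹ := by group
      _ = _ := by rw [hy2, one_mul]
  have hne' : y ≠ q0 * y * q0⁻¹ := by
    rw [← hy']
    intro e
    have e' : w = 1 := mul_left_cancel (a := y) (by rw [mul_one]; exact e.symm)
    rw [e', K.c_one S] at hwc
    exact hmov (Nat.xor_eq_zero_iff.1 hwc.symm)
  have hyy : (q0 * y * q0⁻¹) * (q0 * y * q0⁻¹) = 1 := by
    rw [show (q0 * y * q0⁻¹) * (q0 * y * q0⁻¹) = q0 * (y * y) * q0⁻¹ by group, hy2, mul_one, mul_inv_cancel]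
  have hp := (Ax.pair hax (hax.conj q0) hne' hy2 hyy (by
    rw [← hy', mul_assoc, hwx, ← mul_assoc, hyx, mul_assoc])).2
  set d := q0 * x * q0⁻¹ * x⁻¹ with hd
  have hxq : x * q0⁻¹ * x⁻¹ ∈ Q := S.norm x (mem_C.2 hxt) _ (inv_mem hq0.1)
  have hdc : K.c d = u ^^^ K.al x u := by
    rw [show d = q0 * (x * q0⁻¹ * x⁻¹) by rw [hd]; group, K.c_mul _ hq0.1 _ hxq, K.al_eq S hxt (inv_mem hq0.1),
      K.c_inv S hq0.1, hq0.2]
  have hdQ : d ∈ Q := by
    rw [show d = q0 * (x * q0⁻¹ * x⁻¹) by rw [hd]; group]; exact mul_mem hq0.1 hxq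
  have hxd : x * d * x⁻¹ = d := by
    calc x * d * x⁻¹ = x * (q0 * x * q0⁻¹) * x⁻¹ * x⁻¹ := by rw [hd]; group
      _ = _ := by rw [hp, hd]; group
  have h1 := K.al_eq S hxt hdQ
  have hxu := K.al_lt S hxt hu
  rw [hxd, hdc, K.al_xor S hxt hu hxu, ← K.al_mul S hxt hxt hu, hax.1, Nat.xor_comm u (K.al x u)] at h1
  exact hmov (Nat.xor_right_inj.1 h1).symm

theorem no_col (g : G) : ¬ K.Col g := by
  intro h
  have h' := K.col_symm S h
  have hyQ := K.col_mem S h
  have hy'Q := K.col_mem S h'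
  obtain ⟨hty, hne, hyx0⟩ := h
  obtain ⟨-, hne', -⟩ := h'
  rw [inv_inv] at hy'Q hne'
  set y := g * t * g⁻¹ with hy
  have hy2 : y * y = 1 := conj_sq S g
  have hy1 : y ≠ 1 := fun e => t_ne S (by
    calc t = g⁻¹ * y * g := by rw [hy]; group
      _ = 1 := by rw [e]; group)
  set v := K.c y with hv
  have hvlt : v < 256 := K.c_lt y hyQ
  have hv0 : v ≠ 0 := fun e => ((K.c_ker y hyQ).1 e).elim hy1 hne
  have hqv : qR K.qm v = false := tw_inj S ((K.sq y hyQ).symm.trans hy2)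
  have hv64 : polR 64 v = false := by
    rw [← (K.x0_facts S).2.1, ← K.comm _ (K.x0_facts S).1 _ hyQ]; exact hyx0.symm
  -- the common part of the two subgroups
  have hJcl : ∀ j, j ∈ Q → g⁻¹ * j * g ∈ Q → qR K.qm (K.c j) = false ∧ polR v (K.c j) = false := by
    intro j hj hjy
    have hc := t_comm S hjy
    constructor
    · have hs := K.sq j hj
      rcases hb : qR K.qm (K.c j) with _ | _
      · rfl
      · exfalso
        rw [hb] at hs
        have hs' := K.sq _ hjy
        rw [show g⁻¹ * j * g * (g⁻¹ * j * g) = g⁻¹ * (j * j) * g by group, hs] at hs'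
        revert hs'
        cases qR K.qm (K.c (g⁻¹ * j * g))
        · exact fun e => t_ne S (by
            calc t = g * (g⁻¹ * tw t true * g) * g⁻¹ := by simp [tw]; group
              _ = 1 := by rw [e]; simp [tw])
        · exact hne'
    · rw [hv, ← K.comm y hyQ j hj]
      calc y * j = g * (t * (g⁻¹ * j * g)) * g⁻¹ := by rw [hy]; group
        _ = g * (g⁻¹ * j * g * t) * g⁻¹ := by rw [hc]
        _ = _ := by rw [hy]; group
  have hJ : ∀ j, j ∈ Q → g⁻¹ * j * g ∈ Q → K.c j = 0 ∨ K.c j = v := by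
    intro j hj hjy
    by_contra! hcon
    have hw := allV_spec (root_witness K.qm) hvlt
    simp only [Bool.or_eq_true, beq_iff_eq, hv0, hqv, hv64, Bool.false_eq_true, or_false, false_or] at hw
    have he := allV_spec hw (K.c_lt j hj)
    obtain ⟨hqe, hpe⟩ := hJcl j hj hjy
    simp only [Bool.or_eq_true, beq_iff_eq, hcon.1, hcon.2, hqe, hpe, Bool.false_eq_true, or_false, false_or,
      List.any_eq_true, Bool.and_eq_true, Bool.not_eq_true'] at he
    obtain ⟨⟨d, wd⟩, hmem, hdv, hdq⟩ := he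
    have hf := List.all_eq_true.1 rootW_form _ hmem
    have hf' := List.all_eq_true.1 rootW_ok _ hmem
    simp only [Bool.and_eq_true, Bool.not_eq_true', beq_eq_false_iff_ne] at hf hf'
    have hd : d < 256 := Nat.le_of_ble_eq_true hf'.1.1
    obtain ⟨s, hst, hs⟩ := K.exists_root S hd hf.1.1.1
      (by cases K.qm; exacts [hf.1.1.2, hf.1.2]) hf.2
    have hsv : K.al s v = v := by rw [hs v hvlt, hdv, hv64]; simp
    obtain ⟨s', hst', hsy, hse⟩ : ∃ s', s' * t = t * s' ∧ s' * y * s'⁻¹ = y ∧ K.al s' (K.c j) = K.al s (K.c j) := by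
      rcases K.same S hyQ (S.norm s (mem_C.2 hst) _ hyQ) (by rw [K.al_eq S hst hyQ, ← hv, hsv]) with e | e
      · exact ⟨s, hst, e, rfl⟩
      · obtain ⟨i, hi⟩ := (show ∃ i, i < 256 ∧ polR v i = true by
          by_contra! hc
          have hr := allV_spec rad_model hvlt
          simp only [Bool.or_eq_true, beq_iff_eq, hv0, false_or, List.any_eq_true, List.mem_range] at hr
          obtain ⟨i, hi, hi'⟩ := hr
          exact hc (2 ^ i) (Nat.pow_lt_pow_right (by omega) hi) hi')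
        have hq1 := K.e_spec hi.1
        refine ⟨s * K.e i, mem_C.1 (mul_mem (mem_C.2 hst) (S.le hq1.1)), ?_, ?_⟩
        · have e1 := K.comm_tw S hyQ hq1.1
          rw [← hv, hq1.2, hi.2] at e1
          calc s * K.e i * y * (s * K.e i)⁻¹ = s * (K.e i * y) * (K.e i)⁻¹ * s⁻¹ := by group
            _ = s * y * (K.e i * tw t true * (K.e i)⁻¹) * s⁻¹ := by rw [e1]; group
            _ = s * y * t * s⁻¹ := by
              rw [show K.e i * tw t true = t * K.e i from t_comm S hq1.1]; group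
            _ = s * y * s⁻¹ * (s * t * s⁻¹) := by group
            _ = y := by rw [e, hst, mul_inv_cancel_right, mul_assoc y, t2 S, mul_one]
        · rw [K.al_mul S hst (t_comm S hq1.1) (K.c_lt j hj), K.al_Q S hq1.1 (K.c_lt j hj)]
    have hsy' : s' * y = y * s' := mul_inv_eq_iff_eq_mul.1 hsy
    have hgs : g⁻¹ * s' * g * t = t * (g⁻¹ * s' * g) :=
      calc g⁻¹ * s' * g * t = g⁻¹ * (s' * y) * g := by rw [hy]; group
        _ = g⁻¹ * (y * s') * g := by rw [hsy']
        _ = _ := by rw [hy]; group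
    have hj' : s' * j * s'⁻¹ * j⁻¹ ∈ Q := mul_mem (S.norm s' (mem_C.2 hst') _ hj) (inv_mem hj)
    have hj'y : g⁻¹ * (s' * j * s'⁻¹ * j⁻¹) * g ∈ Q := by
      rw [show g⁻¹ * (s' * j * s'⁻¹ * j⁻¹) * g = g⁻¹ * s' * g * (g⁻¹ * j * g) * (g⁻¹ * s' * g)⁻¹ *
        (g⁻¹ * j * g)⁻¹ by group]
      exact mul_mem (S.norm _ (mem_C.2 hgs) _ hjy) (inv_mem hjy)
    have hz := (hJcl _ hj' hj'y).1
    rw [K.c_mul _ (S.norm s' (mem_C.2 hst') _ hj) _ (inv_mem hj), K.c_inv S hj, K.al_eq S hst' hj, hse,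
      hs _ (K.c_lt j hj), Nat.xor_assoc, Nat.xor_assoc, Nat.xor_comm (cond (polR 64 _) _ _),
      ← Nat.xor_assoc, ← Nat.xor_assoc, Nat.xor_comm (K.c j), Nat.xor_assoc (cond _ _ _) (K.c j), Nat.xor_self,
      Nat.xor_zero] at hz
    exact Bool.false_ne_true (hz.symm.trans hdq)
  -- counting
  set y' := g⁻¹ * t * g with hy'
  set v' := K.c y' with hv'
  have hv'lt : v' < 256 := K.c_lt y' hy'Q
  have hv'0 : v' ≠ 0 := fun e => ((K.c_ker y' hy'Q).1 e).elim (fun e => t_ne S (by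
    calc t = g * y' * g⁻¹ := by rw [hy']; group
      _ = 1 := by rw [e]; group)) hne'
  have hb := allV_spec (image_bound K.qm) hvlt
  simp only [Bool.or_eq_true, beq_iff_eq, hv0, hqv, hv64, Bool.false_eq_true, or_false, false_or,
    List.any_eq_true, Bool.and_eq_true, Bool.not_eq_true', List.mem_range] at hb
  obtain ⟨u0, hu0, ⟨hu0v, hu064⟩, hle⟩ := hb
  let r' : ℕ → G := fun m => g * K.e m * g⁻¹
  have hr' : ∀ m < 256, polR v' m = false → r' m * t = t * r' m ∧ K.al (r' m) v = v ∧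
      ∀ w < 256, polR v w = false → K.al (r' m) w = w ∨ K.al (r' m) w = w ^^^ v := by
    intro m hm hpm
    have hem := K.e_spec hm
    have hc1 : y' * K.e m = K.e m * y' := (K.comm _ hy'Q _ hem.1).2 (by rw [hem.2]; exact hpm)
    have hrt : r' m * t = t * r' m :=
      calc g * K.e m * g⁻¹ * t = g * (K.e m * y') * g⁻¹ := by rw [hy']; group
        _ = g * (y' * K.e m) * g⁻¹ := by rw [hc1]
        _ = _ := by simp only [r', hy']; group
    have hry : r' m * y * (r' m)⁻¹ = y :=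
      calc g * K.e m * g⁻¹ * y * (g * K.e m * g⁻¹)⁻¹ = g * (K.e m * t * (K.e m)⁻¹) * g⁻¹ := by rw [hy]; group
        _ = y := by rw [t_comm S hem.1, mul_inv_cancel_right]
    refine ⟨hrt, by rw [hv, ← K.al_eq S hrt hyQ, hry], fun w hw hvw => ?_⟩
    have hew := K.e_spec hw
    have hc2 : y * K.e w = K.e w * y := (K.comm _ hyQ _ hew.1).2 (by rw [hew.2]; exact hvw)
    have hgw : g⁻¹ * K.e w * g * t = t * (g⁻¹ * K.e w * g) :=
      calc g⁻¹ * K.e w * g * t = g⁻¹ * (K.e w * y) * g := by rw [hy]; group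
        _ = g⁻¹ * (y * K.e w) * g := by rw [hc2]
        _ = _ := by rw [hy]; group
    have hj : r' m * K.e w * (r' m)⁻¹ * (K.e w)⁻¹ ∈ Q := mul_mem (S.norm _ (mem_C.2 hrt) _ hew.1) (inv_mem hew.1)
    have hjy : g⁻¹ * (r' m * K.e w * (r' m)⁻¹ * (K.e w)⁻¹) * g ∈ Q := by
      rw [show g⁻¹ * (r' m * K.e w * (r' m)⁻¹ * (K.e w)⁻¹) * g =
        K.e m * (g⁻¹ * K.e w * g * (K.e m)⁻¹ * (g⁻¹ * K.e w * g)⁻¹) by simp only [r']; group]
      exact mul_mem hem.1 (S.norm _ (mem_C.2 hgw) _ (inv_mem hem.1))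
    have := hJ _ hj hjy
    rw [K.c_mul _ (S.norm _ (mem_C.2 hrt) _ hew.1) _ (inv_mem hew.1), K.c_inv S hew.1, hew.2,
      K.al_eq S hrt hew.1, hew.2] at this
    refine this.imp Nat.xor_eq_zero_iff.1 fun e => ?_
    rw [← e, Nat.xor_comm w, Nat.xor_assoc, Nat.xor_self, Nat.xor_zero]
  let D : ℕ → ℕ := fun m => K.al (r' m) u0 ^^^ u0
  have hD : ∀ m < 256, polR v' m = false → D m < 256 ∧ polR v (D m) = false ∧ polR 64 (D m) = false ∧
      qR K.qm (D m) = polR u0 (D m) ∧
      ∀ w < 256, polR v w = false → K.al (r' m) w = w ^^^ cond (polR w (D m)) v 0 := by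
    intro m hm hpm
    obtain ⟨hrt, hrv, hrw⟩ := hr' m hm hpm
    have hau := K.al_lt S hrt hu0
    have hDl : D m < 256 := xor_lt hau hu0
    have hDe : K.al (r' m) u0 = u0 ^^^ D m := by
      simp [D, Nat.xor_left_comm]
    have h1 : polR v (D m) = false := by
      have := K.al_pol S hrt hvlt hu0
      rw [hrv, hDe, K.pol_xor_right S hvlt hu0 hDl] at this
      revert this
      cases polR v u0 <;> cases polR v (D m) <;> simp
    have h2 : polR 64 (D m) = false := by
      have := K.al_pol S hrt (u := 64) (by omega) hu0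
      rw [K.al_fix S hrt, hDe, K.pol_xor_right S (by omega) hu0 hDl] at this
      revert this
      cases polR 64 u0 <;> cases polR 64 (D m) <;> simp
    have h3 : qR K.qm (D m) = polR u0 (D m) := by
      have := K.al_q S hrt hu0
      rw [hDe, K.q_xor S hu0 hDl] at this
      revert this
      cases qR K.qm u0 <;> cases qR K.qm (D m) <;> cases polR u0 (D m) <;> simp
    refine ⟨hDl, h1, h2, h3, fun w hw hvw => ?_⟩
    have hp := K.al_pol S hrt hw hu0
    rw [hDe] at hp
    have hwD : ∀ b, K.al (r' m) w = w ^^^ cond b v 0 → b = polR w (D m) := by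
      intro b hb
      have hbl : cond b v 0 < 256 := by cases b <;> simp [hvlt]
      rw [hb, polR_xor, K.pol_xor_right S hw hu0 hDl, K.pol_xor_right S hbl hu0 hDl] at hp
      revert hp
      cases b
      · have hz : ∀ z, polR 0 z = false := fun z => by
          have := polR_xor 0 0 z
          rw [Nat.xor_self, Bool.xor_self] at this
          exact this
        simp only [cond_false, hz]
        cases polR w u0 <;> cases polR w (D m) <;> simp
      · simp only [cond_true, h1, K.polR_symm S hvlt hu0, hu0v]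
        cases polR w u0 <;> cases polR w (D m) <;> simp
    rcases hrw w hw hvw with e | e
    · rw [← hwD false (by rw [e]; simp), e]; simp
    · rw [← hwD true e, e]; rfl
  let s := (Finset.range 256).filter fun m => polR v' m = false
  have hs : s.card = 128 := by
    have h := allV_spec perp_count hv'lt
    simp only [Bool.or_eq_true, beq_iff_eq, hv'0, false_or] at h
    rw [← h, List.countP_eq_length_filter]
    show ((List.range 256).filter _).length = ((List.range 256).filter _).length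
    congr 1
    exact List.filter_congr fun m _ => by simp
  have himg : (s.image D).card ≤ 32 := by
    refine le_trans (Finset.card_le_card (t := (Finset.range 256).filter fun d =>
      polR v d = false ∧ polR 64 d = false ∧ qR K.qm d = polR u0 d) ?_) ?_
    · intro d hd
      obtain ⟨m, hm, rfl⟩ := Finset.mem_image.1 hd
      simp only [s, Finset.mem_filter, Finset.mem_range] at hm
      obtain ⟨a, b, c, e, -⟩ := hD m hm.1 hm.2
      exact Finset.mem_filter.2 ⟨Finset.mem_range.2 a, b, c, e⟩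
    · refine le_trans (le_of_eq ?_) (Nat.le_of_ble_eq_true hle)
      rw [List.countP_eq_length_filter]
      show ((List.range 256).filter _).length = ((List.range 256).filter _).length
      congr 1
      exact List.filter_congr fun d _ => by simp [Bool.and_assoc, beq_eq_decide]
  have hfib : ∀ d ∈ s.image D, (s.filter fun m => D m = d).card ≤ 2 := by
    intro d hd
    obtain ⟨m1, hm1, hd1⟩ := Finset.mem_image.1 hd
    refine le_trans (Finset.card_le_card (t := {m1, m1 ^^^ v'}) fun m hm => ?_) Finset.card_le_two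
    obtain ⟨hm, hdm⟩ := Finset.mem_filter.1 hm
    simp only [s, Finset.mem_filter, Finset.mem_range] at hm1 hm
    obtain ⟨-, -, -, -, a1⟩ := hD m1 hm1.1 hm1.2
    obtain ⟨-, -, -, -, a2⟩ := hD m hm.1 hm.2
    have hDD : D m = D m1 := hdm.trans hd1.symm
    obtain ⟨t1, -, -⟩ := hr' m1 hm1.1 hm1.2
    obtain ⟨t2', -, -⟩ := hr' m hm.1 hm.2
    have hall : ∀ w < 256, K.al (r' m) w = K.al (r' m1) w := by
      intro w hw
      rcases hvw : polR v w with _ | _
      · rw [a1 w hw hvw, a2 w hw hvw, hDD]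
      · have hw' : w ^^^ u0 < 256 := xor_lt hw hu0
        have hvw' : polR v (w ^^^ u0) = false := by
          rw [K.pol_xor_right S hvlt hw hu0, hvw, K.polR_symm S hvlt hu0, hu0v]; rfl
        have h1 := (a2 _ hw' hvw').trans ((congrArg _ (by rw [hDD])).trans (a1 _ hw' hvw').symm)
        rw [K.al_xor S t2' hw hu0, K.al_xor S t1 hw hu0] at h1
        have h2 : K.al (r' m) u0 = K.al (r' m1) u0 := Nat.xor_left_inj.1 hDD
        rw [h2] at h1
        exact Nat.xor_left_inj.1 h1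
    have hi1 := mem_C.1 (inv_mem (mem_C.2 t1))
    have hQ : (r' m1)⁻¹ * r' m ∈ Q := K.eq_id S (mem_C.1 (mul_mem (inv_mem (mem_C.2 t1)) (mem_C.2 t2')))
      fun w hw => by rw [K.al_mul S hi1 t2' hw, hall w hw, ← K.al_mul S hi1 t1 hw, inv_mul_cancel, K.al_one S hw]
    have e1 := K.e_spec hm1.1
    have e2 := K.e_spec hm.1
    have hrr : g⁻¹ * ((r' m1)⁻¹ * r' m) * g = (K.e m1)⁻¹ * K.e m := by simp only [r']; group
    have hz : (r' m1)⁻¹ * r' m = 1 ∨ (r' m1)⁻¹ * r' m = t ∨ (r' m1)⁻¹ * r' m = y ∨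
        (r' m1)⁻¹ * r' m = y * t := by
      rcases hJ _ hQ (hrr ▸ mul_mem (inv_mem e1.1) e2.1) with e | e
      · rcases (K.c_ker _ hQ).1 e with e | e <;> simp [e]
      · rcases K.same S hyQ hQ e.symm with e | e <;> simp [e]
    have hcz : K.c ((K.e m1)⁻¹ * K.e m) = m1 ^^^ m := by
      rw [K.c_mul _ (inv_mem e1.1) _ e2.1, K.c_inv S e1.1, e1.2, e2.2]
    have key : m1 ^^^ m = 0 ∨ m1 ^^^ m = v' := by
      rw [← hcz, ← hrr]
      rcases hz with e | e | e | e <;> rw [e]
      · left; rw [mul_one, inv_mul_cancel, K.c_one S]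
      · right; rw [hv', hy']
      · left; rw [show g⁻¹ * y * g = t by rw [hy]; group, K.c_t S]
      · right
        rw [show g⁻¹ * (y * t) * g = t * y' by rw [hy, hy']; group, K.c_mul _ (t_mem S) _ hy'Q, K.c_t S,
          Nat.zero_xor]
    rcases key with e | e
    · simp [Nat.xor_eq_zero_iff.1 e]
    · simp [← e, ← Nat.xor_assoc]
  have := Finset.card_le_mul_card_image s 2 hfib
  omega

include K in
/-- No two commuting conjugates outside a four-group. -/
theorem no_two {g1 g2 : G} (h1 : g1 * t * g1⁻¹ * t = t * (g1 * t * g1⁻¹)) (n1 : g1 * t * g1⁻¹ ≠ t)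
    (h2 : g2 * t * g2⁻¹ * t = t * (g2 * t * g2⁻¹)) (n2 : g2 * t * g2⁻¹ ≠ t)
    (hc : g1 * t * g1⁻¹ * (g2 * t * g2⁻¹) = g2 * t * g2⁻¹ * (g1 * t * g1⁻¹))
    (hd : g2 * t * g2⁻¹ ≠ g1 * t * g1⁻¹) (hd' : g2 * t * g2⁻¹ ≠ g1 * t * g1⁻¹ * t) : False := by
  obtain ⟨-, -, hax⟩ := K.x0_facts S
  have hflip : ∀ h, h * t * h⁻¹ * t = t * (h * t * h⁻¹) → h * t * h⁻¹ ≠ t →
      h * t * h⁻¹ * K.x0 * (h * t * h⁻¹)⁻¹ = K.x0 * t := fun h ha hb =>
    (hax.2 _ ha).resolve_left fun e => K.no_col S h ⟨ha, hb, mul_inv_eq_iff_eq_mul.1 e⟩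
  set y1 := g1 * t * g1⁻¹ with hy1
  set y2 := g2 * t * g2⁻¹ with hy2
  set g3 := K.x0⁻¹ * g2 with hg3
  have h3 : g3 * t * g3⁻¹ = t * y2 := by
    have e : y2 * K.x0 = K.x0 * t * y2 := mul_inv_eq_iff_eq_mul.1 (hflip g2 h2 n2)
    calc g3 * t * g3⁻¹ = K.x0⁻¹ * (y2 * K.x0) := by rw [hg3, hy2]; group
      _ = t * y2 := by rw [e]; group
  have c1 : ∀ z, z * y1 = y1 * z → g1⁻¹ * z * g1 * t = t * (g1⁻¹ * z * g1) := fun z hz =>
    calc g1⁻¹ * z * g1 * t = g1⁻¹ * (z * y1) * g1 := by rw [hy1]; group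
      _ = g1⁻¹ * (y1 * z) * g1 := by rw [hz]
      _ = _ := by rw [hy1]; group
  have cne : ∀ z, z ≠ y1 → g1⁻¹ * z * g1 ≠ t := fun z hz e => hz (by
    calc z = g1 * (g1⁻¹ * z * g1) * g1⁻¹ := by group
      _ = y1 := by rw [e])
  have ez : ∀ h, g1⁻¹ * h * t * (g1⁻¹ * h)⁻¹ = g1⁻¹ * (h * t * h⁻¹) * g1 := fun h => by group
  have f1 := hflip (g1⁻¹ * 1) (by rw [ez]; simpa using c1 t h1.symm) (by rw [ez]; simpa using cne t n1.symm)
  rw [ez, inv_one, mul_one, one_mul] at f1
  have f2 := hflip (g1⁻¹ * g2) (by rw [ez]; exact c1 y2 hc.symm) (by rw [ez]; exact cne y2 hd)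
  rw [ez] at f2
  refine K.no_col S (g1⁻¹ * g3) ⟨?_, ?_, ?_⟩
  · rw [ez, h3]
    exact c1 _ (by rw [mul_assoc, ← hc, ← mul_assoc, ← h1, mul_assoc])
  · rw [ez, h3]
    refine cne _ fun e => hd' ?_
    calc y2 = t * (t * y2) := by rw [← mul_assoc, t2 S, one_mul]
      _ = y1 * t := by rw [e, h1]
  · rw [ez, h3]
    refine mul_inv_eq_iff_eq_mul.1 ?_
    set a := g1⁻¹ * t * g1 with ha
    set b := g1⁻¹ * y2 * g1 with hb
    have eab : g1⁻¹ * (t * y2) * g1 = a * b := by rw [ha, hb]; group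
    rw [eab, show a * b * K.x0 * (a * b)⁻¹ = a * (b * K.x0 * b⁻¹) * a⁻¹ by group, f2,
      show a * (K.x0 * t) * a⁻¹ = a * K.x0 * a⁻¹ * (a * t * a⁻¹) by group, f1,
      show a * t = t * a from c1 t h1.symm, mul_inv_cancel_right, mul_assoc, t2 S, mul_one]

include K in
/-- **The reflection model does not occur.** -/
theorem kill : False := by
  obtain ⟨g, hC, hne⟩ := S.moved
  have hty := mem_C.1 hC
  obtain ⟨hx0, hx0c, hax⟩ := K.x0_facts S
  set y := g * t * g⁻¹ with hy
  have hy2 : y * y = 1 := conj_sq S g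
  have hyi : y⁻¹ = y := inv_eq_of_mul_eq_one_right hy2
  by_cases hyQ : y ∈ Q
  · set v := K.c y with hv
    have hvlt : v < 256 := K.c_lt y hyQ
    have h64 : polR 64 v = true := by
      rw [← Bool.not_eq_false, ← hx0c, ← K.comm _ hx0 _ hyQ]
      exact fun e => K.no_col S g ⟨hty, hne, e.symm⟩
    have hm := allV_spec move_outer hvlt
    simp only [h64, Bool.not_true, Bool.false_or, List.any_eq_true, List.mem_range] at hm
    obtain ⟨k, hk, hkv⟩ := hm
    obtain ⟨s, hs, hsal⟩ := K.exists_C S [k]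
    have hc2 : K.c (s * y * s⁻¹) = (v ^^^ rootC k) ^^^ 64 := by
      rw [K.al_eq S hs hyQ, ← hv, hsal v hvlt]
      show (v ^^^ cond (polR (rootC k) v) (rootC k) 0) ^^^ cond (true && polR 64 v) 64 0 = _
      rw [hkv, h64]; rfl
    have hr : rootC k < 256 ∧ rootC k ≠ 64 ∧ polR (rootC k) (rootC k) = false :=
      (show ∀ k < 7, rootC k < 256 ∧ rootC k ≠ 64 ∧ polR (rootC k) (rootC k) = false by decide +kernel) k hk
    have hsy : s * y * s⁻¹ ∈ Q := S.norm s (mem_C.2 hs) _ hyQ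
    have hcv : K.c (s * y * s⁻¹) ≠ v := by
      rw [hc2]
      intro e
      rw [Nat.xor_assoc] at e
      have := Nat.xor_right_inj.1 (e.trans (Nat.xor_zero v).symm)
      exact hr.2.1 (Nat.xor_eq_zero_iff.1 this)
    refine K.no_two S (g1 := g) (g2 := s * g) hty hne ?_ ?_ ?_ ?_ ?_ <;>
      rw [show s * g * t * (s * g)⁻¹ = s * y * s⁻¹ by rw [hy]; group]
    · exact t_comm S hsy
    · intro e
      apply hne
      calc g * t * g⁻¹ = s⁻¹ * (s * y * s⁻¹) * s := by rw [hy]; group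
        _ = s⁻¹ * (t * s) := by rw [e]; group
        _ = t := by rw [← hs]; group
    · refine (K.comm _ hyQ _ hsy).2 ?_
      rw [← hv, hc2, K.pol_xor_right S hvlt (xor_lt hvlt hr.1) (by omega), K.pol_xor_right S hvlt hvlt hr.1,
        K.polR_symm S hvlt hr.1, hkv, K.polR_symm S hvlt (v := 64) (by omega), h64]
      have : polR v v = false := by
        have h1 := (K.comm y hyQ y hyQ).1 rfl
        exact h1
      rw [this]; rfl
    · exact fun e => hcv (by rw [e])
    · exact fun e => hcv (by rw [e, K.c_mul _ hyQ _ (t_mem S), K.c_t S, Nat.xor_zero])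
  · obtain ⟨u, hu, hq, hmov⟩ := K.exists_singular S hty hy2 hyQ
    obtain ⟨hq0, hq0c⟩ := K.e_spec hu
    set q0 := K.e u
    have hyq : y * q0 * y⁻¹ ∈ Q := S.norm y (mem_C.2 hty) _ hq0
    set w := y * q0 * y⁻¹ * q0⁻¹ with hw
    have hwQ : w ∈ Q := mul_mem hyq (inv_mem hq0)
    have hwc : K.c w = K.al y u ^^^ u := by
      rw [hw, K.c_mul _ hyq _ (inv_mem hq0), K.c_inv S hq0, K.al_eq S hty hq0, hq0c]
    have hw2 : w * w = 1 := by rw [K.sq w hwQ, hwc, hq]; rfl
    have hy' : y * w = q0 * y * q0⁻¹ := by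
      rw [hw, hyi]
      calc y * (y * q0 * y * q0⁻¹) = (y * y) * q0 * y * q0⁻¹ := by group
        _ = _ := by rw [hy2, one_mul]
    have hw0 : K.c w ≠ 0 := fun e => hmov (Nat.xor_eq_zero_iff.1 (hwc.symm.trans e))
    refine K.no_two S (g1 := g) (g2 := q0 * g) hty hne ?_ ?_ ?_ ?_ ?_ <;>
      rw [show q0 * g * t * (q0 * g)⁻¹ = q0 * y * q0⁻¹ by rw [hy]; group, ← hy']
    · exact mem_C.1 (mul_mem (mem_C.2 hty) (S.le hwQ))
    · intro e
      apply hne
      calc g * t * g⁻¹ = q0⁻¹ * (y * w) * q0 := by rw [hy', hy]; group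
        _ = q0⁻¹ * (t * q0) := by rw [e]; group
        _ = t := by rw [← t_comm S hq0]; group
    · have hwy : w * y = y * w := by
        have e : y * w * y⁻¹ = w⁻¹ := by
          rw [hw, hyi]
          calc y * (y * q0 * y * q0⁻¹) * y = (y * y) * q0 * y * q0⁻¹ * y := by group
            _ = q0 * y⁻¹ * q0⁻¹ * y⁻¹ := by rw [hy2, one_mul, hyi]
            _ = _ := by group
        rw [inv_eq_of_mul_eq_one_right hw2] at e
        exact (mul_inv_eq_iff_eq_mul.1 e).symm
      exact (Commute.refl y).mul_right hwy.symm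
    · intro e
      exact hw0 (by rw [mul_left_cancel (a := y) (e.trans (mul_one y).symm), K.c_one S])
    · intro e
      exact hw0 (by rw [mul_left_cancel e, K.c_t S])

end RC

end Cfsg.Agent.Co2Recog
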