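import Cfsg.Agent.Lib.Co2Recog.ModuleModel

/-!
Tables for the reflection model: the vectors of the sixty-three transvections with words reaching them, and
the facts used to exclude this model.
-/

set_option autoImplicit false
set_option maxRecDepth 100000

namespace Cfsg.Agent.Co2Recog

open Cfsg.Agent.ThRec.Eight (allV allV_spec)

/-- The vectors of the transvections and words reaching them from the first one. -/
def rootW : List (ℕ × List ℕ) :=
    [(1, []), (2, [0, 1]), (3, [1]), (4, [1, 2, 0, 1]), (6, [2, 0, 1]), (7, [2, 1]), (8, [2, 3, 1, 2, 0,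
    1]), (12, [3, 1, 2, 0, 1]), (14, [3, 2, 0, 1]), (15, [3, 2, 1]), (16, [3, 4, 2, 3, 1, 2, 0, 1]), (21,
    [6, 2, 3, 1, 2, 6, 4, 3, 2, 1]), (24, [4, 2, 3, 1, 2, 0, 1]), (28, [4, 3, 1, 2, 0, 1]), (30, [4, 3, 2,
    0, 1]), (31, [4, 3, 2, 1]), (32, [4, 5, 3, 4, 2, 3, 1, 2, 0, 1]), (37, [6, 4, 2, 3, 1, 2, 6, 5, 4, 3, 2,
    1]), (41, [2, 6, 3, 4, 2, 3, 1, 2, 6, 5, 4, 3, 2, 1]), (42, [0, 1, 2, 6, 3, 4, 2, 3, 1, 2, 6, 5, 4, 3,
    2, 1]), (43, [1, 2, 6, 3, 4, 2, 3, 1, 2, 6, 5, 4, 3, 2, 1]), (45, [6, 3, 4, 2, 3, 1, 2, 6, 5, 4, 3, 2,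
    1]), (48, [5, 3, 4, 2, 3, 1, 2, 0, 1]), (53, [6, 2, 3, 1, 2, 6, 5, 4, 3, 2, 1]), (56, [5, 4, 2, 3, 1, 2,
    0, 1]), (60, [5, 4, 3, 1, 2, 0, 1]), (62, [5, 4, 3, 2, 0, 1]), (63, [5, 4, 3, 2, 1]), (69, [3, 4, 2, 3,
    1, 2, 6, 5, 4, 3, 2, 1]), (73, [4, 3, 1, 2, 6, 5, 4, 3, 2, 1]), (74, [4, 3, 2, 6, 5, 4, 3, 2, 0, 1]),
    (75, [4, 3, 2, 6, 5, 4, 3, 2, 1]), (77, [4, 2, 3, 1, 2, 6, 5, 4, 3, 2, 1]), (81, [1, 2, 6, 5, 4, 3, 2,
    1]), (82, [2, 6, 5, 4, 3, 2, 0, 1]), (83, [2, 6, 5, 4, 3, 2, 1]), (84, [6, 5, 4, 3, 1, 2, 0, 1]), (86,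
    [6, 5, 4, 3, 2, 0, 1]), (87, [6, 5, 4, 3, 2, 1]), (89, [3, 1, 2, 6, 5, 4, 3, 2, 1]), (90, [3, 2, 6, 5,
    4, 3, 2, 0, 1]), (91, [3, 2, 6, 5, 4, 3, 2, 1]), (93, [2, 3, 1, 2, 6, 5, 4, 3, 2, 1]), (97, [1, 2, 6, 3,
    2, 1]), (98, [2, 6, 3, 2, 0, 1]), (99, [2, 6, 3, 2, 1]), (100, [6, 3, 1, 2, 0, 1]), (102, [6, 3, 2, 0,
    1]), (103, [6, 3, 2, 1]), (104, [2, 6, 1, 2, 0, 1]), (108, [6, 1, 2, 0, 1]), (110, [6, 2, 0, 1]), (111,
    [6, 2, 1]), (113, [1, 2, 6, 4, 3, 2, 1]), (114, [2, 6, 4, 3, 2, 0, 1]), (115, [2, 6, 4, 3, 2, 1]), (116,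
    [6, 4, 3, 1, 2, 0, 1]), (118, [6, 4, 3, 2, 0, 1]), (119, [6, 4, 3, 2, 1]), (121, [3, 1, 2, 6, 4, 3, 2,
    1]), (122, [3, 2, 6, 4, 3, 2, 0, 1]), (123, [3, 2, 6, 4, 3, 2, 1]), (125, [2, 3, 1, 2, 6, 4, 3, 2, 1])]

theorem rootW_ok : rootW.all (fun p => Nat.blt p.1 256 && rAct true p.2 1 == p.1 && p.2.all (fun k => Nat.blt k 7))
    = true := by decide +kernel

theorem rootW_form : rootW.all (fun p => !polR 64 p.1 && qR false p.1 && qR true p.1 && !(p.1 == 64)) = true := by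
  decide +kernel

/-- An orthogonal vector of norm one is a transvection vector or the radical one. -/
theorem root_cover (qm : Bool) : allV (fun d => polR 64 d || !qR qm d || d == 64 ||
    rootW.any fun p => p.1 == d) = true := by
  cases qm <;> decide +kernel

theorem fix_radical : (List.range 7).all (fun k => rX true k 64 == 64) = true := by decide +kernel

theorem move_outer : allV (fun v => !polR 64 v || (List.range 7).any fun k => polR (rootC k) v) = true := by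
  decide +kernel

/-- A vector of a totally singular group other than the given one is moved by a transvection fixing it. -/
theorem root_witness (qm : Bool) : allV (fun v => v == 0 || qR qm v || polR 64 v ||
    allV fun e => e == 0 || e == v || qR qm e || polR v e ||
      rootW.any fun p => !polR p.1 v &&
        qR qm (Nat.xor (cond (polR p.1 e) p.1 0) (cond (polR 64 e) 64 0))) = true := by
  cases qm <;> decide +kernel

/-- At most thirty-two images of a vector outside the orthogonal group of the given one. -/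
theorem image_bound (qm : Bool) : allV (fun v => v == 0 || qR qm v || polR 64 v ||
    (List.range 256).any fun u => polR u v && !polR 64 u &&
      Nat.ble ((List.range 256).countP fun d => !polR v d && !polR 64 d && qR qm d == polR u d) 32) = true := by
  cases qm <;> decide +kernel

/-- The vectors orthogonal to a nonzero vector form half of the space. -/
theorem perp_count : allV (fun v => v == 0 || (List.range 256).countP (fun m => !polR v m) == 128) = true := by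
  decide +kernel

end Cfsg.Agent.Co2Recog
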