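import Cfsg.Agent.Lib.Co2Recog.ModuleRoots

/-!
The two possible eight-dimensional modules: the spin module and the reflection model.
-/

set_option autoImplicit false
set_option maxRecDepth 100000

namespace Cfsg.Agent.Co2Recog

open Cfsg.Agent.ThRec.Eight (ap gen lin lin_cons map_lin lin_ap lin_xor lin_zero lin_two_pow ap_lt allV allV_spec
  xor_lt odd odd_eq)

/-- A parity selected by a mask. -/
def parL : List Bool → ℕ → Bool
  | [], _ => false
  | b :: l, x => (odd x && b) ^^ parL l (Nat.div x 2)

/-- A quadratic form from its values and pairings. -/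
def quad : List (Bool × List Bool) → ℕ → Bool
  | [], _ => false
  | p :: l, x => ((odd x && p.1) ^^ quad l (Nat.div x 2)) ^^ (odd x && parL p.2 (Nat.div x 2))

/-- Pairings of the model basis. -/
def gramR : List (List Bool) := (List.range 8).map fun i => (List.range 8).map fun j =>
  (decide (i < 6 ∧ j < 6) && (i + 1 == j || j + 1 == i)) || ((i == 6 && j == 7) || (i == 7 && j == 6))

/-- The polar form of the model. -/
def polR (x y : ℕ) : Bool := parL (gramR.map fun l => parL l y) x

/-- The form of the model. -/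
def qR (qm : Bool) (x : ℕ) : Bool :=
  quad ((List.range 8).map fun i => ((i != 7) || qm, (gramR.getD i []).drop (i + 1))) x

/-- The vectors of the seven reflections. -/
def rootC (k : ℕ) : ℕ := [1, 2, 4, 8, 16, 32, 104].getD (k % 7) 0

/-- A letter on the model. -/
def rX (e : Bool) (k x : ℕ) : ℕ :=
  Nat.xor (Nat.xor x (cond (polR (rootC k) x) (rootC k) 0)) (cond (e && polR 64 x) 64 0)

/-- A word on the model. -/
def rAct (e : Bool) : List ℕ → ℕ → ℕ
  | [], x => x
  | k :: w, x => rX e k (rAct e w x)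

theorem rad_model : allV (fun x => x == 0 || (List.range 8).any fun i => polR x (2 ^ i)) = true := by
  decide +kernel

theorem rad_extra : allV (fun x => (x == 0 || x == 64) || (List.range 7).any fun i => polR x (2 ^ i)) = true := by
  decide +kernel

theorem solve_path : (List.range 64).all (fun b => (List.range 64).any fun c =>
    (List.range 6).all fun l => polR c (2 ^ l) == b.testBit l) = true := by decide +kernel

theorem odd_bad : allV (fun x => rAct false oddW x == x) = false := by decide +kernel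

theorem oddW_rel : eqW oddW [] = true ∧ ∀ k ∈ oddW, k < 7 := by decide +kernel

theorem rX_lt {e : Bool} {k x : ℕ} (hx : x < 256) : rX e k x < 256 := by
  have h : rootC k < 256 := by
    rw [rootC]
    have : k % 7 < 7 := Nat.mod_lt _ (by omega)
    interval_cases k % 7 <;> decide
  exact xor_lt (xor_lt hx (by cases polR (rootC k) x <;> simp [h])) (by cases (e && polR 64 x) <;> simp)

theorem rAct_lt (e : Bool) : ∀ w {x : ℕ}, x < 256 → rAct e w x < 256
  | [], _, h => h
  | k :: w, _, h => rX_lt (rAct_lt e w h)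

theorem parL_cons (b : Bool) (l : List Bool) (x : ℕ) : parL (b :: l) x = ((odd x && b) ^^ parL l (x / 2)) := rfl

namespace Rep

variable {V : Type*} [AddCommGroup V] (r : Rep V)

theorem B_lin (w : V) : ∀ (L : List V) (x : ℕ), r.B (lin L x) w = parL (L.map (r.B · w)) x
  | [], _ => r.B_zero w
  | c :: L, x => by
    rw [List.map_cons, lin_cons, parL_cons, r.Badd, B_lin w L]
    cases odd x <;> simp [r.B_zero]

/-- The data of the form on a list. -/
def qdata : List V → List (Bool × List Bool)
  | [] => []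
  | c :: L => (r.q c, L.map (r.B · c)) :: qdata L

theorem q_lin : ∀ (L : List V) (x : ℕ), r.q (lin L x) = quad (r.qdata L) x
  | [], _ => r.q_zero
  | c :: L, x => by
    show r.q (lin (c :: L) x) = (((odd x && r.q c) ^^ quad (r.qdata L) (x / 2)) ^^
      (odd x && parL (L.map (r.B · c)) (x / 2)))
    rw [lin_cons, r.qadd, q_lin L]
    cases odd x <;> simp [r.q_zero, r.B_zero, r.Bsymm c, r.B_lin]

theorem two_models [Finite V] (hV : Nat.card V = 256) :
    ∃ L : List V, (∀ m < 256, lin L m = 0 → m = 0) ∧ (∀ x, ∃ m < 256, lin L m = x) ∧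
      ((∀ k < 7, ∀ m < 256, r.T [k] (lin L m) = lin L (ap (gen sX k) m)) ∨
        ∃ qm, (∀ k < 7, ∀ m < 256, r.T [k] (lin L m) = lin L (rX true k m)) ∧
          (∀ m < 256, r.q (lin L m) = qR qm m) ∧ ∀ m n, r.B (lin L m) (lin L n) = polR m n) := by
  rcases r.dichotomy hV with h4 | ⟨W, hT, h0, hne⟩
  swap
  · obtain ⟨L, h1, h2, h3⟩ := r.cases_256 hV hT h0 hne
    exact ⟨L, h1, h2, Or.inl h3⟩
  obtain ⟨a, u, hqu, ha, hB⟩ := r.roots hV h4
  set e := a 3 + (a 5 + a 6) with he
  have hBa : ∀ l < 7, r.B e (a l) = false := fun l hl => by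
    rw [he, r.Badd, r.Badd, hB 3 (by omega) l hl, hB 5 (by omega) l hl, hB 6 (by omega) l hl]
    interval_cases l <;> rfl
  have hqe : r.q e = true := by
    rw [he, r.qadd, r.qadd, r.Badd_right, (ha 3 (by omega)).1, (ha 5 (by omega)).1, (ha 6 (by omega)).1,
      hB 3 (by omega) 5 (by omega), hB 3 (by omega) 6 (by omega), hB 5 (by omega) 6 (by omega)]
    rfl
  have he0 : e ≠ 0 := fun h => by rw [h, r.q_zero] at hqe; exact Bool.false_ne_true hqe
  obtain ⟨m0, hm0⟩ : ∃ m, r.B e m = true := by
    by_contra! h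
    exact he0 (r.nondeg e fun v => Bool.eq_false_of_not_eq_true (h v))
  let A : List V := [a 0, a 1, a 2, a 3, a 4, a 5]
  obtain ⟨c, hc, hsol⟩ : ∃ c < 64, ∀ l < 6, polR c (2 ^ l) = r.B m0 (a l) := by
    let b : ℕ := Nat.ofBits fun i : Fin 6 => r.B m0 (a i)
    have hb : b < 2 ^ 6 := Nat.ofBits_lt_two_pow _
    obtain ⟨c, hc, hc'⟩ := List.any_eq_true.1 (List.all_eq_true.1 solve_path b (List.mem_range.2 hb))
    refine ⟨c, List.mem_range.1 hc, fun l hl => ?_⟩
    rw [beq_iff_eq.1 (List.all_eq_true.1 hc' l (List.mem_range.2 hl)), Nat.testBit_ofBits_lt _ _ hl]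
  set m := m0 + lin A c with hm
  have hBA : ∀ l < 6, r.B (lin A c) (a l) = polR c (2 ^ l) := fun l hl => by
    rw [r.B_lin]
    rw [show A.map (r.B · (a l)) = (List.range 6).map (fun i => adj i l) by
      simp [A, List.range_succ, hB _ _ l (show l < 7 by omega)]]
    exact (show ∀ l < 6, ∀ c < 64, parL ((List.range 6).map (fun i => adj i l)) c = polR c (2 ^ l) by
      decide +kernel) l hl c hc
  have hma : ∀ l < 6, r.B m (a l) = false := fun l hl => by
    rw [hm, r.Badd, hBA l hl, hsol l hl, Bool.xor_self]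
  have hme : r.B e m = true := by
    rw [hm, r.Badd_right, hm0, r.Bsymm, r.B_lin]
    simp [A, parL, r.Bsymm _ e, hBa]
  let L : List V := [a 0, a 1, a 2, a 3, a 4, a 5, e, m]
  have hea : ∀ l < 6, r.B (a l) e = false ∧ r.B (a l) m = false := fun l hl =>
    ⟨by rw [r.Bsymm, hBa l (by omega)], by rw [r.Bsymm, hma l hl]⟩
  have hgram : L.map (fun y => L.map fun z => r.B z y) = gramR := by
    simp (config := { decide := true }) [L, gramR, List.range_succ, hB, adj, hea, hBa, hma, hme, r.B_self, r.Bsymm m e]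
  have hpol : ∀ x y, r.B (lin L x) (lin L y) = polR x y := fun x y => by
    rw [r.B_lin, polR, ← hgram, List.map_map]
    congr 1
    refine List.map_congr_left fun z _ => ?_
    rw [r.Bsymm, r.B_lin]
    rfl
  have hbasis : ∀ i < 8, L.getD i 0 = lin L (2 ^ i) := fun i _ => (lin_two_pow L i).symm
  have hinj : ∀ x < 256, lin L x = 0 → x = 0 := fun x hx h => by
    have h' := allV_spec rad_model hx
    rw [Bool.or_eq_true, beq_iff_eq, List.any_eq_true] at h'
    rcases h' with h' | ⟨i, -, h'⟩
    · exact h'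
    · rw [← hpol, h, r.B_zero] at h'
      exact absurd h' Bool.false_ne_true
  haveI := Fintype.ofFinite V
  let f : Fin 256 → V := fun x => lin L x.val
  have hf : Function.Bijective f := (Fintype.bijective_iff_injective_and_card f).2 ⟨fun x y h => by
    have h' : lin L x.val + lin L y.val = 0 := by rw [show lin L x.val = lin L y.val from h, r.two]
    rw [← lin_xor r.two] at h'
    exact Fin.ext (Nat.xor_eq_zero_iff.1 (hinj _ (xor_lt x.2 y.2) h')), by
    rw [Fintype.card_fin, ← Nat.card_eq_fintype_card, hV]⟩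
  have hsurj : ∀ v, ∃ x < 256, lin L x = v := fun v => (hf.2 v).elim fun x hx => ⟨x.val, x.2, hx⟩
  have hcode : ∀ k < 7, a k = lin L (rootC k) := fun k hk => by
    interval_cases k <;> simp [rootC, L, lin_cons, lin_nil, odd_eq, Nat.testBit_zero]
    rw [he]
    calc a 6 = (a 3 + a 3) + (a 5 + a 5) + a 6 := by rw [r.two, r.two, zero_add, zero_add]
      _ = _ := by abel
  have h64 : e = lin L 64 := (lin_two_pow L 6).symm
  obtain ⟨ε, hu⟩ : ∃ ε : Bool, u = cond ε e 0 := by
    rcases hqu with h | h
    · exact ⟨false, h⟩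
    obtain ⟨x, hx, hux⟩ := hsurj u
    have h' := allV_spec rad_extra hx
    simp only [Bool.or_eq_true, beq_iff_eq, List.any_eq_true, List.mem_range] at h'
    rcases h' with (rfl | rfl) | ⟨i, hi, h'⟩
    · exact ⟨false, by rw [← hux, lin_zero]; rfl⟩
    · exact ⟨true, by rw [← hux, ← h64]; rfl⟩
    · rw [← hpol, hux, ← hbasis i (by omega)] at h'
      interval_cases i <;> simp [L, (ha _ _).2.1, he, r.Badd_right] at h'
  have hT : ∀ k < 7, ∀ x < 256, r.T [k] (lin L x) = lin L (rX ε k x) := fun k hk x hx => by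
    rw [r.T_of_N, r.N_apply, (ha k hk).2.2, rX, show ∀ p q, Nat.xor p q = p ^^^ q from fun _ _ => rfl,
      show ∀ p q, Nat.xor p q = p ^^^ q from fun _ _ => rfl, lin_xor r.two, lin_xor r.two, hcode k hk, hpol, hu]
    cases ε
    · cases polR (rootC k) x <;> simp [lin_zero, r.B_zero, add_comm]
    · rw [cond_true, h64, hpol]
      cases polR (rootC k) x <;> cases polR 64 x <;> simp [lin_zero] <;> abel
  refine ⟨L, hinj, hsurj, ?_⟩
  cases ε
  · exfalso
    have hact : ∀ w : List ℕ, (∀ k ∈ w, k < 7) → ∀ x < 256, r.T w (lin L x) = lin L (rAct false w x) := by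
      intro w hw x hx
      induction w with
      | nil => rw [r.T_nil]; rfl
      | cons k w ih =>
        rw [show k :: w = [k] ++ w from rfl, r.T_app, ih fun j hj => hw j (List.mem_cons_of_mem _ hj)]
        exact hT k (hw k List.mem_cons_self) _ (rAct_lt false w hx)
    have hall : allV (fun x => rAct false oddW x == x) = true := List.all_eq_true.2 fun x hx => by
      rw [List.mem_range] at hx
      refine beq_iff_eq.2 (Nat.xor_eq_zero_iff.1 (hinj _ (xor_lt (rAct_lt _ _ hx) hx) ?_))
      rw [lin_xor r.two, ← hact oddW oddW_rel.2 x hx, r.rel oddW_rel.1, r.T_nil]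
      exact r.two _
    exact Bool.false_ne_true (odd_bad.symm.trans hall)
  · refine Or.inr ⟨r.q m, hT, fun x hx => ?_, hpol⟩
    rw [r.q_lin, qR]
    congr 1
    simp (config := { decide := true }) [L, qdata, gramR, List.range_succ, hB, adj, hea, hBa, hma, hme, hqe, ha, r.Bsymm m e]

end Rep

end Cfsg.Agent.Co2Recog
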