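import Cfsg.Agent.Lib.Co2Recog.ModuleData

/-!
Words and tables for the recognition of the eight-dimensional modules of the symplectic group in six dimensions
over the field of two elements.
-/

set_option autoImplicit false

namespace Cfsg.Agent.Co2Recog

/-- The two coded generators as words in the transvections. -/
def genW : List (List ℕ) :=
    [[0, 2, 4, 5, 4, 3, 2, 1, 6, 2, 1, 0, 3, 2, 1, 4, 3, 6, 2, 1, 3, 4, 5], [0, 2, 1, 3, 2, 1, 0, 5, 4,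
    6, 2, 1, 3, 2, 4, 3, 5, 4, 6, 2, 1, 0, 3, 2, 1, 6, 2, 3, 4]]

/-- A relation of odd length. -/
def oddW : List ℕ :=
    [0, 1, 0, 2, 1, 0, 3, 2, 1, 0, 4, 3, 2, 1, 0, 5, 4, 3, 2, 1, 0, 6, 2, 1, 0, 3, 2, 1, 4, 3, 2, 5, 6,
    4, 2, 3, 1, 2, 6, 4, 5, 3, 4, 1, 2, 3, 0, 1, 2, 6, 3, 4, 5, 2, 3, 4, 1, 2, 3, 0, 1, 2, 6]

/-- Five transvections centralising the first two, forming a chain. -/
def chainW : List (List ℕ) :=
    [[3, 4, 2, 3, 1, 2, 6, 5, 4, 3, 2, 1, 0, 1, 2, 3, 4, 5, 6, 2, 1, 3, 2, 4, 3], [2, 3, 1, 2, 0, 1, 0,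
    1, 0, 2, 1, 3, 2], [6, 4, 2, 3, 1, 2, 6, 5, 4, 3, 2, 1, 0, 1, 2, 3, 4, 5, 6, 2, 1, 3, 2, 4, 6], [6,
    2, 3, 1, 2, 6, 4, 3, 2, 1, 0, 1, 2, 3, 4, 6, 2, 1, 3, 2, 6], [4, 5, 3, 4, 2, 3, 1, 2, 0, 1, 0, 1,
    0, 2, 1, 3, 2, 4, 3, 5, 4]]

/-- Interchanges the first two planes. -/
def g12 : List ℕ :=
    [4, 5, 3, 4, 2, 3, 1, 2, 6, 2, 3, 4, 5, 1, 2, 3, 4, 1, 2, 3, 1, 2, 1]

/-- Interchanges the first and the third plane. -/
def g13 : List ℕ :=
    [6, 2, 3, 1, 2, 6, 4, 5, 3, 4, 2, 3, 1, 2, 6]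

/-- Moves the first plane to the second and the second to the third. -/
def g23 : List ℕ :=
    [2, 3, 1, 2, 6, 4, 5, 3, 4, 2, 3, 1, 2, 6, 1, 2, 3, 1, 2, 1]

/-- Moves the first pair to the edges of the diagram. -/
def edgeW : List (List ℕ) :=
    [[], [0, 1, 2], [1, 2, 3, 0, 1, 2], [2, 3, 4, 1, 2, 3, 0, 1, 2], [3, 4, 5, 2, 3, 4, 1, 2, 3, 0, 1,
    2], [1, 2, 6, 0, 1, 2]]

/-- Moves the first pair to the pair of the third root and the branch node. -/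
def thirdW : List ℕ :=
    [1, 2]

/-- The Clifford operators in the monomial basis. -/
def opM : List (List ℕ) :=
    [[0, 1, 0, 4, 0, 16, 0, 64], [0, 0, 1, 2, 0, 0, 16, 32], [0, 0, 0, 0, 1, 2, 4, 8], [2, 0, 8, 0, 32,
    0, 128, 0], [4, 8, 0, 0, 64, 128, 0, 0], [16, 32, 64, 128, 0, 0, 0, 0]]

/-- The standard basis in the monomial basis. -/
def spinL : List ℕ :=
    [128, 64, 96, 16, 104, 20, 6, 1]

/-- The transvections as combinations of the Clifford operators. -/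
def spinC : List ℕ :=
    [1, 24, 2, 48, 4, 32, 16]

/-- Orbit representatives on the spin module. -/
def repS : List ℕ :=
    [1, 24]

/-- Orbit trees on the spin module. -/
def edgeS : List (List (ℕ × ℕ)) :=
    [[(0, 0), (0, 2), (0, 4), (1, 1), (1, 2), (1, 4), (2, 1), (2, 4), (3, 3), (4, 2), (4, 4), (5, 1),
    (5, 3), (5, 4), (6, 3), (7, 4), (8, 3), (8, 5), (10, 1), (10, 3), (10, 4), (11, 3), (12, 0), (12,
    4), (13, 4), (14, 3), (14, 5), (16, 3), (16, 5), (17, 2), (19, 0), (19, 3), (19, 4), (20, 4), (21,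
    3), (21, 5), (23, 4), (24, 3), (24, 5), (25, 3), (25, 5), (26, 2), (28, 2), (28, 5), (31, 3), (31,
    4), (32, 4), (33, 3), (33, 5), (34, 3), (34, 5), (35, 2), (37, 3), (37, 5), (38, 2), (38, 5), (40,
    2), (40, 5), (43, 1), (45, 4), (46, 3), (46, 5), (47, 3), (47, 5), (48, 2), (48, 5), (50, 2), (50,
    5), (53, 2), (53, 5), (55, 1), (55, 6), (56, 4), (57, 5), (60, 3), (60, 5), (61, 2), (61, 5), (63,
    2), (63, 5), (65, 1), (65, 6), (66, 4), (67, 5), (69, 1), (69, 5), (69, 6), (70, 4), (71, 6), (75,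
    2), (75, 5), (77, 1), (77, 5), (77, 6), (78, 4), (79, 1), (79, 5), (79, 6), (80, 4), (81, 6), (85,
    0), (85, 6), (86, 6), (90, 1), (90, 5), (90, 6), (91, 4), (92, 0), (92, 6), (93, 4), (93, 6), (96,
    5), (96, 6), (97, 6), (101, 6), (104, 0), (104, 5), (104, 6), (105, 4), (105, 6), (108, 6), (109,
    2), (110, 6), (112, 6), (116, 5), (116, 6), (117, 6), (118, 2), (119, 6), (121, 2), (125, 6), (126,
    2), (127, 2), (131, 2)], [(0, 0), (0, 1), (0, 2), (0, 3), (0, 4), (0, 5), (0, 6), (1, 1), (1, 3),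
    (1, 5), (1, 6), (2, 0), (2, 2), (2, 3), (2, 4), (2, 5), (2, 6), (3, 1), (3, 3), (3, 5), (3, 6), (4,
    2), (4, 4), (5, 3), (5, 5), (5, 6), (6, 4), (7, 2), (8, 0), (8, 2), (8, 3), (8, 5), (8, 6), (9, 2),
    (9, 4), (10, 4), (11, 2), (12, 2), (12, 3), (12, 4), (12, 5), (12, 6), (13, 1), (13, 3), (13, 4),
    (13, 5), (13, 6), (14, 2), (14, 4), (15, 3), (15, 5), (15, 6), (16, 4), (17, 2), (18, 0), (19, 4),
    (20, 4), (20, 6), (21, 2), (22, 4), (23, 3), (23, 5), (24, 2), (24, 6), (25, 4), (25, 6), (26, 2),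
    (27, 3), (29, 2), (29, 3), (29, 5), (29, 6), (30, 3), (30, 5), (30, 6), (31, 2), (31, 4), (32, 4),
    (34, 1), (34, 4), (34, 6), (35, 5), (36, 3), (37, 3), (38, 1), (38, 4), (38, 5), (39, 2), (39, 4),
    (40, 6), (41, 4), (44, 4), (45, 3), (45, 5), (45, 6), (49, 3), (50, 2), (50, 6), (51, 4), (51, 6),
    (53, 3), (60, 3), (61, 2), (61, 5), (63, 1), (65, 3), (69, 1), (69, 5), (73, 5), (74, 4), (74, 6),
    (85, 4), (85, 5), (86, 3), (93, 2), (93, 5), (97, 1), (97, 6), (107, 5)]]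

/-- Witnesses against the other forms. -/
def witS : List (ℕ × ℕ × ℕ) :=
    [(0, 0, 0), (1, 2, 4), (0, 0, 0), (1, 2, 4)]

end Cfsg.Agent.Co2Recog
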