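import Cfsg.Agent.Lib.Co2Recog.Elt
import Cfsg.Agent.Lib.Co2Recog.ModuleWords

/-!
Orthogonal representations of the symplectic group on 63 points by words in the seven transvections.
-/

set_option autoImplicit false
set_option maxRecDepth 100000

namespace Cfsg.Agent.Co2Recog

open Equiv Cfsg.Agent.PermCert

theorem tv_mod (k : ℕ) : tv (k % 7) = tv k :=
  Equiv.ext fun i => show tvStep (tvC (k % 7)) i = tvStep (tvC k) i by simp only [tvC, Nat.mod_mod]

/-- The image of a point number under a word. -/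
def stepW : List ℕ → Fin 63 → Fin 63
  | [], i => i
  | k :: w, i => tvStep (tvC k) (stepW w i)

theorem stepW_spec : ∀ w i, stepW w i = permW w i
  | [], _ => rfl
  | k :: w, i => by rw [stepW, stepW_spec w i, permW, Perm.mul_apply]; rfl

/-- Two words give the same permutation. -/
def eqW (u w : List ℕ) : Bool := (List.finRange 63).all fun i => stepW u i == stepW w i

theorem eqW_spec {u w : List ℕ} (h : eqW u w = true) : permW u = permW w := Equiv.ext fun i => by
  have := List.all_eq_true.1 h i (List.mem_finRange i)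
  rw [beq_iff_eq, stepW_spec, stepW_spec] at this
  exact this

/-- A word conjugated by another. -/
def cjW (g x : List ℕ) : List ℕ := g ++ x ++ g.reverse

/-- A member of the chain. -/
def chn (i : ℕ) : List ℕ := chainW.getD i []

theorem sep_check : ((List.finRange 63).all fun i => (List.finRange 63).all fun j => i == j ||
    (List.range 7).any fun k => (stepW [k] i == i) != (stepW [k] j == j)) = true := by decide +kernel

/-- The group has trivial centre. -/
theorem eq_one_of_comm {p : Perm (Fin 63)} (h : ∀ k, p * tv k = tv k * p) : p = 1 := by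
  refine Equiv.ext fun i => ?_
  by_contra hne
  have := List.all_eq_true.1 (List.all_eq_true.1 sep_check i (List.mem_finRange i)) (p i) (List.mem_finRange _)
  rw [Bool.or_eq_true, beq_iff_eq, List.any_eq_true] at this
  rcases this with e | ⟨k, -, e⟩
  · exact hne e.symm
  · have hc : tv k (p i) = p (tv k i) := (Equiv.congr_fun (h k) i).symm
    rw [stepW_spec, stepW_spec, show permW [k] = tv k from mul_one _, hc,
      show (p (tv k i) == p i) = (tv k i == i) by
        rw [Bool.eq_iff_iff, beq_iff_eq, beq_iff_eq]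
        exact p.injective.eq_iff] at e
    exact absurd e (by cases (tv k i == i) <;> decide)

/-- An orthogonal representation of the group on an elementary abelian group. -/
structure Rep (V : Type*) [AddCommGroup V] where
  /-- The operators. -/
  R : Perm (Fin 63) → AddMonoid.End V
  mul : ∀ {g h : Perm (Fin 63)}, g ∈ Sp63 → h ∈ Sp63 → R (g * h) = R g * R h
  one : R 1 = 1
  faith : ∀ g ∈ Sp63, R g = 1 → g = 1
  two : ∀ v : V, v + v = 0
  /-- The form. -/
  q : V → Bool
  /-- Its polar form. -/
  B : V → V → Bool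
  qadd : ∀ u v, q (u + v) = ((q u ^^ q v) ^^ B u v)
  Badd : ∀ u v w, B (u + v) w = (B u w ^^ B v w)
  nondeg : ∀ u, (∀ v, B u v = false) → u = 0
  qinv : ∀ g ∈ Sp63, ∀ v, q (R g v) = q v

variable {V : Type*} [AddCommGroup V] (r : Rep V)

namespace Rep

include r

theorem Bsymm (u v : V) : r.B u v = r.B v u := by
  have h := r.qadd u v
  rw [add_comm, r.qadd v u] at h
  revert h
  cases r.q u <;> cases r.q v <;> cases r.B u v <;> cases r.B v u <;> simp

theorem B_zero (v : V) : r.B 0 v = false := by
  have h := r.Badd 0 0 v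
  rw [add_zero, Bool.xor_self] at h
  exact h

theorem q_zero : r.q 0 = false := by
  have h := r.qadd 0 0
  rw [add_zero, r.B_zero] at h
  simpa using h

theorem B_self (v : V) : r.B v v = false := by
  have h := r.qadd v v
  rw [r.two, r.q_zero] at h
  revert h
  cases r.q v <;> cases r.B v v <;> simp

theorem Badd_right (u v w : V) : r.B u (v + w) = (r.B u v ^^ r.B u w) := by
  rw [r.Bsymm, r.Badd, r.Bsymm v, r.Bsymm w]

theorem add_add_cancel (u v : V) : u + (u + v) = v := by rw [← add_assoc, r.two, zero_add]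

theorem eq_of_add {u v : V} (h : u + v = 0) : u = v := by
  calc u = u + (v + v) := by rw [r.two, add_zero]
    _ = v := by rw [← add_assoc, h, zero_add]

/-- The operator of a word. -/
def T (w : List ℕ) : AddMonoid.End V := r.R (permW w)

theorem T_nil : r.T [] = 1 := r.one

theorem T_append (u w : List ℕ) : r.T (u ++ w) = r.T u * r.T w := by
  rw [T, permW_append]; exact r.mul (permW_mem u) (permW_mem w)

theorem T_app (u w : List ℕ) (v : V) : r.T (u ++ w) v = r.T u (r.T w v) :=
  congrArg (fun e : AddMonoid.End V => e v) (r.T_append u w)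

theorem rel {u w : List ℕ} (h : eqW u w = true) : r.T u = r.T w := congrArg r.R (eqW_spec h)

theorem T_rev_left (w : List ℕ) (v : V) : r.T w.reverse (r.T w v) = v := by
  rw [← r.T_app, T, permW_append, permW_reverse, inv_mul_cancel, r.one]; rfl

theorem T_rev_right (w : List ℕ) (v : V) : r.T w (r.T w.reverse v) = v := by
  rw [← r.T_app, T, permW_append, permW_reverse, mul_inv_cancel, r.one]; rfl

theorem T_inj (w : List ℕ) : Function.Injective (r.T w) :=
  fun u v h => by rw [← r.T_rev_left w u, h, r.T_rev_left]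

theorem qT (w : List ℕ) (v : V) : r.q (r.T w v) = r.q v := r.qinv _ (permW_mem w) v

theorem BT (w : List ℕ) (u v : V) : r.B (r.T w u) (r.T w v) = r.B u v := by
  have h := r.qadd (r.T w u) (r.T w v)
  rw [← map_add, r.qT, r.qT, r.qT, r.qadd] at h
  revert h
  cases r.q u <;> cases r.q v <;> cases r.B u v <;> cases r.B (r.T w u) (r.T w v) <;> simp

/-- A word plus one. -/
def N (w : List ℕ) : AddMonoid.End V := r.T w + 1

theorem N_apply (w : List ℕ) (v : V) : r.N w v = r.T w v + v := rfl

theorem T_of_N (w : List ℕ) (v : V) : r.T w v = r.N w v + v := by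
  rw [N_apply, add_assoc, r.two, add_zero]

/-- Fixed points of a word. -/
def fx (w : List ℕ) : AddSubgroup V := (r.N w : V →+ V).ker

/-- Commutators of a word. -/
def mv (w : List ℕ) : AddSubgroup V := (r.N w : V →+ V).range

theorem mem_fx {w : List ℕ} {v : V} : v ∈ r.fx w ↔ r.T w v = v :=
  ⟨fun h => r.eq_of_add h, fun h => by show r.T w v + v = 0; rw [h, r.two]⟩

theorem mem_mv {w : List ℕ} {v : V} : v ∈ r.mv w ↔ ∃ u, r.T w u + u = v := Iff.rfl

theorem card_mul (w : List ℕ) : Nat.card (r.fx w) * Nat.card (r.mv w) = Nat.card V := by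
  rw [AddSubgroup.card_eq_card_quotient_mul_card_addSubgroup (r.fx w), Rep.fx, Rep.mv,
    Nat.card_congr (QuotientAddGroup.quotientKerEquivRange (r.N w : V →+ V)).toEquiv]
  ring

theorem fx_ortho {w : List ℕ} {f m : V} (hf : f ∈ r.fx w) (hm : m ∈ r.mv w) : r.B f m = false := by
  obtain ⟨u, rfl⟩ := r.mem_mv.1 hm
  have : r.B f (r.T w u) = r.B f u := by
    calc r.B f (r.T w u) = r.B (r.T w f) (r.T w u) := by rw [r.mem_fx.1 hf]
      _ = _ := r.BT w f u
  rw [r.Badd_right, this, Bool.xor_self]

theorem T_cj {g x y : List ℕ} (h : eqW (cjW g x) y = true) (v : V) : r.T y (r.T g v) = r.T g (r.T x v) := by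
  rw [← r.rel h, cjW, r.T_app, r.T_app, r.T_rev_left]

theorem map_fx {g x y : List ℕ} (h : eqW (cjW g x) y = true) {v : V} (hv : v ∈ r.fx x) :
    r.T g v ∈ r.fx y := r.mem_fx.2 (by rw [r.T_cj h, r.mem_fx.1 hv])

theorem map_mv {g x y : List ℕ} (h : eqW (cjW g x) y = true) {v : V} (hv : v ∈ r.mv x) :
    r.T g v ∈ r.mv y := by
  obtain ⟨u, rfl⟩ := r.mem_mv.1 hv
  exact r.mem_mv.2 ⟨r.T g u, by rw [r.T_cj h, map_add]⟩

theorem exists_mv {g x y : List ℕ} (h : eqW (cjW g x) y = true) {v : V} (hv : v ∈ r.mv y) :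
    ∃ u ∈ r.mv x, r.T g u = v := by
  obtain ⟨u, rfl⟩ := r.mem_mv.1 hv
  refine ⟨_, r.mem_mv.2 ⟨r.T g.reverse u, rfl⟩, ?_⟩
  rw [map_add, ← r.T_cj h, r.T_rev_right]

theorem exists_fx {g x y : List ℕ} (h : eqW (cjW g x) y = true) {v : V} (hv : v ∈ r.fx y) :
    ∃ u ∈ r.fx x, r.T g u = v := by
  refine ⟨r.T g.reverse v, r.mem_fx.2 (r.T_inj g ?_), r.T_rev_right g v⟩
  rw [← r.T_cj h, r.T_rev_right, r.mem_fx.1 hv]

theorem card_mv [Finite V] {g x y : List ℕ} (h : eqW (cjW g x) y = true) :
    Nat.card (r.mv y) = Nat.card (r.mv x) := by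
  refine (Nat.card_eq_of_bijective (fun u : r.mv x => (⟨r.T g u, r.map_mv h u.2⟩ : r.mv y)) ⟨?_, ?_⟩).symm
  · exact fun u v e => Subtype.ext (r.T_inj g (congrArg Subtype.val e))
  · intro v
    obtain ⟨u, hu, e⟩ := r.exists_mv h v.2
    exact ⟨⟨u, hu⟩, Subtype.ext e⟩

end Rep

end Cfsg.Agent.Co2Recog
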