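import Cfsg.Agent.Lib.Co2Recog.ModuleClifford

/-!
Commutator group of order four: the seven transvections act as reflections, twisted by one further vector.
-/

set_option autoImplicit false
set_option maxRecDepth 100000

namespace Cfsg.Agent.Co2Recog

theorem letter_planes : [0, 1].all (fun k => eqW (cjW g12 (chn k)) [k] && eqW (cjW g13 (chn (k + 3))) [k] &&
    eqW (cjW [k] w2) w2 && eqW (cjW [k] w3) w3) = true ∧
    eqW (cjW [0] w1) w1.reverse = true ∧ eqW (cjW [1] w1) w1.reverse = true ∧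
    eqW (cjW w2 w1) w1 = true ∧ eqW (cjW w3 w1) w1 = true ∧ eqW (cjW w3 w2) w2 = true := by decide +kernel

theorem edge_letters : (List.range 6).all (fun e =>
    let p := [(0, 1), (1, 2), (2, 3), (3, 4), (4, 5), (2, 6)].getD e (0, 0)
    eqW (cjW (edgeW.getD e []) [0]) [p.1] && eqW (cjW (edgeW.getD e []) [1]) [p.2]) = true := by decide +kernel

theorem nonedge_cj : (List.range 7).all (fun a => (List.range 7).all fun b =>
    adj a b || eqW (cjW [a] [b]) [b]) = true := by decide +kernel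

theorem w1_eq : eqW ([0] ++ w1) [1] = true := by decide +kernel

/-- The parent of a node in the diagram. -/
def par (k : ℕ) : ℕ := [0, 0, 1, 2, 3, 4, 2].getD k 0

/-- The word moving the first edge to the edge of a node and its parent. -/
def parW (k : ℕ) : List ℕ := edgeW.getD (k - 1) []

namespace Rep

variable {V : Type*} [AddCommGroup V] (r : Rep V)

/-- The description of a letter. -/
structure Root (k : ℕ) (a u : V) : Prop where
  form : ∀ v, r.T [k] v + v = cond (r.B a v) a 0 + cond (r.B u v) u 0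
  qa : r.q a = true
  orth : r.B a u = false
  qu : u = 0 ∨ r.q u = true
  ne : a + u ≠ 0
  mem : a + u ∈ r.mv [k]

theorem map_eq {x : List ℕ} (hx : eqW (x ++ (x ++ x)) [] = true) {S : AddSubgroup V} (h : r.mv x ≤ S) :
    S.map (r.N x : V →+ V) = r.mv x := by
  refine le_antisymm (fun v ⟨w, _, e⟩ => ⟨w, e⟩) ?_
  rintro _ ⟨w, rfl⟩
  obtain ⟨f, hf, m, hm, rfl⟩ := r.split hx w
  refine ⟨m, h hm, ?_⟩
  show r.T x m + m = r.T x (f + m) + (f + m)
  rw [map_add, r.mem_fx.1 hf]
  calc r.T x m + m = (f + f) + (r.T x m + m) := by rw [r.two, zero_add]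
    _ = _ := by abel

theorem rank_one [Finite V] {k : ℕ} (hk : k < 7) {S : AddSubgroup V} (hc : Nat.card S = 4)
    (hS : ∀ v ∈ S, r.T [k] v ∈ S) (hnd : ∀ v ∈ S, (∀ w ∈ S, r.B v w = false) → v = 0)
    (hne : ∃ v ∈ S, r.T [k] v ≠ v) :
    ∃ a ∈ S, r.q a = true ∧ (∀ v ∈ S, r.T [k] v + v = cond (r.B a v) a 0) ∧
      (∀ v ∈ S, r.B a v = false → v = 0 ∨ v = a) ∧ ∃ m ∈ S, r.B a m = true := by
  obtain ⟨m, hm, hm'⟩ := hne
  set a := r.T [k] m + m with ha
  have hsq : ∀ v, r.T [k] (r.T [k] v) = v := r.T_two (List.all_eq_true.1 letter_sq k (List.mem_range.2 hk))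
  have ha0 : a ≠ 0 := fun e => hm' (r.eq_of_add e)
  let I := S.map (r.N [k] : V →+ V)
  let K := r.fx [k] ⊓ S
  have hIK : I ≤ K := by
    rintro _ ⟨v, hv, rfl⟩
    refine ⟨r.mem_fx.2 ?_, S.add_mem (hS v hv) hv⟩
    show r.T [k] (r.T [k] v + v) = r.T [k] v + v
    rw [map_add, hsq, add_comm]
  have hprod : Nat.card K * Nat.card I = 4 := r.card_split.trans hc
  have hle : Nat.card I ≤ Nat.card K := Nat.card_le_card_of_injective _ (AddSubgroup.inclusion_injective hIK)
  have haI : a ∈ I := ⟨m, hm, rfl⟩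
  have h2 : 1 < Nat.card I := by
    haveI : Nontrivial I := ⟨⟨⟨a, haI⟩, 0, fun e => ha0 (congrArg Subtype.val e)⟩⟩
    exact Finite.one_lt_card
  have hI : Nat.card I = 2 ∧ Nat.card K = 2 := by
    have : Nat.card I ≤ 4 := Nat.le_of_dvd (by omega) (Dvd.intro_left _ hprod)
    interval_cases Nat.card I <;> omega
  obtain ⟨y, hy⟩ := (Nat.card_eq_two_iff' (0 : K)).1 hI.2
  have hKa : ∀ v ∈ K, v = 0 ∨ v = a := fun v hv => by
    by_cases e : v = 0
    · exact Or.inl e
    · exact Or.inr (congrArg Subtype.val ((hy.2 ⟨v, hv⟩ fun h => e (congrArg Subtype.val h)).trans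
        (hy.2 ⟨a, hIK haI⟩ fun h => ha0 (congrArg Subtype.val h)).symm))
  have hK0 : ∀ v ∈ K, r.B a v = false := fun v hv => by
    rw [r.Bsymm]; exact r.fx_ortho hv.1 ⟨m, rfl⟩
  have hN : ∀ v ∈ S, r.T [k] v + v = 0 ∨ r.T [k] v + v = a := fun v hv => hKa _ (hIK ⟨v, hv, rfl⟩)
  have hKv : ∀ v ∈ S, r.T [k] v + v = 0 → v ∈ K := fun v hv e => ⟨e, hv⟩
  have hBm : r.B a m = true := by
    by_contra h
    rw [Bool.not_eq_true] at h
    refine ha0 (hnd a (hIK haI).2 fun w hw => ?_)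
    rcases hN w hw with e | e
    · exact hK0 w (hKv w hw e)
    · have := hK0 (w + m) (hKv _ (S.add_mem hw hm) (by
        rw [map_add]
        calc r.T [k] w + r.T [k] m + (w + m) = (r.T [k] w + w) + (r.T [k] m + m) := by abel
          _ = 0 := by rw [e, ← ha, r.two]))
      rwa [r.Badd_right, h, Bool.xor_false] at this
  have hform : ∀ v ∈ S, r.T [k] v + v = cond (r.B a v) a 0 := fun v hv => by
    rcases hN v hv with e | e
    · rw [e, hK0 v (hKv v hv e)]; rfl
    · have := hK0 (v + m) (hKv _ (S.add_mem hv hm) (by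
        rw [map_add]
        calc r.T [k] v + r.T [k] m + (v + m) = (r.T [k] v + v) + (r.T [k] m + m) := by abel
          _ = 0 := by rw [e, ← ha, r.two]))
      rw [r.Badd_right, hBm] at this
      rw [e, show r.B a v = true by revert this; cases r.B a v <;> simp]; rfl
  refine ⟨a, (hIK haI).2, ?_, hform, fun v hv h => hKa v (hKv v hv ?_), m, hm, hBm⟩
  · have h := r.qT [k] m
    rw [show r.T [k] m = a + m from r.T_of_N [k] m, r.qadd, hBm] at h
    revert h
    cases r.q a <;> cases r.q m <;> simp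
  · rw [hform v hv, h]; rfl

variable {r}

theorem Root.map {g : List ℕ} {j k : ℕ} (hg : eqW (cjW g [j]) [k] = true) {a u : V} (h : r.Root j a u) :
    r.Root k (r.T g a) (r.T g u) where
  form v := by
    obtain ⟨w, rfl⟩ : ∃ w, r.T g w = v := ⟨_, r.T_rev_right g v⟩
    rw [r.T_cj hg, ← map_add, h.form, r.BT, r.BT, map_add]
    cases r.B a w <;> cases r.B u w <;> simp
  qa := (r.qT g a).trans h.qa
  orth := (r.BT g a u).trans h.orth
  qu := h.qu.imp (fun e => by rw [e, map_zero]) fun e => (r.qT g u).trans e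
  ne := fun e => h.ne (r.T_inj g (by rw [map_add, e, map_zero]))
  mem := by rw [← map_add]; exact r.map_mv hg h.mem

theorem Root.a_ne {k : ℕ} {a u : V} (h : r.Root k a u) : a ≠ 0 := fun e => by
  have := h.qa
  rw [e, r.q_zero] at this
  exact Bool.false_ne_true this

theorem Root.indep {k : ℕ} {a u : V} (h : r.Root k a u) {v : V} (hv : r.T [k] v = v) :
    r.B a v = false ∧ r.B u v = false := by
  have h1 := h.form v
  rw [hv, r.two] at h1
  rcases h.qu with rfl | hu
  · rw [r.B_zero] at h1 ⊢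
    refine ⟨?_, rfl⟩
    by_contra e
    rw [Bool.not_eq_false] at e
    rw [e] at h1
    exact h.a_ne (by simpa using h1.symm)
  · have hu0 : u ≠ 0 := fun e => by rw [e, r.q_zero] at hu; exact Bool.false_ne_true hu
    revert h1
    cases r.B a v <;> cases r.B u v <;> simp [h.a_ne.symm, hu0.symm, h.ne.symm]

theorem Root.eq_sum {k : ℕ} {a u : V} (h : r.Root k a u) {x : V} (hx : x ∈ r.mv [k]) (h0 : x ≠ 0)
    (hq : r.q x = r.q (a + u)) : x = a + u := by
  obtain ⟨v, rfl⟩ := r.mem_mv.1 hx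
  rw [h.form] at h0 hq ⊢
  rw [r.qadd a u, h.qa, h.orth] at hq
  revert h0 hq
  rcases h.qu with rfl | hu
  · cases r.B a v <;> simp [r.B_zero]
  · cases r.B a v <;> cases r.B u v <;> simp [hu, h.qa]

variable (r)

/-- **Reflections**: commutator group of order four. -/
theorem roots [Finite V] (hV : Nat.card V = 256) (hK : Nat.card (r.mv w1) = 4) :
    ∃ (a : ℕ → V) (u : V), (u = 0 ∨ r.q u = true) ∧
      (∀ k < 7, r.q (a k) = true ∧ r.B u (a k) = false ∧
        ∀ v, r.T [k] v + v = cond (r.B (a k) v) (a k) 0 + cond (r.B u v) u 0) ∧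
      ∀ k < 7, ∀ l < 7, r.B (a k) (a l) = adj k l := by
  obtain ⟨hw1, hw2, hw3⟩ := w1_facts
  obtain ⟨g12a, g12b, g13a, g13b, g23a, g23b⟩ := plane_facts
  obtain ⟨hlp, hn0, hn1, h21, h31, h32⟩ := letter_planes
  have hlp' : ∀ k < 2, eqW (cjW g12 (chn k)) [k] = true ∧ eqW (cjW g13 (chn (k + 3))) [k] = true ∧
      eqW (cjW [k] w2) w2 = true ∧ eqW (cjW [k] w3) w3 = true := fun k hk => by
    have := List.all_eq_true.1 hlp k (by interval_cases k <;> decide)
    simp only [Bool.and_eq_true] at this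
    exact ⟨this.1.1.1, this.1.1.2, this.1.2, this.2⟩
  have hfix0 : ∀ v ∈ r.mv w1, r.T w1 v = v → v = 0 := fun v hv e => r.fx_mv_zero hw1 (r.mem_fx.2 e) hv
  have hc : ∀ i < 5, eqW (cjW (chn i) w1) w1 = true ∧ eqW (w1 ++ chn i) (chn i ++ w1) = true ∧
      eqW (chn i ++ chn i) [] = true := fun i hi => by
    have := List.all_eq_true.1 chain_facts i (List.mem_range.2 hi)
    simp only [Bool.and_eq_true] at this
    exact ⟨this.1.1, this.1.2, this.2⟩
  have hcfix : ∀ i < 5, ∀ v ∈ r.mv w1, r.T (chn i) v = v := by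
    intro i hi v hv
    by_contra hne
    set a := r.T (chn i) v + v with ha
    have hI : ∀ w ∈ r.mv w1, r.T (chn i) w + w ∈ r.fx (chn i) ⊓ r.mv w1 := fun w hw =>
      ⟨r.mem_fx.2 (by rw [map_add, r.T_two (hc i hi).2.2, add_comm]),
        (r.mv w1).add_mem (r.map_mv (hc i hi).1 hw) hw⟩
    have haK := hI v hv
    let K := r.fx (chn i) ⊓ r.mv w1
    have hprod : Nat.card K * Nat.card ↥((r.mv w1).map (r.N (chn i) : V →+ V)) = 4 := r.card_split.trans hK
    have h3 : Nat.card K % 3 = 1 := r.card_mod_three hw1 (fun w hw =>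
      ⟨r.mem_fx.2 (by rw [← r.T_swap (hc i hi).2.1, r.mem_fx.1 hw.1]),
        (by obtain ⟨t, rfl⟩ := r.mem_mv.1 hw.2; exact r.mem_mv.2 ⟨r.T w1 t, (map_add _ _ _).symm⟩)⟩)
      fun w hw => hfix0 w hw.2
    have hK1 : 1 < Nat.card K := by
      haveI : Nontrivial K := ⟨⟨⟨a, haK⟩, 0, fun e => hne (r.eq_of_add (congrArg Subtype.val e))⟩⟩
      exact Finite.one_lt_card
    have hI1 : 1 < Nat.card ↥((r.mv w1).map (r.N (chn i) : V →+ V)) := by
      haveI : Nontrivial ↥((r.mv w1).map (r.N (chn i) : V →+ V)) :=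
        ⟨⟨⟨a, v, hv, rfl⟩, 0, fun e => hne (r.eq_of_add (congrArg Subtype.val e))⟩⟩
      exact Finite.one_lt_card
    have : Nat.card K ≤ 4 := Nat.le_of_dvd (by omega) (Dvd.intro _ hprod)
    interval_cases Nat.card K <;> omega
  have h12 : r.mv w1 ≤ r.fx w2 := fun v hv => r.mem_fx.2 (by
    rw [w2, r.T_app, hcfix 1 (by omega) v hv, hcfix 0 (by omega) v hv])
  have h13 : r.mv w1 ≤ r.fx w3 := fun v hv => r.mem_fx.2 (by
    rw [w3, r.T_app, hcfix 4 (by omega) v hv, hcfix 3 (by omega) v hv])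
  have hM2 : r.mv w2 ≤ r.fx w1 ⊓ r.fx w3 := fun v hv =>
    ⟨by obtain ⟨w, hw, rfl⟩ := r.exists_mv g12a hv; exact r.map_fx g12b (h12 hw),
      by obtain ⟨w, hw, rfl⟩ := r.exists_mv g23b hv; exact r.map_fx g23a (h12 hw)⟩
  have hM3 : r.mv w3 ≤ r.fx w1 ⊓ r.fx w2 := fun v hv =>
    ⟨by obtain ⟨w, hw, rfl⟩ := r.exists_mv g13a hv; exact r.map_fx g13b (h13 hw),
      by obtain ⟨w, hw, rfl⟩ := r.exists_mv g23a hv; exact r.map_fx g23b (hM2 hw).1⟩
  let U := r.fx w3 ⊓ (r.fx w2 ⊓ r.fx w1)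
  have hcU : Nat.card U = 4 := by
    have c1 := r.card_mul w1
    have c2 := r.card_split (S := r.fx w1) (x := w2)
    have c3 := r.card_split (S := r.fx w2 ⊓ r.fx w1) (x := w3)
    rw [r.map_eq hw2 (fun v hv => (hM2 hv).1), r.card_mv g12a, hK] at c2
    rw [r.map_eq hw3 (S := r.fx w2 ⊓ r.fx w1) (fun v hv => ⟨(hM3 hv).2, (hM3 hv).1⟩), r.card_mv g13a, hK] at c3
    rw [hK, hV] at c1
    show Nat.card ↥(r.fx w3 ⊓ (r.fx w2 ⊓ r.fx w1)) = 4
    omega
  have hdec : ∀ v, ∃ m1 ∈ r.mv w1, ∃ m2 ∈ r.mv w2, ∃ m3 ∈ r.mv w3, ∃ x ∈ U, v = m1 + (m2 + (m3 + x)) := by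
    intro v
    obtain ⟨f, hf, m1, hm1, rfl⟩ := r.split hw1 v
    obtain ⟨f2, hf2, m2, hm2, rfl⟩ := r.split hw2 f
    obtain ⟨f3, hf3, m3, hm3, rfl⟩ := r.split hw3 f2
    have h1 : f3 + m3 ∈ r.fx w1 := by
      have := (r.fx w1).sub_mem hf (hM2 hm2).1
      rwa [add_sub_cancel_right] at this
    refine ⟨m1, hm1, m2, hm2, m3, hm3, f3, ⟨hf3, ?_, ?_⟩, by abel⟩
    · have := (r.fx w2).sub_mem hf2 (hM3 hm3).2
      rwa [add_sub_cancel_right] at this
    · have := (r.fx w1).sub_mem h1 (hM3 hm3).1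
      rwa [add_sub_cancel_right] at this
  have o12 : ∀ {p q}, p ∈ r.mv w1 → q ∈ r.mv w2 → r.B p q = false := fun hp hq => r.fx_ortho (h12 hp) hq
  have o13 : ∀ {p q}, p ∈ r.mv w1 → q ∈ r.mv w3 → r.B p q = false := fun hp hq => r.fx_ortho (h13 hp) hq
  have o1U : ∀ {p x}, p ∈ r.mv w1 → x ∈ U → r.B p x = false := fun hp hx => by
    rw [r.Bsymm]; exact r.fx_ortho hx.2.2 hp
  have oU : ∀ {p x j}, x ∈ U → (j = w2 ∨ j = w3) → p ∈ r.mv j → r.B x p = false := fun hx hj hp => by
    rcases hj with rfl | rfl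
    · exact r.fx_ortho hx.2.1 hp
    · exact r.fx_ortho hx.1 hp
  have nd1 : ∀ v ∈ r.mv w1, (∀ w ∈ r.mv w1, r.B v w = false) → v = 0 := fun v hv h => r.nondeg v fun w => by
    obtain ⟨m1, h1, m2, h2, m3, h3, x, hx, rfl⟩ := hdec w
    rw [r.Badd_right, r.Badd_right, r.Badd_right, h m1 h1, o12 hv h2, o13 hv h3, o1U hv hx]; rfl
  have ndU : ∀ v ∈ U, (∀ w ∈ U, r.B v w = false) → v = 0 := fun v hv h => r.nondeg v fun w => by
    obtain ⟨m1, h1, m2, h2, m3, h3, x, hx, rfl⟩ := hdec w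
    rw [r.Badd_right, r.Badd_right, r.Badd_right, h x hx, r.Bsymm v m1, o1U h1 hv, oU hv (Or.inl rfl) h2,
      oU hv (Or.inr rfl) h3]; rfl
  have hS1 : ∀ k < 2, ∀ v ∈ r.mv w1, r.T [k] v ∈ r.mv w1 := fun k hk v hv => by
    rw [← r.mv_reverse]
    interval_cases k
    exacts [r.map_mv hn0 hv, r.map_mv hn1 hv]
  have hSU : ∀ k < 2, ∀ v ∈ U, r.T [k] v ∈ U := fun k hk v hv => by
    refine ⟨r.map_fx (hlp' k hk).2.2.2 hv.1, r.map_fx (hlp' k hk).2.2.1 hv.2.1, ?_⟩
    show r.T [k] v ∈ r.fx w1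
    rw [← r.fx_reverse]
    interval_cases k
    exacts [r.map_fx hn0 hv.2.2, r.map_fx hn1 hv.2.2]
  have hw : ∀ v, r.T [1] v = r.T [0] (r.T w1 v) := fun v => by rw [← r.T_app, r.rel w1_eq]
  have hsq0 : ∀ v, r.T [0] (r.T [0] v) = v := r.T_two (List.all_eq_true.1 letter_sq 0 (by decide))
  have hsq1 : ∀ v, r.T [1] (r.T [1] v) = v := r.T_two (List.all_eq_true.1 letter_sq 1 (by decide))
  have hw01 : ∀ v, r.T w1 v = r.T [0] (r.T [1] v) := fun v => by rw [hw, hsq0]
  obtain ⟨p, hp, hp0⟩ : ∃ p ∈ r.mv w1, p ≠ 0 := by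
    by_contra! h
    rw [(AddSubgroup.eq_bot_iff_forall _).2 h, AddSubgroup.card_bot] at hK
    omega
  have hne : ∀ k < 2, ∃ v ∈ r.mv w1, r.T [k] v ≠ v := by
    intro k hk
    by_contra! h
    refine hp0 (hfix0 p hp ?_)
    have h1 : r.T w1 (r.T w1 p) = p := by
      rw [hw01, hw01]
      interval_cases k
      · rw [h _ (hS1 1 (by omega) p hp), h _ (hS1 1 (by omega) _ (hS1 1 (by omega) p hp)), hsq1]
      · rw [h p hp, h _ (hS1 0 (by omega) p hp), hsq0]
    have h2 := congrArg (r.T w1) h1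
    rw [r.T_three hw1] at h2
    exact h2.symm
  obtain ⟨a, ha, hqa, hfa, hka, m, hm, hBm⟩ := r.rank_one (k := 0) (by omega) hK (hS1 0 (by omega)) nd1 (hne 0 (by omega))
  obtain ⟨b, hb, hqb, hfb, hkb, m', hm', hBm'⟩ := r.rank_one (k := 1) (by omega) hK (hS1 1 (by omega)) nd1 (hne 1 (by omega))
  obtain ⟨u, hu, hqu, hfu, huw⟩ : ∃ u ∈ U, (u = 0 ∨ r.q u = true) ∧
      (∀ v ∈ U, r.T [0] v + v = cond (r.B u v) u 0) ∧ (u = 0 ∨ ∃ x ∈ U, r.B u x = true) := by
    by_cases h : ∃ v ∈ U, r.T [0] v ≠ v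
    · obtain ⟨u, hu, hq, hf, -, x, hx, hBx⟩ := r.rank_one (k := 0) (by omega) hcU (hSU 0 (by omega)) ndU h
      exact ⟨u, hu, Or.inr hq, hf, Or.inr ⟨x, hx, hBx⟩⟩
    · push Not at h
      exact ⟨0, zero_mem _, Or.inl rfl, fun v hv => by rw [h v hv, r.two, r.B_zero]; rfl, Or.inl rfl⟩
  have hzero : ∀ k < 2, ∀ v, (v ∈ r.mv w2 ∨ v ∈ r.mv w3) → r.T [k] v = v := by
    rintro k hk v (hv | hv)
    · obtain ⟨w, hw', rfl⟩ := r.exists_mv g12a hv
      rw [r.T_cj (hlp' k hk).1, hcfix k (by omega) w hw']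
    · obtain ⟨w, hw', rfl⟩ := r.exists_mv g13a hv
      rw [r.T_cj (hlp' k hk).2.1, hcfix (k + 3) (by omega) w hw']
  have mk : ∀ k < 2, ∀ c ∈ r.mv w1, r.q c = true → (∀ v ∈ r.mv w1, r.T [k] v + v = cond (r.B c v) c 0) →
      (∃ t ∈ r.mv w1, r.B c t = true) → r.Root k c u := by
    intro k hk c hc1 hqc hfc ⟨t, ht, hBt⟩
    have hform : ∀ v, r.T [k] v + v = cond (r.B c v) c 0 + cond (r.B u v) u 0 := by
      intro v
      obtain ⟨m1, h1, m2, h2, m3, h3, x, hx, rfl⟩ := hdec v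
      have hx' : r.T [k] x + x = cond (r.B u x) u 0 := by
        interval_cases k
        · exact hfu x hx
        · rw [hw, r.mem_fx.1 hx.2.2]; exact hfu x hx
      rw [r.Badd_right, r.Badd_right, r.Badd_right, o12 hc1 h2, o13 hc1 h3, o1U hc1 hx, r.Badd_right,
        r.Badd_right, r.Badd_right, r.Bsymm u m1, o1U h1 hu, oU hu (Or.inl rfl) h2, oU hu (Or.inr rfl) h3,
        map_add, map_add, map_add, hzero k hk m2 (Or.inl h2), hzero k hk m3 (Or.inr h3)]
      simp only [Bool.xor_false, Bool.false_xor]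
      rw [← hfc m1 h1, ← hx']
      calc _ = (r.T [k] m1 + m1) + (r.T [k] x + x) + ((m2 + m2) + (m3 + m3)) := by abel
        _ = _ := by rw [r.two, r.two, add_zero, add_zero]
    refine ⟨hform, hqc, o1U hc1 hu, hqu, fun e => ?_, ?_⟩
    · have h : c = u := r.eq_of_add e
      have : c = 0 := r.fx_mv_zero hw1 (h ▸ hu.2.2) hc1
      rw [this, r.q_zero] at hqc
      exact Bool.false_ne_true hqc
    · rcases huw with e | ⟨x, hx, hBx⟩
      · refine r.mem_mv.2 ⟨t, ?_⟩
        rw [hform, hBt, e, r.B_zero]; rfl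
      · refine r.mem_mv.2 ⟨t + x, ?_⟩
        rw [hform, r.Badd_right, hBt, o1U hc1 hx, r.Badd_right, hBx, r.Bsymm u t, o1U ht hu]; rfl
  have R0 : r.Root 0 a u := mk 0 (by omega) a ha hqa hfa ⟨m, hm, hBm⟩
  have R1 : r.Root 1 b u := mk 1 (by omega) b hb hqb hfb ⟨m', hm', hBm'⟩
  have hab : r.B a b = true := by
    by_contra h
    rw [Bool.not_eq_true] at h
    rcases hka b hb h with e | e
    · rw [e, r.q_zero] at hqb
      exact Bool.false_ne_true hqb
    · have hTT : ∀ v, r.T [1] v = r.T [0] v := fun v => by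
        rw [r.T_of_N [1] v, r.T_of_N [0] v, r.N_apply, r.N_apply, R1.form, R0.form, e]
      exact hp0 (hfix0 p hp (by rw [hw01, hTT, hsq0]))
  let A : ℕ → V := fun k => if k = 0 then a else r.T (parW k) b
  let W : ℕ → V := fun k => if k = 0 then u else r.T (parW k) u
  have hel : ∀ k, 1 ≤ k → k < 7 → eqW (cjW (parW k) [0]) [par k] = true ∧
      eqW (cjW (parW k) [1]) [k] = true := by
    intro k h1 h7
    have := List.all_eq_true.1 edge_letters (k - 1) (List.mem_range.2 (by omega))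
    simp only [Bool.and_eq_true] at this
    have e : [(0, 1), (1, 2), (2, 3), (3, 4), (4, 5), (2, 6)].getD (k - 1) (0, 0) = (par k, k) := by
      interval_cases k <;> rfl
    rw [e] at this
    exact this
  have hR : ∀ k < 7, r.Root k (A k) (W k) := by
    intro k hk
    rcases Nat.eq_zero_or_pos k with rfl | h1
    · exact R0
    · simp only [A, W, if_neg h1.ne']
      exact R1.map (hel k h1 hk).2
  let s : ℕ → V := fun k => A k + W k
  have hqs : ∀ k < 7, r.q (s k) = r.q (a + u) := by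
    intro k hk
    rcases Nat.eq_zero_or_pos k with rfl | h1
    · rfl
    · simp only [s, A, W, if_neg h1.ne', ← map_add, r.qT, r.qadd, hqa, hqb, o1U ha hu, o1U hb hu]
  have hmap : ∀ g j k, j < 7 → k < 7 → eqW (cjW g [j]) [k] = true → r.T g (s j) = s k := by
    intro g j k hj hk hg
    refine (hR k hk).eq_sum (r.map_mv hg (hR j hj).mem) (fun e => (hR j hj).ne (r.T_inj g ?_)) ?_
    · rw [map_zero]; exact e
    · rw [r.qT]; exact (hqs j hj).trans (hqs k hk).symm
  have hcomm : ∀ k < 7, ∀ l < 7, adj k l = false → r.B (A k) (s l) = false ∧ r.B (W k) (s l) = false := by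
    intro k hk l hl h
    have hc := List.all_eq_true.1 (List.all_eq_true.1 nonedge_cj k (List.mem_range.2 hk)) l (List.mem_range.2 hl)
    rw [h, Bool.false_or] at hc
    exact (hR k hk).indep (hmap [k] l l hl hl hc)
  have hBs : ∀ k < 7, ∀ l < 7, r.B (s k) (s l) = adj k l := by
    intro k hk l hl
    cases h : adj k l
    · rw [r.Badd, (hcomm k hk l hl h).1, (hcomm k hk l hl h).2]; rfl
    · obtain ⟨e, he, hp'⟩ := adj_edge k hk l hl h
      have hel' := List.all_eq_true.1 edge_letters e (List.mem_range.2 he)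
      simp only [Bool.and_eq_true] at hel'
      have h01 : r.B (s 0) (s 1) = true := by
        show r.B (a + u) (r.T (parW 1) b + r.T (parW 1) u) = true
        simp only [show parW 1 = [] from rfl, r.T_nil, show ∀ v : V, (1 : AddMonoid.End V) v = v from fun _ => rfl,
          r.Badd, r.Badd_right, hab, o1U ha hu, r.Bsymm u b, o1U hb hu, r.B_self]
        rfl
      rcases hp' with hp' | hp' <;> simp only [hp'] at hel'
      · rw [← hmap _ 0 k (by omega) hk hel'.1, ← hmap _ 1 l (by omega) hl hel'.2, r.BT, h01]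
      · rw [r.Bsymm, ← hmap _ 0 l (by omega) hl hel'.1, ← hmap _ 1 k (by omega) hk hel'.2, r.BT, h01]
  have hus : ∀ l < 7, r.B u (s l) = false := by
    intro l hl
    cases h : adj 0 l
    · exact (hcomm 0 (by omega) l hl h).2
    · obtain rfl : l = 1 := (show ∀ l < 7, adj 0 l = true → l = 1 by decide) l hl h
      show r.B u (r.T (parW 1) b + r.T (parW 1) u) = false
      simp only [show parW 1 = [] from rfl, r.T_nil, show ∀ v : V, (1 : AddMonoid.End V) v = v from fun _ => rfl,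
        r.Badd_right, r.Bsymm u b, o1U hb hu, r.B_self]
      rfl
  have huid : u = s 0 + s 1 + r.T [0] (s 1) := by
    show u = a + u + (r.T (parW 1) b + r.T (parW 1) u) + r.T [0] (r.T (parW 1) b + r.T (parW 1) u)
    simp only [show parW 1 = [] from rfl, r.T_nil, show ∀ v : V, (1 : AddMonoid.End V) v = v from fun _ => rfl]
    rw [r.T_of_N [0] (b + u), r.N_apply, R0.form, r.Badd_right, r.Badd_right, hab, o1U ha hu, r.Bsymm u b,
      o1U hb hu, r.B_self]
    simp only [Bool.xor_false, cond_true, cond_false, add_zero]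
    calc u = (a + a) + (b + u + (b + u)) + u := by rw [r.two, r.two, zero_add, zero_add]
      _ = _ := by abel
  have hfix : ∀ k < 7, r.T [k] u = u ∧ r.B u (A k) = false := by
    intro k
    induction k using Nat.strong_induction_on with
    | _ k ih =>
      intro hk
      suffices h : r.B u (W k) = false by
        have hA : r.B u (A k) = false := by
          have h1 := hus k hk
          rw [show s k = A k + W k from rfl, r.Badd_right, h, Bool.xor_false] at h1
          exact h1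
        refine ⟨r.eq_of_add ?_, hA⟩
        rw [(hR k hk).form, r.Bsymm, hA, r.Bsymm, h]
        simp
      rcases Nat.eq_zero_or_pos k with rfl | h1
      · exact r.B_self u
      · have hpar : par k < k := (show ∀ k < 7, 1 ≤ k → par k < k by decide) k hk h1
        have hW : W k = s (par k) + s k + r.T [par k] (s k) := by
          have hg := hel k h1 hk
          show (if k = 0 then u else r.T (parW k) u) = _
          rw [if_neg h1.ne']
          conv_lhs => rw [huid]
          rw [map_add, map_add, ← r.T_cj hg.1, hmap _ 0 _ (by omega) (by omega) hg.1,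
            hmap _ 1 k (by omega) hk hg.2]
        rw [hW, r.Badd_right, r.Badd_right, hus _ (by omega), hus k hk]
        have h2 := r.BT [par k] u (s k)
        rw [(ih _ hpar (by omega)).1, hus k hk] at h2
        rw [h2]; rfl
  have hwfix : ∀ w : List ℕ, (∀ i ∈ w, i < 7) → r.T w u = u := by
    intro w hw
    induction w with
    | nil => rw [r.T_nil]; rfl
    | cons i w ih =>
      rw [show i :: w = [i] ++ w from rfl, r.T_app, ih fun j hj => hw j (List.mem_cons_of_mem _ hj),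
        (hfix i (hw i List.mem_cons_self)).1]
  have hW : ∀ k < 7, W k = u := fun k hk => by
    rcases Nat.eq_zero_or_pos k with rfl | h1
    · rfl
    · show (if k = 0 then u else r.T (parW k) u) = u
      rw [if_neg h1.ne', hwfix _ ((show ∀ k < 7, ∀ i ∈ parW k, i < 7 by decide) k hk)]
  refine ⟨A, u, hqu, fun k hk => ⟨(hR k hk).qa, (hfix k hk).2, fun v => ?_⟩, fun k hk l hl => ?_⟩
  · rw [(hR k hk).form, hW k hk]
  · have h := hBs k hk l hl
    simp only [s, hW k hk, hW l hl, r.Badd, r.Badd_right, r.Bsymm (A k) u, (hfix k hk).2, (hfix l hl).2,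
      r.B_self, Bool.xor_false, Bool.false_xor] at h
    exact h

end Rep

end Cfsg.Agent.Co2Recog
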