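import Cfsg.Agent.Lib.Co2Recog.Base
import Cfsg.Agent.Lib.Co2Recog.ChecksSpin
import Cfsg.Agent.Lib.Co2Recog.ChecksNF

/-!
In the setting of the recognition of the second Conway group, `t` is conjugate to no other element of `Q`: two
such conjugates would give centralisers meeting in a group whose image in the symplectic group is too small.
-/

set_option autoImplicit false
set_option maxRecDepth 100000
set_option linter.unusedSectionVars false

namespace Cfsg.Agent.Co2Recog

namespace NotFused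

open Equiv Two
open NA.Setup (na_sq na_ne na_comm na_mem)
open Cfsg.Agent.ThRec.Eight (ap ap_xor ap_zero ap_map ap_lt mulM)

variable {G : Type*} [Group G] {t : G} {Q : Subgroup G}

/-! ### The module -/

theorem ap8_lt (w : List ℕ) (v : ℕ) : ap (eW w).2 v < 256 :=
  ap_lt (n := 8) (eW_lt w).2 v

theorem ap6_lt (w : List ℕ) (v : ℕ) : ap (eW w).1 v < 64 :=
  ap_lt (n := 6) (eW_lt w).1 v

theorem ap8_append (u w : List ℕ) (v : ℕ) : ap (eW (u ++ w)).2 v = ap (eW u).2 (ap (eW w).2 v) := by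
  rw [eW_append]
  exact ThRec.Eight.ap_mulM _ _ v

theorem ap8_nil {v : ℕ} (hv : v < 256) : ap (eW []).2 v = v := ThRec.Eight.ap_idM hv

theorem reach_spec : ∀ (n : ℕ) (L : List ℕ), (∀ v ∈ L, ∃ w, v = ap (eW w).2 c0) →
    ∀ v ∈ reachV n L, ∃ w, v = ap (eW w).2 c0
  | 0, _, h => h
  | n + 1, L, h => reach_spec n _ (by
      have inner : ∀ (k : ℕ) (M acc : List ℕ), (∀ v ∈ M, ∃ w, v = ap (eW w).2 c0) →
          (∀ v ∈ acc, ∃ w, v = ap (eW w).2 c0) → ∀ v ∈ M.foldl (fun acc v =>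
            bif memN acc (ap (eGen k).2 v) then acc else ap (eGen k).2 v :: acc) acc,
            ∃ w, v = ap (eW w).2 c0 := by
        intro k M
        induction M with
        | nil => intro acc _ ha; exact ha
        | cons a M ih =>
          intro acc hM ha
          refine ih _ (fun v hv => hM v (List.mem_cons_of_mem _ hv)) fun v hv => ?_
          cases hb : memN acc (ap (eGen k).2 a) with
          | true => simp only [hb, cond_true] at hv; exact ha v hv
          | false =>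
            simp only [hb, cond_false] at hv
            rcases List.mem_cons.1 hv with rfl | hv
            · obtain ⟨w, hw⟩ := hM a List.mem_cons_self
              refine ⟨k :: w, ?_⟩
              rw [hw]
              exact (ThRec.Eight.ap_mulM _ _ _).symm
            · exact ha v hv
      have outer : ∀ (K acc : List ℕ), (∀ v ∈ acc, ∃ w, v = ap (eW w).2 c0) → ∀ v ∈ K.foldl (fun acc k =>
          L.foldl (fun acc v => bif memN acc (ap (eGen k).2 v) then acc else ap (eGen k).2 v :: acc) acc) acc,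
          ∃ w, v = ap (eW w).2 c0 := by
        intro K
        induction K with
        | nil => intro acc ha; exact ha
        | cons k K ih => intro acc ha; exact ih _ (inner k L acc h ha)
      exact outer (List.range 7) L h)

theorem sing_orbit {v : ℕ} (hv : v < 256) (h0 : v ≠ 0) (hq : qv v = false) : ∃ w, v = ap (eW w).2 c0 := by
  refine reach_spec 12 [c0] (fun u hu => ⟨[], ?_⟩) v (memN_iff.1 (List.all_eq_true.1 reach_c0 v ?_))
  · rw [List.mem_singleton.1 hu, ap8_nil c0_ok.2.1]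
  · rw [sing, List.mem_filter]
    refine ⟨List.mem_range.2 hv, ?_⟩
    have hb : Nat.beq v 0 = false := by
      cases h : Nat.beq v 0
      · rfl
      · exact absurd (Nat.eq_of_beq_eq_true h) h0
    rw [hb, hq]; rfl

theorem exists_Bv {u : ℕ} (hu : u < 256) (h0 : u ≠ 0) : ∃ v < 256, Bv u v = true := by
  have h := List.all_eq_true.1 B_nondeg u (List.mem_range.2 hu)
  rw [Bool.or_eq_true, List.any_eq_true] at h
  rcases h with h | ⟨v, hv, h⟩
  · exact absurd (Nat.eq_of_beq_eq_true h) h0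
  · exact ⟨v, List.mem_range.1 hv, h⟩

theorem syl_fix_c0 {w : List ℕ} (hw : w ∈ sylW) : ap (eW w).2 c0 = c0 := by
  have main : ∀ gs L, (∀ g ∈ gs, g ∈ sylGens) → (∀ x ∈ L, ap (eW x).2 c0 = c0) →
      ∀ x ∈ double gs L, ap (eW x).2 c0 = c0 := by
    intro gs
    induction gs with
    | nil => intro L _ hL; exact hL
    | cons g gs ih =>
      intro L hg hL
      refine ih _ (fun a ha => hg a (List.mem_cons_of_mem _ ha)) fun x hx => ?_
      rcases List.mem_append.1 hx with hx | hx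
      · exact hL x hx
      · obtain ⟨y, hy, rfl⟩ := List.mem_map.1 hx
        rw [ap8_append, hL y hy]
        exact Nat.eq_of_beq_eq_true (List.all_eq_true.1 syl_fix g (hg g List.mem_cons_self))
  exact main sylGens [[]] (fun _ h => h) (fun x hx => by
    rw [List.mem_singleton.1 hx, ap8_nil c0_ok.2.1]) w hw

/-! ### Elements commuting with the word of order seven -/

theorem apply_comm {u w : List ℕ} (h : permW u * permW w = permW w * permW u) {v : ℕ} (hv : v < 64) :
    ap (eW u).1 (ap (eW w).1 v) = ap (eW w).1 (ap (eW u).1 v) := by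
  rcases Nat.eq_zero_or_pos v with rfl | h0
  · simp only [ap_zero]
  · have e1 := permW_apply (u ++ w) ⟨v - 1, by omega⟩
    have e2 := permW_apply (w ++ u) ⟨v - 1, by omega⟩
    rw [permW_append, h, ← permW_append, e2, eW_append, eW_append] at e1
    simp only [show v - 1 + 1 = v by omega] at e1
    rw [← ThRec.Eight.ap_mulM, ← ThRec.Eight.ap_mulM]
    exact e1.symm

theorem pow7_map {A : List ℕ} (hA : ∀ v < 64, ap A (ap (eW w7).1 v) = ap (eW w7).1 (ap A v)) :
    ∀ (n u : ℕ), u < 64 → (pow7 u n).map (ap A) = pow7 (ap A u) n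
  | 0, _, _ => rfl
  | n + 1, u, hu => by
    rw [pow7, pow7, List.map_cons, pow7_map hA n _ (ap6_lt _ _), hA u hu]

theorem eq_one_of_comm {p : Perm (Fin 63)} (hp : p ∈ Sp63) (hc : p * permW w7 = permW w7 * p)
    (h2 : p * p = 1) : p = 1 := by
  obtain ⟨u, rfl⟩ := exists_word hp
  have hA := fun v hv => apply_comm hc (v := v) hv
  have hv7 : v7 < 64 := by decide
  have hid : (eW u).1 = id6.map (ap (eW u).1) := by
    refine List.ext_getElem (by rw [eW_length, List.length_map]; rfl) fun j hj hj' => ?_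
    have hj6 : j < 6 := eW_length u ▸ hj
    rw [List.getElem_map, show id6[j]'(by simpa using hj') = 2 ^ j by
      have : ∀ j : Fin 6, id6[(j : ℕ)]'(j.2) = 2 ^ (j : ℕ) := by decide
      exact this ⟨j, hj6⟩, ap_unit, List.getD_eq_getElem _ _ hj]
  have hcom : (eW u).1 = com7 (ap (eW u).1 v7) := by
    rw [hid]
    conv_lhs => rw [← um_ok]
    rw [com7, com7, List.map_map, ← hid, ← pow7_map hA 6 v7 hv7]
    refine List.map_congr_left fun m _ => ?_
    exact (ap_map (ap_zero _) (ap_xor _) _ _).symm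
  have h := List.all_eq_true.1 com7_ok _ (List.mem_range.2 (ap6_lt u v7))
  rw [← hcom] at h
  rw [← permW_append, permW_eq_one_iff, eW_append] at h2
  have h2' : key6 (mulM (eW u).1 (eW u).1) = key6 id6 := h2
  rw [h2', Nat.beq_refl, Bool.not_true, Bool.false_or] at h
  exact permW_eq_one_iff.2 (Nat.eq_of_beq_eq_true h)

theorem order7 : orderOf (permW w7) = 7 := by
  haveI : Fact (Nat.Prime 7) := ⟨by norm_num⟩
  refine orderOf_eq_prime ?_ fun h => w7_ok.2.2 (permW_eq_one_iff.1 h)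
  have h := permW_eq_one_iff.2 w7_ok.2.1
  simp only [permW_append] at h
  simpa only [pow_succ, pow_zero, one_mul] using h

theorem exists_conj7 {r : Perm (Fin 63)} (hr : r ∈ Sp63) (ho : orderOf r = 7) :
    ∃ m ∈ Sp63, permW w7 ∈ (Subgroup.zpowers r).map (MulAut.conj m).toMonoidHom := by
  haveI : Fact (Nat.Prime 7) := ⟨by norm_num⟩
  have hfac : Nat.factorization (Nat.card Sp63) 7 = 1 := by
    rw [card_Sp63, show (1451520 : ℕ) = 7 * 207360 by norm_num,
      Nat.factorization_mul (by norm_num) (by norm_num)]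
    simp [Nat.factorization_eq_zero_of_not_dvd (show ¬ 7 ∣ 207360 by norm_num),
      Nat.Prime.factorization_self (show Nat.Prime 7 by norm_num)]
  let A : ↥Sp63 := ⟨r, hr⟩
  let B : ↥Sp63 := ⟨permW w7, permW_mem w7⟩
  have hA : Nat.card (Subgroup.zpowers A) = 7 ^ Nat.factorization (Nat.card Sp63) 7 := by
    rw [hfac, Nat.card_zpowers, pow_one, ← Subgroup.orderOf_coe]; exact ho
  have hB : Nat.card (Subgroup.zpowers B) = 7 ^ Nat.factorization (Nat.card Sp63) 7 := by
    rw [hfac, Nat.card_zpowers, pow_one, ← Subgroup.orderOf_coe]; exact order7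
  obtain ⟨m, hm⟩ := MulAction.exists_smul_eq ↥Sp63 (Sylow.ofCard (Subgroup.zpowers A) hA)
    (Sylow.ofCard (Subgroup.zpowers B) hB)
  have hB' : B ∈ ((m • Sylow.ofCard (Subgroup.zpowers A) hA : Sylow 7 ↥Sp63) : Subgroup ↥Sp63) := by
    rw [hm, Sylow.coe_ofCard]; exact Subgroup.mem_zpowers B
  rw [Sylow.coe_subgroup_smul, Sylow.coe_ofCard] at hB'
  obtain ⟨a, ha, e⟩ := Subgroup.mem_smul_pointwise_iff_exists _ _ _ |>.1 hB'
  obtain ⟨i, rfl⟩ := Subgroup.mem_zpowers_iff.1 ha
  refine ⟨m, m.2, r ^ i, Subgroup.zpow_mem_zpowers r i, ?_⟩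
  have := congrArg Subtype.val e
  simpa [A, B, MulAut.conj_apply] using this

/-! ### Fusion -/

variable (S : Setup t Q) (K : Coords t Q)

include S in
theorem na_tC : t ∈ Subgroup.centralizer ({t} : Set G) := S.le (na_mem S)

include S K in
theorem Q_cases {q : G} (hq : q ∈ Q) (h : K.c q = 0) : q = 1 ∨ q = t := (K.c_ker q hq).1 h

include S K in
theorem sq_cases {q : G} (hq : q ∈ Q) : q * q = 1 ∨ q * q = t := by
  rw [K.sq q hq]; cases qv (K.c q) <;> simp [tw]

include S K in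
theorem pow4 {q : G} (hq : q ∈ Q) : q ^ 4 = 1 := by
  rw [show 4 = 2 * 2 from rfl, pow_mul, pow_two, pow_two]
  rcases sq_cases S K hq with h | h <;> rw [h]
  · exact one_mul 1
  · exact na_sq S

include S K in
/-- A conjugate with the standard coordinate. -/
theorem exists_std {g : G} (hg : g * t * g⁻¹ ∈ Q) (hne : g * t * g⁻¹ ≠ t) :
    ∃ h : G, h * t * h⁻¹ ∈ Q ∧ K.c (h * t * h⁻¹) = c0 := by
  set c := g * t * g⁻¹ with hc
  have hc1 : c ≠ 1 := fun e => na_ne S (by simpa [hc] using e)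
  have hsq : c * c = 1 := by
    rw [hc, show g * t * g⁻¹ * (g * t * g⁻¹) = g * (t * t) * g⁻¹ by group, na_sq S, mul_one, mul_inv_cancel]
  have hq : qv (K.c c) = false := by
    have h := K.sq c hg
    rw [hsq] at h
    cases hb : qv (K.c c)
    · rfl
    · rw [hb] at h; exact absurd h.symm (na_ne S)
  obtain ⟨w, hw⟩ := sing_orbit (K.c_lt c hg) (fun e => (Q_cases S K hg e).elim hc1 hne) hq
  obtain ⟨⟨x, hx⟩, hxw⟩ := exists_lift K w
  obtain ⟨q, hqQ, hcq⟩ := K.c_surj c0 c0_ok.2.1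
  have hcx : K.c (x * q * x⁻¹) = K.c c := by rw [c_conj K hx hxw.symm hqQ, hcq, hw]
  obtain ⟨b, hb⟩ := NA.Coord.eq_of_c S K hg (S.norm x hx q hqQ) hcx.symm
  have htx : x⁻¹ * tw t b = tw t b * x⁻¹ :=
    NA.Setup.tw_comm S (mem_C.1 (Subgroup.inv_mem _ hx)) b
  have e : x⁻¹ * g * t * (x⁻¹ * g)⁻¹ = q * tw t b := by
    calc x⁻¹ * g * t * (x⁻¹ * g)⁻¹ = x⁻¹ * (g * t * g⁻¹) * x := by group
      _ = x⁻¹ * (x * q * x⁻¹ * tw t b) * x := by rw [← hc, hb]
      _ = q * (x⁻¹ * tw t b) * x := by group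
      _ = q * tw t b := by rw [htx]; group
  have hm := NA.Setup.tw_mem S (t := t) b
  refine ⟨x⁻¹ * g, e ▸ Q.mul_mem hqQ hm, ?_⟩
  rw [e, K.c_mul q hqQ _ hm, NA.Coord.c_tw S K, Nat.xor_zero, hcq]

variable {g : G}

/-- The element seen from the other side. -/
def ph (g x : G) : G := g⁻¹ * x * g

theorem ph_mul (x y : G) : ph g (x * y) = ph g x * ph g y := by rw [ph, ph, ph]; group

theorem ph_inv (x : G) : ph g x⁻¹ = (ph g x)⁻¹ := by rw [ph, ph]; group

theorem ph_one : ph g (1 : G) = 1 := by rw [ph]; group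

theorem ph_inj {x y : G} (h : ph g x = ph g y) : x = y :=
  mul_left_cancel (a := g⁻¹) (mul_right_cancel (b := g) (by exact h))

theorem ph_c : ph g (g * t * g⁻¹) = t := by rw [ph]; group

/-- The elements of the centraliser of `t` commuting with the conjugate. -/
def C2 (t g : G) : Subgroup G := Subgroup.centralizer {t} ⊓ Subgroup.centralizer {g * t * g⁻¹}

theorem mem_C2 {x : G} : x ∈ C2 t g ↔ x * t = t * x ∧ x * (g * t * g⁻¹) = g * t * g⁻¹ * x := by
  rw [C2, Subgroup.mem_inf, mem_C, Subgroup.mem_centralizer_singleton_iff]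

theorem ph_C {x : G} (hx : x ∈ C2 t g) : ph g x ∈ Subgroup.centralizer ({t} : Set G) := by
  rw [mem_C]
  have := congrArg (ph g) (mem_C2.1 hx).2
  rwa [ph_mul x, ph_mul _ x, ph_c] at this

variable (hg : g * t * g⁻¹ ∈ Q) (hc : K.c (g * t * g⁻¹) = c0)

include S K hg hc in
theorem exists_stab_lift {w : List ℕ} (hw : ap (eW w).2 c0 = c0) :
    ∃ x ∈ C2 t g, ∃ h : x ∈ Subgroup.centralizer ({t} : Set G), K.π ⟨x, h⟩ = permW w := by
  obtain ⟨⟨x, hx⟩, hxw⟩ := exists_lift K w
  have h1 : K.c (x * (g * t * g⁻¹) * x⁻¹) = K.c (g * t * g⁻¹) := by rw [c_conj K hx hxw.symm hg, hc, hw]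
  obtain ⟨b, hb⟩ := NA.Coord.eq_of_c S K (S.norm x hx _ hg) hg h1
  cases b with
  | false =>
    rw [NA.tw_false, mul_one] at hb
    exact ⟨x, mem_C2.2 ⟨mem_C.1 hx, mul_inv_eq_iff_eq_mul.1 hb⟩, hx, hxw⟩
  | true =>
    rw [NA.tw_true] at hb
    obtain ⟨v, hv, hB⟩ := exists_Bv c0_ok.2.1 c0_ok.1
    obtain ⟨q, hq, rfl⟩ := K.c_surj v hv
    have hqc : q * (g * t * g⁻¹) * q⁻¹ = g * t * g⁻¹ * t := by
      rw [NA.Coord.rule S K hq hg, Two.Bv_comm, hc, hB, NA.tw_true]
    have hm : q * x ∈ Subgroup.centralizer ({t} : Set G) := mul_mem (S.le hq) hx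
    refine ⟨q * x, mem_C2.2 ⟨mem_C.1 hm, mul_inv_eq_iff_eq_mul.1 ?_⟩, hm, ?_⟩
    · calc q * x * (g * t * g⁻¹) * (q * x)⁻¹ = q * (x * (g * t * g⁻¹) * x⁻¹) * q⁻¹ := by group
        _ = q * (g * t * g⁻¹) * q⁻¹ * (q * t * q⁻¹) := by rw [hb]; group
        _ = g * t * g⁻¹ * (t * t) := by rw [hqc, na_comm S hq, mul_inv_cancel_right, mul_assoc]
        _ = _ := by rw [na_sq S, mul_one]
    · rw [pi_mul K (S.le hq) hx, (K.ker ⟨q, S.le hq⟩).2 hq, one_mul, hxw]

include S K hg hc in
/-- An element of the second centraliser fixes the standard vector. -/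
theorem fix_of_C2 {x : G} (hx : x ∈ C2 t g) {w : List ℕ}
    (hw : permW w = K.π ⟨x, hx.1⟩) : ap (eW w).2 c0 = c0 := by
  rw [← hc, ← c_conj K hx.1 hw hg, (mem_C2.1 hx).2, mul_inv_cancel_right]

include S hg in
theorem phC_t : ph g t ∈ Subgroup.centralizer ({t} : Set G) :=
  ph_C (mem_C2.2 ⟨rfl, (na_comm S hg).symm⟩)

include S hg in
theorem ph_t_ne (hne : g * t * g⁻¹ ≠ t) : ph g t ≠ t ∧ ph g t ≠ 1 := by
  refine ⟨fun e => hne ?_, fun e => na_ne S ?_⟩
  · exact ph_inj (g := g) (by rw [ph_c, e])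
  · exact ph_inj (g := g) (by rw [e, ph_one])

include S K hg hc in
/-- The involution `t` lies in the conjugate of `Q`. -/
theorem ph_t_mem : ph g t ∈ Q := by
  rw [← K.ker ⟨ph g t, phC_t S hg⟩]
  obtain ⟨x, hx2, hx, hxw⟩ := exists_stab_lift S K hg hc (Nat.eq_of_beq_eq_true w7_ok.1)
  have h7 : (permW w7) ^ 7 = 1 := by rw [← order7]; exact pow_orderOf_eq_one _
  have hx7 : x ^ 7 ∈ Q := by
    have hm : x ^ 7 ∈ Subgroup.centralizer ({t} : Set G) := pow_mem hx 7
    rw [← K.ker ⟨x ^ 7, hm⟩, show (⟨x ^ 7, hm⟩ : ↥(Subgroup.centralizer ({t} : Set G))) = ⟨x, hx⟩ ^ 7 from rfl,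
      map_pow, hxw, h7]
  set s := x ^ 4 with hs
  have hs2 : s ∈ C2 t g := pow_mem hx2 4
  have hs7 : s ^ 7 = 1 := by rw [hs, ← pow_mul, Nat.mul_comm, pow_mul, pow4 S K hx7]
  have hsQ : ph g s ∉ Q := by
    intro h
    have h4 := pow4 S K h
    have e7 : ph g s ^ 7 = 1 := by
      rw [show ∀ n, ph g s ^ n = ph g (s ^ n) from fun n => by
        induction n with
        | zero => rw [pow_zero, pow_zero, ph_one]
        | succ n ih => rw [pow_succ, pow_succ, ph_mul, ih], hs7, ph_one]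
    have e : ph g s = 1 := by
      have h8 : ph g s ^ 8 = 1 := by rw [show 8 = 4 * 2 from rfl, pow_mul, h4, one_pow]
      rwa [pow_succ, e7, one_mul] at h8
    have hs1 : s = 1 := ph_inj (g := g) (by rw [e, ph_one])
    have hp : (permW w7) ^ 4 = 1 := by
      rw [← hxw, ← map_pow, show (⟨x, hx⟩ : ↥(Subgroup.centralizer ({t} : Set G))) ^ 4 = 1 from Subtype.ext hs1,
        map_one]
    have := orderOf_dvd_of_pow_eq_one hp
    rw [order7] at this
    omega
  have hcomm : ph g t * ph g s = ph g s * ph g t := by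
    rw [← ph_mul, ← ph_mul, (mem_C2.1 hs2).1]
  set p := K.π ⟨ph g t, phC_t S hg⟩ with hp
  set r := K.π ⟨ph g s, ph_C hs2⟩ with hr
  have hpr : p * r = r * p := by
    rw [hp, hr, ← map_mul, ← map_mul]; exact congrArg K.π (Subtype.ext hcomm)
  have hp2 : p * p = 1 := by
    rw [hp, ← map_mul, ← map_one K.π]
    refine congrArg K.π (Subtype.ext ?_)
    show ph g t * ph g t = 1
    rw [← ph_mul, na_sq S, ph_one]
  have hr7 : orderOf r = 7 := by
    haveI : Fact (Nat.Prime 7) := ⟨by norm_num⟩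
    refine orderOf_eq_prime ?_ fun h => hsQ ((K.ker _).1 h)
    rw [hr, ← map_pow, ← map_one K.π]
    refine congrArg K.π (Subtype.ext ?_)
    show ph g s ^ 7 = 1
    rw [show ∀ n, ph g s ^ n = ph g (s ^ n) from fun n => by
      induction n with
      | zero => rw [pow_zero, pow_zero, ph_one]
      | succ n ih => rw [pow_succ, pow_succ, ph_mul, ih], hs7, ph_one]
  obtain ⟨m, hm, a, ha, hma⟩ := exists_conj7 (pi_mem K _) hr7
  have hma' : m * a * m⁻¹ = permW w7 := hma
  obtain ⟨i, rfl⟩ := Subgroup.mem_zpowers_iff.1 ha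
  have hpi : p * r ^ i = r ^ i * p := (Commute.zpow_right hpr i).eq
  rw [← hr] at hma'
  have key := eq_one_of_comm (p := m * p * m⁻¹) (mul_mem (mul_mem hm (pi_mem K _)) (inv_mem hm))
    (by
      rw [← hma']
      calc m * p * m⁻¹ * (m * r ^ i * m⁻¹) = m * (p * r ^ i) * m⁻¹ := by group
        _ = m * (r ^ i * p) * m⁻¹ := by rw [hpi]
        _ = _ := by group)
    (by rw [show m * p * m⁻¹ * (m * p * m⁻¹) = m * (p * p) * m⁻¹ by group, hp2, mul_one, mul_inv_cancel])
  exact conj_eq_one_iff.1 key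

/-- The elements of `Q` in the conjugate of `Q`. -/
def inJ (Q : Subgroup G) (g q : G) : Prop := q ∈ Q ∧ ph g q ∈ Q

/-- The coordinates of that meet. -/
def JB (K : Coords t Q) (g : G) (v : ℕ) : Prop := ∃ q, inJ Q g q ∧ K.c q = v

include S K hg hc in
theorem J_elem (hne : g * t * g⁻¹ ≠ t) {q r : G} (hq : inJ Q g q) (hr : inJ Q g r) :
    q * q = 1 ∧ q * r = r * q := by
  obtain ⟨hT, hT1⟩ := ph_t_ne S hg hne
  constructor
  · rcases sq_cases S K hq.1 with h | h
    · exact h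
    · exfalso
      have e := congrArg (ph g) h
      rw [ph_mul] at e
      rcases sq_cases S K hq.2 with h' | h' <;> rw [h'] at e
      exacts [hT1 e.symm, hT e.symm]
  · have h := NA.Coord.rule S K hq.1 hr.1
    cases hb : Bv (K.c q) (K.c r) with
    | false => exact NA.Coord.comm_of S K hq.1 hr.1 hb
    | true =>
      exfalso
      rw [hb, NA.tw_true] at h
      have e := congrArg (ph g) h
      rw [ph_mul, ph_mul, ph_inv, ph_mul] at e
      rw [NA.Coord.rule S K hq.2 hr.2] at e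
      have e' := mul_left_cancel e
      cases hb' : Bv (K.c (ph g q)) (K.c (ph g r)) <;> rw [hb'] at e'
      exacts [hT1 e'.symm, hT e'.symm]

include S K hg hc in
theorem JB_facts (hne : g * t * g⁻¹ ≠ t) {u v : ℕ} (hu : JB K g u) (hv : JB K g v) :
    qv u = false ∧ Bv u v = false ∧ JB K g (u ^^^ v) := by
  obtain ⟨q, hq, rfl⟩ := hu
  obtain ⟨r, hr, rfl⟩ := hv
  obtain ⟨h2, hcom⟩ := J_elem S K hg hc hne hq hr
  refine ⟨?_, NA.Coord.bil_of S K hq.1 hr.1 hcom, q * r, ⟨Q.mul_mem hq.1 hr.1, ?_⟩, K.c_mul q hq.1 r hr.1⟩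
  · have h := K.sq q hq.1
    rw [h2] at h
    cases hb : qv (K.c q)
    · rfl
    · rw [hb] at h; exact absurd h.symm (na_ne S)
  · rw [ph_mul]; exact Q.mul_mem hq.2 hr.2

include S K hg hc in
theorem JB_c0 : JB K g c0 ∧ JB K g 0 :=
  ⟨⟨_, ⟨hg, by rw [ph_c]; exact na_mem S⟩, hc⟩,
    ⟨1, ⟨Q.one_mem, by rw [ph_one]; exact Q.one_mem⟩, NA.Coord.c_one S K⟩⟩

include S K hg hc in
theorem J_conj {x q : G} (hx : x ∈ C2 t g) (hq : inJ Q g q) : inJ Q g (x * q * x⁻¹) := by
  refine ⟨S.norm x hx.1 q hq.1, ?_⟩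
  rw [ph_mul, ph_mul, ph_inv]
  exact S.norm _ (ph_C hx) _ hq.2

include S K hg hc in
theorem JB_act {w : List ℕ} (hw : ap (eW w).2 c0 = c0) {v : ℕ} (hv : JB K g v) :
    JB K g (ap (eW w).2 v) := by
  obtain ⟨x, hx2, hx, hxw⟩ := exists_stab_lift S K hg hc hw
  obtain ⟨q, hq, rfl⟩ := hv
  exact ⟨_, J_conj S K hg hc hx2 hq, c_conj K hx hxw.symm hq.1⟩

include S K hg hc in
theorem JB_W5 (hne : g * t * g⁻¹ ≠ t) {v : ℕ} (hv : JB K g v) : v ∈ W5 := by
  have hlt : v < 256 := by obtain ⟨q, hq, rfl⟩ := hv; exact K.c_lt q hq.1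
  have hc0 := (JB_c0 S K hg hc).1
  obtain ⟨h1, h2, -⟩ := JB_facts S K hg hc hne hv hc0
  have h := List.all_eq_true.1 perp_wit v (List.mem_range.2 hlt)
  rw [h1, h2] at h
  simp only [Bool.or_eq_true, Bool.false_eq_true, or_false] at h
  rcases h with ((h | h) | h) | h
  · rw [Nat.eq_of_beq_eq_true h]; exact W5_ok.2.2.1
  · rw [Nat.eq_of_beq_eq_true h]; exact W5_ok.2.2.2
  · exact memN_iff.1 h
  · obtain ⟨w, hw, hB⟩ := List.any_eq_true.1 h
    have hwf := Nat.eq_of_beq_eq_true (List.all_eq_true.1 stab_fix.2 w hw)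
    rw [(JB_facts S K hg hc hne hv (JB_act S K hg hc hwf hv)).2.1] at hB
    exact absurd hB Bool.false_ne_true

include S K hg hc in
theorem JB_span (hne : g * t * g⁻¹ ≠ t) : ∀ (n : ℕ) (sp : List ℕ), (∀ v ∈ sp, JB K g v) →
    ∀ v ∈ spanW n sp, JB K g v
  | 0, _, h => h
  | n + 1, sp, h => JB_span hne n _ (by
      have inner : ∀ (w : List ℕ), ap (eW w).2 c0 = c0 → ∀ (M acc : List ℕ), (∀ v ∈ M, JB K g v) →
          (∀ v ∈ acc, JB K g v) → ∀ v ∈ M.foldl (fun acc v =>
            bif memN acc (ap (eW w).2 v) then acc else xext acc (ap (eW w).2 v)) acc, JB K g v := by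
        intro w hw M
        induction M with
        | nil => intro acc _ ha; exact ha
        | cons a M ih =>
          intro acc hM ha
          refine ih _ (fun v hv => hM v (List.mem_cons_of_mem _ hv)) fun v hv => ?_
          cases hb : memN acc (ap (eW w).2 a) with
          | true => simp only [hb, cond_true] at hv; exact ha v hv
          | false =>
            simp only [hb, cond_false] at hv
            rcases List.mem_append.1 hv with hv | hv
            · exact ha v hv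
            · obtain ⟨b, hb', rfl⟩ := List.mem_map.1 hv
              exact (JB_facts S K hg hc hne (JB_act S K hg hc hw (hM a List.mem_cons_self)) (ha b hb')).2.2
      have outer : ∀ (Ws : List (List ℕ)), (∀ w ∈ Ws, ap (eW w).2 c0 = c0) → ∀ acc : List ℕ,
          (∀ v ∈ acc, JB K g v) → ∀ v ∈ Ws.foldl (fun acc w =>
            sp.foldl (fun acc v => bif memN acc (ap (eW w).2 v) then acc else xext acc (ap (eW w).2 v)) acc) acc,
            JB K g v := by
        intro Ws
        induction Ws with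
        | nil => intro _ acc ha; exact ha
        | cons w Ws ih =>
          intro hW acc ha
          exact ih (fun u hu => hW u (List.mem_cons_of_mem _ hu)) _
            (inner w (hW w List.mem_cons_self) sp acc h ha)
      exact outer stabW (fun w hw => Nat.eq_of_beq_eq_true (List.all_eq_true.1 stab_fix.1 w hw)) sp h)

/-- The meet of the conjugate of `Q` with the centraliser of `t`. -/
def Z0 (Q : Subgroup G) (t g : G) : Subgroup G :=
  Q.comap (MulAut.conj g⁻¹).toMonoidHom ⊓ Subgroup.centralizer {t}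

theorem mem_Z0 {x : G} : x ∈ Z0 Q t g ↔ ph g x ∈ Q ∧ x * t = t * x := by
  rw [Z0, Subgroup.mem_inf, mem_C, Subgroup.mem_comap]
  simp [ph, MulAut.conj_apply]

include S in
theorem Z0_C2 {x : G} (hx : x ∈ Z0 Q t g) : x ∈ C2 t g := by
  obtain ⟨h1, h2⟩ := mem_Z0.1 hx
  refine mem_C2.2 ⟨h2, ph_inj (g := g) ?_⟩
  rw [ph_mul x, ph_mul _ x, ph_c]
  exact na_comm S h1

/-- The image of that meet. -/
def Zb (K : Coords t Q) (g : G) : Subgroup (Perm (Fin 63)) :=
  ((Z0 Q t g).subgroupOf (Subgroup.centralizer {t})).map K.π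

theorem mem_Zb {p : Perm (Fin 63)} :
    p ∈ Zb K g ↔ ∃ x, x ∈ Z0 Q t g ∧ ∃ h : x ∈ Subgroup.centralizer ({t} : Set G), K.π ⟨x, h⟩ = p := by
  rw [Zb, Subgroup.mem_map]
  constructor
  · rintro ⟨⟨x, h⟩, hx, e⟩; exact ⟨x, hx, h, e⟩
  · rintro ⟨x, hx, h, e⟩; exact ⟨⟨x, h⟩, hx, e⟩

include S K hg hc in
theorem Zb_conj {p : Perm (Fin 63)} (hp : p ∈ Zb K g) {x : G} (hx : x ∈ C2 t g) :
    K.π ⟨x, hx.1⟩ * p * (K.π ⟨x, hx.1⟩)⁻¹ ∈ Zb K g := by
  obtain ⟨z, hz, hzC, rfl⟩ := (mem_Zb K).1 hp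
  have hm : x * z * x⁻¹ ∈ Z0 Q t g := by
    refine mem_Z0.2 ⟨?_, mem_C.1 (mul_mem (mul_mem hx.1 hzC) (inv_mem hx.1))⟩
    rw [ph_mul, ph_mul, ph_inv]
    exact S.norm _ (ph_C hx) _ (mem_Z0.1 hz).1
  exact (mem_Zb K).2 ⟨_, hm, hm.2, pi_conj K hx.1 hzC hm.2⟩

include S K hg hc in
theorem Zb_le : Zb K g ≤ Syl := by
  let H : Subgroup (Perm (Fin 63)) := ((C2 t g).subgroupOf (Subgroup.centralizer {t})).map K.π
  have hS : Syl ≤ H := by
    rintro _ ⟨w, hw, rfl⟩
    obtain ⟨x, hx2, hx, hxw⟩ := exists_stab_lift S K hg hc (syl_fix_c0 hw)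
    exact ⟨⟨x, hx⟩, hx2, hxw⟩
  have hH : H ≤ Sp63 := by
    rintro _ ⟨x, -, rfl⟩
    exact pi_mem K x
  have hP : Zb K g ≤ H := by
    intro p hp
    obtain ⟨z, hz, hzC, rfl⟩ := (mem_Zb K).1 hp
    exact ⟨⟨z, hzC⟩, Z0_C2 S hz, rfl⟩
  have h2 : IsPGroup 2 (Zb K g) := by
    intro ⟨p, hp⟩
    refine ⟨2, Subtype.ext ?_⟩
    obtain ⟨z, hz, hzC, rfl⟩ := (mem_Zb K).1 hp
    show K.π ⟨z, hzC⟩ ^ (2 ^ 2) = 1
    rw [← map_pow, ← map_one K.π]
    refine congrArg K.π (Subtype.ext (ph_inj (g := g) ?_))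
    show ph g (z ^ (2 ^ 2)) = ph g 1
    rw [show ∀ n, ph g (z ^ n) = ph g z ^ n from fun n => by
      induction n with
      | zero => rw [pow_zero, pow_zero, ph_one]
      | succ n ih => rw [pow_succ, pow_succ, ph_mul, ih], ph_one]
    exact pow4 S K (mem_Z0.1 hz).1
  obtain ⟨m, hm, hmS⟩ := exists_conj_Syl hS hH hP h2
  obtain ⟨x, hx, rfl⟩ := hm
  intro p hp
  have hxi : (x : G)⁻¹ ∈ C2 t g := inv_mem hx
  have hy := Zb_conj S K hg hc hp hxi
  rw [show (⟨(x : G)⁻¹, hxi.1⟩ : ↥(Subgroup.centralizer ({t} : Set G))) = x⁻¹ from rfl, map_inv] at hy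
  have := hmS _ hy
  rwa [show K.π x * ((K.π x)⁻¹ * p * (K.π x)⁻¹⁻¹) * (K.π x)⁻¹ = p by group] at this

include S K hg hc in
/-- An element of the meet moves the orthogonal space of the standard vector into the coordinates of the meet. -/
theorem moves {p : Perm (Fin 63)} (hp : p ∈ Zb K g) {w : List ℕ} (hw : permW w = p) {v : ℕ} (hv : v ∈ perp0) :
    JB K g (Nat.xor (ap (eW w).2 v) v) := by
  obtain ⟨z, hz, hzC, rfl⟩ := (mem_Zb K).1 hp
  obtain ⟨hv', hB⟩ := List.mem_filter.1 hv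
  obtain ⟨q, hq, rfl⟩ := K.c_surj v (List.mem_range.1 hv')
  have hqc : q * (g * t * g⁻¹) = g * t * g⁻¹ * q := by
    refine NA.Coord.comm_of S K hq hg ?_
    rw [hc]
    simpa using hB
  have hq2 : q ∈ C2 t g := mem_C2.2 ⟨na_comm S hq, hqc⟩
  have hcj := S.norm z hzC q hq
  refine ⟨z * q * z⁻¹ * q⁻¹, ⟨Q.mul_mem hcj (Q.inv_mem hq), ?_⟩, ?_⟩
  · rw [show z * q * z⁻¹ * q⁻¹ = z * (q * z⁻¹ * q⁻¹) by group, ph_mul]
    refine Q.mul_mem (mem_Z0.1 hz).1 ?_
    rw [ph_mul, ph_mul, ph_inv, ph_inv]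
    exact S.norm _ (ph_C hq2) _ (Q.inv_mem (mem_Z0.1 hz).1)
  · rw [K.c_mul _ hcj _ (Q.inv_mem hq), NA.Coord.c_inv S K hq, c_conj K hzC hw hq]
    rfl

/-! ### Counting -/

include S K in
/-- The elements of `Q` commuting with one outside the centre are half of them. -/
theorem card_half {u : G} (hu : u ∈ Q) (h1 : u ≠ 1) (h2 : u ≠ t) :
    Nat.card {q : ↥Q // (q : G) * u = u * q} = 256 := by
  classical
  haveI := finite_Q S
  obtain ⟨v, hv, hB⟩ := exists_Bv (K.c_lt u hu) fun e => (Q_cases S K hu e).elim h1 h2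
  obtain ⟨q1, hq1, rfl⟩ := K.c_surj v hv
  have key : ∀ q : ↥Q, (q : G) * u = u * q ↔ Bv (K.c q) (K.c u) = false := fun q =>
    ⟨NA.Coord.bil_of S K q.2 hu, NA.Coord.comm_of S K q.2 hu⟩
  have flip : ∀ q : ↥Q, Bv (K.c ((q : G) * q1)) (K.c u) = !(Bv (K.c q) (K.c u)) := fun q => by
    rw [K.c_mul _ q.2 q1 hq1, NA.Coord.Bv_add S K (K.c_lt _ q.2) (K.c_lt q1 hq1) (K.c_lt u hu),
      Two.Bv_comm (K.c q1), hB, Bool.xor_true]
  let σ : ↥Q ≃ ↥Q := Equiv.mulRight ⟨q1, hq1⟩
  have e : {q : ↥Q // (q : G) * u = u * q} ≃ {q : ↥Q // ¬ ((q : G) * u = u * q)} :=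
    σ.subtypeEquiv fun q => by
      rw [key, key]
      show _ ↔ ¬ Bv (K.c ((q : G) * q1)) (K.c u) = false
      rw [flip]; cases Bv (K.c q) (K.c u) <;> simp
  have h := Nat.card_congr (Equiv.sumCompl fun q : ↥Q => (q : G) * u = u * q)
  rw [Nat.card_sum, ← Nat.card_congr e, S.card] at h
  omega

include S K hg hc in
theorem card_Z0 (hne : g * t * g⁻¹ ≠ t) : Nat.card ↥(Z0 Q t g) = 256 := by
  obtain ⟨hT, hT1⟩ := ph_t_ne S hg hne
  rw [← card_half S K (ph_t_mem S K hg hc) hT1 hT]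
  refine Nat.card_congr (Equiv.ofBijective (fun z : ↥(Z0 Q t g) =>
    (⟨⟨ph g z, (mem_Z0.1 z.2).1⟩, ?_⟩ : {q : ↥Q // (q : G) * ph g t = ph g t * q})) ⟨?_, ?_⟩)
  · show ph g z * ph g t = ph g t * ph g z
    rw [← ph_mul, ← ph_mul, (mem_Z0.1 z.2).2]
  · intro a b h
    exact Subtype.ext (ph_inj (congrArg (fun q => ((q.1 : ↥Q) : G)) h))
  · rintro ⟨⟨q, hq⟩, hcom⟩
    have e : ph g (g * q * g⁻¹) = q := by rw [ph]; group
    refine ⟨⟨g * q * g⁻¹, mem_Z0.2 ⟨e.symm ▸ hq, ph_inj (g := g) ?_⟩⟩, Subtype.ext (Subtype.ext e)⟩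
    rw [ph_mul (g * q * g⁻¹), ph_mul _ (g * q * g⁻¹), e]
    exact hcom

include S K hg hc in
/-- The order of the image times the order of the meet inside `Q`. -/
theorem card_Zb (hne : g * t * g⁻¹ ≠ t) :
    Nat.card {q // inJ Q g q} * Nat.card ↥(Zb K g) = 256 := by
  rw [← card_Z0 S K hg hc hne]
  let U := (Z0 Q t g).subgroupOf (Subgroup.centralizer ({t} : Set G))
  let f : ↥U →* Perm (Fin 63) := K.π.comp U.subtype
  have hr : f.range = Zb K g := by
    rw [MonoidHom.range_comp, Subgroup.range_subtype]; rfl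
  have hU : Nat.card ↥U = Nat.card ↥(Z0 Q t g) :=
    Nat.card_congr (Subgroup.subgroupOfEquivOfLe inf_le_right).toEquiv
  rw [← hU, ← f.ker.card_mul_index, Subgroup.index_ker, hr]
  congr 1
  refine (Nat.card_congr (Equiv.ofBijective (fun k : ↥f.ker =>
    (⟨((k.1 : ↥U) : ↥(Subgroup.centralizer ({t} : Set G))),
      (K.ker _).1 k.2, (mem_Z0.1 k.1.2).1⟩ : {q // inJ Q g q})) ⟨?_, ?_⟩)).symm
  · intro a b h
    exact Subtype.ext (Subtype.ext (Subtype.ext (congrArg (fun x : {q // inJ Q g q} => (x : G)) h)))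
  · rintro ⟨q, hq, hq'⟩
    have hZ : q ∈ Z0 Q t g := mem_Z0.2 ⟨hq', na_comm S hq⟩
    exact ⟨⟨⟨⟨q, S.le hq⟩, hZ⟩, (K.ker _).2 hq⟩, rfl⟩

include S K in
theorem card_fibres {p : G → Prop} (hp : ∀ q, p q → q ∈ Q) {L : List ℕ} (hL : ∀ q, p q → K.c q ∈ L) :
    Nat.card {q // p q} ≤ 2 * L.length := by
  classical
  haveI := finite_Q S
  choose r hr e using fun v : {v // v ∈ L ∧ ∃ q, p q ∧ K.c q = v} => v.2.2
  let f : {q // p q} → {v // v ∈ L.toFinset} × Bool := fun q =>
    (⟨K.c q, List.mem_toFinset.2 (hL q q.2)⟩, decide ((q : G) = r ⟨K.c q, hL q q.2, q, q.2, rfl⟩))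
  have hf : Function.Injective f := by
    intro a b h
    simp only [f, Prod.mk.injEq, Subtype.mk.injEq] at h
    obtain ⟨h1, h2⟩ := h
    set va : {v // v ∈ L ∧ ∃ q, p q ∧ K.c q = v} := ⟨K.c a, hL a a.2, a, a.2, rfl⟩
    rw [show (⟨K.c b, hL b b.2, b, b.2, rfl⟩ : {v // v ∈ L ∧ ∃ q, p q ∧ K.c q = v}) = va from
      Subtype.ext h1.symm] at h2
    have cases' : ∀ q : {q // p q}, K.c q = K.c a → (q : G) = r va ∨ (q : G) = r va * t := fun q hq => by
      obtain ⟨b', hb'⟩ := NA.Coord.eq_of_c S K (hp _ q.2) (hp _ (hr va)) (hq.trans (e va).symm)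
      cases b'
      · exact Or.inl (by rw [hb', NA.tw_false, mul_one])
      · exact Or.inr (by rw [hb', NA.tw_true])
    apply Subtype.ext
    rcases cases' a rfl with ha | ha <;> rcases cases' b h1.symm with hb | hb
    · rw [ha, hb]
    · simp [ha, hb, na_ne S] at h2
    · simp [ha, hb, na_ne S] at h2
    · rw [ha, hb]
  calc Nat.card {q // p q} ≤ Nat.card ({v // v ∈ L.toFinset} × Bool) := Nat.card_le_card_of_injective f hf
    _ = L.toFinset.card * 2 := by rw [Nat.card_prod, Nat.card_eq_finsetCard]; simp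
    _ ≤ L.length * 2 := Nat.mul_le_mul_right _ L.toFinset_card_le
    _ = 2 * L.length := Nat.mul_comm _ _

include S K hg hc in
theorem card_J_ge (hne : g * t * g⁻¹ ≠ t) (hall : ∀ v ∈ W5, JB K g v) :
    32 ≤ Nat.card {q // inJ Q g q} := by
  classical
  haveI := finite_Q S
  haveI : Finite {q // inJ Q g q} :=
    Finite.of_injective (fun q : {q // inJ Q g q} => (⟨q.1, q.2.1⟩ : ↥Q))
      fun a b h => Subtype.ext (congrArg (fun x : ↥Q => (x : G)) h)
  choose r hr e using fun v : {v // v ∈ W5.toFinset} => hall v (List.mem_toFinset.1 v.2)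
  have ht : inJ Q g t := ⟨na_mem S, ph_t_mem S K hg hc⟩
  let f : {v // v ∈ W5.toFinset} × Bool → {q // inJ Q g q} := fun x =>
    ⟨r x.1 * tw t x.2, Q.mul_mem (hr x.1).1 (NA.Setup.tw_mem S x.2), by
      rw [ph_mul]
      refine Q.mul_mem (hr x.1).2 ?_
      cases x.2
      · rw [NA.tw_false, ph_one]; exact Q.one_mem
      · exact ht.2⟩
  have hf : Function.Injective f := by
    intro a b h
    have h' : r a.1 * tw t a.2 = r b.1 * tw t b.2 := congrArg Subtype.val h
    have hcv := congrArg K.c h'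
    rw [K.c_mul _ (hr _).1 _ (NA.Setup.tw_mem S _), K.c_mul _ (hr _).1 _ (NA.Setup.tw_mem S _),
      NA.Coord.c_tw S K, NA.Coord.c_tw S K, Nat.xor_zero, Nat.xor_zero, e, e] at hcv
    have h1 : a.1 = b.1 := Subtype.ext hcv
    refine Prod.ext h1 (NA.Setup.tw_inj S (mul_left_cancel (a := r b.1) ?_))
    rw [← h', h1]
  have h := Nat.card_le_card_of_injective f hf
  rw [Nat.card_prod, Nat.card_eq_finsetCard, List.toFinset_card_of_nodup W5_ok.2.1, W5_ok.1] at h
  simpa using h

/-- A nontrivial coded element of the image. -/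
def InP (K : Coords t Q) (g : G) (e : Elt) : Prop := ∃ w, e = eW w ∧ permW w ∈ Zb K g

theorem addNew_spec : ∀ (xs L : List Elt), (∀ x ∈ xs, InP K g x) →
    ((∀ x ∈ L, InP K g x ∧ sameK x eId = false) ∧ (L.map key).Nodup) →
    (∀ x ∈ addNew L xs, InP K g x ∧ sameK x eId = false) ∧ ((addNew L xs).map key).Nodup
  | [], _, _, h => h
  | x :: xs, L, hx, h => by
    rw [addNew]
    cases hb : sameK x eId || L.any (sameK x) with
    | true => exact addNew_spec xs L (fun y hy => hx y (List.mem_cons_of_mem _ hy)) h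
    | false =>
      rw [Bool.or_eq_false_iff] at hb
      refine addNew_spec xs _ (fun y hy => hx y (List.mem_cons_of_mem _ hy)) ⟨fun y hy => ?_, ?_⟩
      · rcases List.mem_append.1 hy with hy | hy
        · exact h.1 y hy
        · rw [List.mem_singleton.1 hy]; exact ⟨hx x List.mem_cons_self, hb.1⟩
      · rw [List.map_append, List.map_singleton, List.nodup_append]
        refine ⟨h.2, List.nodup_singleton _, fun a ha b hb' e => ?_⟩
        obtain ⟨y, hy, rfl⟩ := List.mem_map.1 ha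
        rw [List.mem_singleton.1 hb'] at e
        have := List.any_eq_false.1 hb.2 y hy
        exact this (by rw [sameK, e]; exact Nat.beq_refl _)

include S K hg hc in
theorem grow_spec : ∀ (n : ℕ) (L : List Elt),
    ((∀ x ∈ L, InP K g x ∧ sameK x eId = false) ∧ (L.map key).Nodup) → grow n L = true →
      9 ≤ Nat.card ↥(Zb K g) := by
  have fin : ∀ L : List Elt, ((∀ x ∈ L, InP K g x ∧ sameK x eId = false) ∧ (L.map key).Nodup) →
      8 ≤ L.length → 9 ≤ Nat.card ↥(Zb K g) := by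
    intro L hL h8
    choose w hwe hwm using fun i : Fin L.length => (hL.1 _ (List.getElem_mem i.2)).1
    let f : Option (Fin L.length) → ↥(Zb K g) := fun o => o.elim 1 fun i => ⟨permW (w i), hwm i⟩
    have hne : ∀ i, permW (w i) ≠ 1 := fun i e => by
      have := (hL.1 _ (List.getElem_mem i.2)).2
      rw [hwe i, sameK_id.2 e] at this
      exact Bool.noConfusion this
    have hf : Function.Injective f := by
      rintro (_ | i) (_ | j) h
      · rfl
      · exact absurd (congrArg Subtype.val h).symm (hne j)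
      · exact absurd (congrArg Subtype.val h) (hne i)
      · have hk := permW_eq_iff.1 (congrArg Subtype.val h : permW (w i) = permW (w j))
        rw [← hwe i, ← hwe j] at hk
        refine congrArg some (Fin.ext ?_)
        have hn := (List.nodup_iff_injective_getElem.1 hL.2) (a₁ := ⟨i, by simp⟩) (a₂ := ⟨j, by simp⟩)
          (by simpa using hk)
        simpa using hn
    have := Nat.card_le_card_of_injective f hf
    rw [Nat.card_eq_fintype_card, Fintype.card_option, Fintype.card_fin] at this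
    omega
  intro n
  induction n with
  | zero => intro L hL h; exact fin L hL (Nat.le_of_ble_eq_true h)
  | succ n ih =>
    intro L hL h
    rw [grow, Bool.or_eq_true] at h
    rcases h with h | h
    · exact fin L hL (Nat.le_of_ble_eq_true h)
    · refine ih _ (addNew_spec K _ _ (fun x hx => ?_) hL) h
      rcases List.mem_append.1 hx with hx | hx
      · obtain ⟨y, hy, hx⟩ := List.mem_flatMap.1 hx
        obtain ⟨w, hw, rfl⟩ := List.mem_map.1 hx
        obtain ⟨v, rfl, hv⟩ := (hL.1 y hy).1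
        refine ⟨_, eConj_eW w v, ?_⟩
        rw [permW_conj]
        obtain ⟨x, hx2, hx, hxw⟩ := exists_stab_lift S K hg hc
          (Nat.eq_of_beq_eq_true (List.all_eq_true.1 stab_fix.1 w hw))
        rw [← hxw]
        exact Zb_conj S K hg hc hv hx2
      · obtain ⟨y, hy, rfl⟩ := List.mem_map.1 hx
        obtain ⟨v, rfl, hv⟩ := (hL.1 y hy).1
        have h0 : InP K g (L.getD 0 eId) := by
          cases L with
          | nil => exact ⟨[], rfl, one_mem _⟩
          | cons a l => exact (hL.1 a List.mem_cons_self).1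
        obtain ⟨u, hu, hu'⟩ := h0
        exact ⟨u ++ v, by rw [hu, eW_append], by rw [permW_append]; exact mul_mem hu' hv⟩

include S K hg hc in
theorem false_of_std (hne : g * t * g⁻¹ ≠ t) : False := by
  classical
  haveI := finite_Q S
  have hcz := card_Zb S K hg hc hne
  obtain ⟨hT, hT1⟩ := ph_t_ne S hg hne
  have word : ∀ p ∈ Zb K g, ∃ w, permW w = p ∧ eW w ∈ sylE := fun p hp => by
    obtain ⟨w, -, h1, h2⟩ := syl_act (Zb_le S K hg hc hp)
    exact ⟨w, h1, h2⟩
  by_cases hbig : ∃ v, JB K g v ∧ v ≠ 0 ∧ v ≠ c0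
  · obtain ⟨v, hv, hv0, hvc⟩ := hbig
    have hall : ∀ v' ∈ W5, JB K g v' := by
      intro v' hv'
      have h := List.all_eq_true.1 span_W5 v (JB_W5 S K hg hc hne hv)
      simp only [Bool.or_eq_true, Nat.beq_eq] at h
      rcases h with (h | h) | h
      · exact absurd h hv0
      · exact absurd h hvc
      · refine JB_span S K hg hc hne 5 _ (fun u hu => ?_) v' (memN_iff.1 (List.all_eq_true.1 h v' hv'))
        obtain ⟨h1, h2⟩ := JB_c0 S K hg hc
        simp only [List.mem_cons, List.not_mem_nil, or_false] at hu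
        rcases hu with rfl | rfl | rfl | rfl
        exacts [h2, h1, hv, (JB_facts S K hg hc hne h1 hv).2.2]
    have hJ := card_J_ge S K hg hc hne hall
    have hZ8 : Nat.card ↥(Zb K g) ≤ 8 := by
      by_contra h
      have : 32 * 9 ≤ Nat.card {q // inJ Q g q} * Nat.card ↥(Zb K g) := Nat.mul_le_mul hJ (by omega)
      omega
    have hfix : ∀ z ∈ Z0 Q t g, ∀ q, inJ Q g q → z * q = q * z := by
      intro z hz q hq
      by_cases hzQ : z ∈ Q
      · exact (J_elem S K hg hc hne ⟨hzQ, (mem_Z0.1 hz).1⟩ hq).2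
      have hzC : z ∈ Subgroup.centralizer ({t} : Set G) := hz.2
      have hp : K.π ⟨z, hzC⟩ ∈ Zb K g := (mem_Zb K).2 ⟨z, hz, hzC, rfl⟩
      obtain ⟨w, hw, hwE⟩ := word _ hp
      have hmove : eW w ∈ moveW5 := by
        refine List.mem_filter.2 ⟨hwE, List.all_eq_true.2 fun v' hv' => memN_iff.2 ?_⟩
        exact JB_W5 S K hg hc hne (moves S K hg hc hp hw hv')
      have hfx : W5.all (fixV (eW w)) = true := by
        have h := List.all_eq_true.1 grow_ok _ hmove
        rw [Bool.or_eq_true] at h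
        refine h.resolve_right fun hgr => ?_
        have := grow_spec S K hg hc 6 [eW w] ⟨fun x hx => by
          rw [List.mem_singleton.1 hx]
          refine ⟨⟨w, rfl, hw ▸ hp⟩, ?_⟩
          cases hs : sameK (eW w) eId
          · rfl
          · exact absurd ((K.ker ⟨z, hzC⟩).1 (hw.symm.trans (sameK_id.1 hs))) hzQ, List.nodup_singleton _⟩ hgr
        omega
      have hv' := JB_W5 S K hg hc hne ⟨q, hq, rfl⟩
      have e := Nat.eq_of_beq_eq_true (List.all_eq_true.1 hfx _ hv')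
      have hcq : K.c (z * q * z⁻¹) = K.c q := (c_conj K hzC hw hq.1).trans e
      obtain ⟨b, hb⟩ := NA.Coord.eq_of_c S K (S.norm z hzC q hq.1) hq.1 hcq
      cases b with
      | false => rw [NA.tw_false, mul_one] at hb; exact mul_inv_eq_iff_eq_mul.1 hb
      | true =>
        exfalso
        rw [NA.tw_true] at hb
        have e' := congrArg (ph g) hb
        rw [ph_mul, ph_mul, ph_inv, ph_mul, NA.Coord.rule S K (mem_Z0.1 hz).1 hq.2] at e'
        have e'' := mul_left_cancel e'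
        cases hb' : Bv (K.c (ph g z)) (K.c (ph g q)) <;> rw [hb'] at e''
        exacts [hT1 e''.symm, hT e''.symm]
    have h4 : Nat.card {q // inJ Q g q} ≤ 2 * [0, K.c (ph g t)].length := by
      refine le_trans (le_of_eq (Nat.card_congr (Equiv.ofBijective
        (fun q : {q // inJ Q g q} => (⟨ph g q, q.1, q.2, rfl⟩ : {q' // ∃ q, inJ Q g q ∧ ph g q = q'}))
        ⟨fun a b h => Subtype.ext (ph_inj (congrArg Subtype.val h)), ?_⟩))) (card_fibres S K ?_ ?_)
      · rintro ⟨_, q, hq, rfl⟩; exact ⟨⟨q, hq⟩, rfl⟩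
      · rintro _ ⟨q, hq, rfl⟩; exact hq.2
      · rintro _ ⟨q, hq, rfl⟩
        have h := List.all_eq_true.1 (List.all_eq_true.1 B_sep _
          (List.mem_range.2 (K.c_lt _ (ph_t_mem S K hg hc)))) _ (List.mem_range.2 (K.c_lt _ hq.2))
        simp only [Bool.or_eq_true, Nat.beq_eq, List.any_eq_true, Bool.and_eq_true, Bool.not_eq_true'] at h
        rcases h with ((h | h) | h) | ⟨v', hv', hB1, hB2⟩
        · exact ((Q_cases S K (ph_t_mem S K hg hc) h).elim hT1 hT).elim
        · rw [h]; exact List.mem_cons_self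
        · rw [h]; exact List.mem_cons_of_mem _ List.mem_cons_self
        · exfalso
          obtain ⟨y, hy, rfl⟩ := K.c_surj v' (List.mem_range.1 hv')
          have hyc : y * ph g t = ph g t * y :=
            NA.Coord.comm_of S K hy (ph_t_mem S K hg hc) (by rw [Two.Bv_comm]; exact hB1)
          have he : ph g (g * y * g⁻¹) = y := by rw [ph]; group
          have hZ : g * y * g⁻¹ ∈ Z0 Q t g :=
            mem_Z0.2 ⟨he.symm ▸ hy, ph_inj (g := g)
              (by rw [ph_mul (g * y * g⁻¹), ph_mul _ (g * y * g⁻¹), he]; exact hyc)⟩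
          have hcom := congrArg (ph g) (hfix _ hZ q hq)
          rw [ph_mul (g * y * g⁻¹), ph_mul _ (g * y * g⁻¹), he] at hcom
          rw [NA.Coord.bil_of S K hq.2 hy hcom.symm] at hB2
          exact Bool.noConfusion hB2
    simp at h4
    omega
  · have hsmall : ∀ v, JB K g v → v ∈ [0, c0] := fun v hv => by
      by_contra h
      simp only [List.mem_cons, List.not_mem_nil, or_false, not_or] at h
      exact hbig ⟨v, hv, h⟩
    have hJ : Nat.card {q // inJ Q g q} ≤ 2 * [0, c0].length :=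
      card_fibres S K (fun q hq => hq.1) fun q hq => hsmall _ ⟨q, hq, rfl⟩
    set L := sylE.filter fun e => perp0.all fun v => memN [0, c0] (Nat.xor (ap e.2 v) v) with hL
    choose w hw hwE using word
    let f : ↥(Zb K g) → {e // e ∈ L.toFinset} := fun p => ⟨eW (w p.1 p.2), List.mem_toFinset.2
      (List.mem_filter.2 ⟨hwE _ _, List.all_eq_true.2 fun v hv =>
        memN_iff.2 (hsmall _ (moves S K hg hc p.2 (hw _ _) hv))⟩)⟩
    have hf : Function.Injective f := fun a b h => by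
      refine Subtype.ext ?_
      rw [← hw a.1 a.2, ← hw b.1 b.2]
      exact permW_eq_iff.2 (congrArg (fun e => key e.1) h)
    have h1 := Nat.card_le_card_of_injective f hf
    rw [Nat.card_eq_finsetCard] at h1
    have h2 : L.length ≤ 8 := Nat.le_of_ble_eq_true move_small
    have h3 := L.toFinset_card_le
    have : Nat.card {q // inJ Q g q} * Nat.card ↥(Zb K g) ≤ (2 * [0, c0].length) * 8 :=
      Nat.mul_le_mul hJ (by omega)
    rw [show ([0, c0] : List ℕ).length = 2 from rfl] at this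
    omega

end NotFused

/-- The involution is conjugate to no other element of `Q`. -/
theorem not_fused {G : Type*} [Group G] [Finite G] {t : G} {Q : Subgroup G} (S : Setup t Q) (K : Coords t Q) :
    ¬ Fused t Q := by
  rintro ⟨g, hg, hne⟩
  obtain ⟨h, hh, hc⟩ := NotFused.exists_std S K hg hne
  refine NotFused.false_of_std S K hh hc fun e => c0_ok.1 ?_
  rw [← hc, e, NA.Coord.c_t S K]

end Cfsg.Agent.Co2Recog
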