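import Cfsg.Agent.Lib.Co2Recog.Kinds
import Cfsg.Agent.Lib.Co2Recog.ChecksMeet
import Cfsg.Agent.Lib.Co2Recog.ChecksPlain

/-!
If no conjugate of `t` in its centraliser acts as a transvection, some acts as the first standard involution.
-/

set_option autoImplicit false
set_option maxRecDepth 100000

namespace Cfsg.Agent.Co2Recog.Two

open Equiv
open Cfsg.Agent.ThRec.Eight (ap ap_xor ap_zero)
open NA (eq_of_xor lt8)

variable {G : Type*} [Group G] {t : G} {Q : Subgroup G} {K : Coords t Q} {g : G}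

/-- No conjugate of `t` in the centraliser acts as a transvection or as the first standard involution. -/
def Plain (K : Coords t Q) : Prop := ∀ g (P : Pr K g), ∀ m ∈ Sp63,
  m * K.π ⟨_, P.mem⟩ * m⁻¹ ≠ tv 0 ∧ m * K.π ⟨_, P.mem⟩ * m⁻¹ ≠ permW y0W

theorem Plain.good_of (hp : Plain K) (S : Setup t Q) (nf : ¬ Fused t Q) {x : G}
    (hx : x ∈ Subgroup.centralizer ({t} : Set G)) (hk : IsK t x) (hne : x ≠ t) {m : Perm (Fin 63)}
    (hm : m ∈ Sp63) {w : List ℕ} (e : permW w = m * K.π ⟨x, hx⟩ * m⁻¹) : good (eW w) = true := by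
  obtain ⟨h, rfl⟩ := hk
  have P : Pr K h := ⟨S, nf, hx, hne⟩
  simp only [good, Bool.and_eq_true, Bool.not_eq_true']
  constructor
  · cases hb : Nat.beq (key (eW w)) (key eId)
    · rfl
    · exfalso
      refine P.pi_ne_one (conj_eq_one_iff.1 (e.symm.trans ?_))
      exact permW_eq_one_iff.2 (Nat.eq_of_beq_eq_true hb)
  · cases hb : isBad (key (eW w))
    · rfl
    · exfalso
      obtain ⟨v, hv⟩ := bad_word hb
      have hh := hp h P ((permW v)⁻¹ * m) (mul_mem (inv_mem (permW_mem v)) hm)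
      have e2 : (permW v)⁻¹ * m * K.π ⟨_, P.mem⟩ * ((permW v)⁻¹ * m)⁻¹ =
          (permW v)⁻¹ * (m * K.π ⟨_, P.mem⟩ * m⁻¹) * permW v := by group
      rw [e2, ← e] at hh
      rcases hv with hv | hv
      · exact hh.1 (by rw [hv]; group)
      · exact hh.2 (by rw [hv]; group)

namespace Pr

variable (P : Pr K g)
include P

theorem t_mul_mem {z : G} (hz : z ∈ ZZ t Q g) : t * z ∈ Subgroup.centralizer ({t} : Set G) :=
  mul_mem (mem_C.2 rfl) (Subgroup.mem_inf.1 hz).2

theorem pi_t_mul {z : G} (hz : z ∈ ZZ t Q g) :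
    K.π ⟨t * z, P.t_mul_mem hz⟩ = K.π ⟨z, (Subgroup.mem_inf.1 hz).2⟩ := by
  rw [pi_mul K (mem_C.2 rfl) (Subgroup.mem_inf.1 hz).2, (K.ker _).2 (NA.Setup.na_mem P.S), one_mul]

/-- The partner of a nonsingular kind is impossible. -/
theorem no_all_conj (hp : Plain K) (H : ∀ y ∈ YY t Q g⁻¹, IsK t (g⁻¹ * t * g⁻¹⁻¹ * y))
    (h16 : 16 ≤ Nat.card ↥(ZZ t Q g)) : False := by
  have hinj : ∀ z ∈ ZZ t Q g, z ∈ Q → z = 1 := fun z hz => (P.ZZ_isK H hz).2
  have hcard := P.card_imZ_inj hinj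
  have hsq : ∀ p ∈ P.imZ, p * p = 1 := by
    intro p hp'
    obtain ⟨z, hz, rfl⟩ := P.mem_imZ.1 hp'
    rw [← P.pi_t_mul hz, ← map_mul, ← map_one K.π]
    exact congrArg K.π (Subtype.ext (IsK.sq P.S (P.ZZ_isK H hz).1))
  obtain ⟨m, hm, hmc⟩ := exists_conj_Syl Syl_le le_rfl P.imZ_le
    (fun x => ⟨1, by rw [pow_one, pow_two]; exact Subtype.ext (hsq x x.2)⟩)
  let H' : Subgroup (Perm (Fin 63)) := P.imZ.map (MulAut.conj m).toMonoidHom
  have hH' : Nat.card H' = Nat.card P.imZ :=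
    Nat.card_congr (P.imZ.equivMapOfInjective _ (MulAut.conj m).injective).symm.toEquiv
  have hcover : ∀ p ∈ H', InL [[]] p ∨ InL ((sylW.filter fun w => isInv (eW w) && good (eW w))) p := by
    rintro _ ⟨q, hq, rfl⟩
    change InL _ (m * q * m⁻¹) ∨ InL _ (m * q * m⁻¹)
    obtain ⟨w, hw, e⟩ := hmc q hq
    obtain ⟨z, hz, rfl⟩ := P.mem_imZ.1 hq
    by_cases hz1 : z = 1
    · subst hz1
      refine Or.inl ⟨[], List.mem_singleton.2 rfl, ?_⟩
      rw [show K.π ⟨(1 : G), (Subgroup.mem_inf.1 hz).2⟩ = 1 from map_one K.π, mul_one, mul_inv_cancel]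
      rfl
    refine Or.inr ⟨w, List.mem_filter.2 ⟨hw, ?_⟩, e⟩
    rw [Bool.and_eq_true]
    refine ⟨isInv_iff.2 ?_, ?_⟩
    · rw [e, show m * K.π ⟨z, _⟩ * m⁻¹ * (m * K.π ⟨z, _⟩ * m⁻¹) =
        m * (K.π ⟨z, (Subgroup.mem_inf.1 hz).2⟩ * K.π ⟨z, (Subgroup.mem_inf.1 hz).2⟩) * m⁻¹ by group,
        hsq _ (P.mem_imZ.2 ⟨z, hz, rfl⟩), mul_one, mul_inv_cancel]
    · rw [← P.pi_t_mul hz] at e
      exact hp.good_of P.S P.nf (P.t_mul_mem hz) (P.ZZ_isK H hz).1 (fun h => hz1 (mul_eq_left.1 h)) hm e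
  have hC : (sylW.filter fun w => isInv (eW w) && good (eW w)).map eW = sylI.filter good := by
    rw [sylI, sylE_eq, List.filter_filter, List.filter_map]
    congr 1
  have hsp := gsearch_spec H' (fun a ha => by
      obtain ⟨q, hq, rfl⟩ := ha
      rw [← map_mul, hsq q hq, map_one])
    16 7 [[]] _ (by rw [hC]; exact pairs_free)
    (fun w hw => by rw [List.mem_singleton.1 hw]; exact one_mem _) ⟨[], List.mem_singleton.2 rfl, rfl⟩
    (by
      rintro a b ⟨u, hu, rfl⟩ ⟨v, hv, rfl⟩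
      rw [List.mem_singleton.1 hu, List.mem_singleton.1 hv]
      exact ⟨[], List.mem_singleton.2 rfl, (one_mul _).symm⟩) hcover
  rw [hH', hcard] at hsp
  omega

omit P in
theorem ZZ_move {g x y : G} (hx : x ∈ Subgroup.centralizer ({t} : Set G)) :
    x * y * x⁻¹ ∈ ZZ t Q (x * g) ↔ y ∈ ZZ t Q g := by
  rw [mem_ZZ, mem_ZZ, show (x * g)⁻¹ * (x * y * x⁻¹) * (x * g) = g⁻¹ * y * g by group]
  refine and_congr_right' ⟨fun h => ?_, fun h => ?_⟩
  · have hh := mem_C.1 (mul_mem (mul_mem (inv_mem hx) (mem_C.2 h)) hx)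
    rwa [show x⁻¹ * (x * y * x⁻¹) * x = y by group] at hh
  · exact mem_C.1 (mul_mem (mul_mem hx (mem_C.2 h)) (inv_mem hx))

/-- Kind of the first or second standard involution. -/
theorem plain_kind (hp : Plain K) : ∃ m ∈ Sp63, m * K.π ⟨_, P.mem⟩ * m⁻¹ = permW y1W := by
  rcases P.exists_kind with ⟨m, hm, e⟩ | ⟨m, hm, e⟩ | h | ⟨m, hm, w, hw, e, hF, hN⟩
  · exact absurd e (hp g P m hm).1
  · exact absurd e (hp g P m hm).2
  · exact h
  · exfalso
    obtain ⟨x, hx, P', e'⟩ := P.move_to hm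
    have hw' := e.trans e'.symm
    have P'' := P'.partner
    have h2 : permW w * permW w = 1 := by rw [hw']; exact P'.pi_sq
    refine P''.no_all_conj hp ?_ ?_
    · rw [inv_inv]
      exact fun y hy => P'.nonsing_conj hw' hF hN hy
    · rw [card_ZZ, inv_inv]
      refine le_trans ?_ (P'.card_YY_ge hw' (List.nodup_range.filter (fixV (eW w))) fun v hv =>
        ⟨List.mem_range.1 (List.mem_filter.1 hv).1, (List.mem_filter.1 hv).2⟩)
      exact Nat.le_of_ble_eq_true (List.all_eq_true.1 fix_count _ (mem_sylI hw h2))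

end Pr

theorem y1_fixed {v : ℕ} (hv : v < 256) (h : fixV (eW y1W) v = true) : v ∈ W0 := by
  have h0 := List.all_eq_true.1 y1_com.1 v (List.mem_range.2 hv)
  simp only [Bool.and_eq_true, Bool.or_eq_true, Bool.not_eq_true', h, Bool.true_eq_false, false_or] at h0
  exact memN_iff.1 h0.2

theorem W0_facts {v : ℕ} (h : v ∈ W0) : qv v = false ∧ v < 256 := by
  have h0 := List.all_eq_true.1 W0_ok.2.2 v h
  simp only [Bool.and_eq_true, Bool.not_eq_true'] at h0
  exact ⟨h0.1, Nat.le_of_ble_eq_true h0.2⟩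

theorem W0_orth_pair {u v : ℕ} (hu : u ∈ W0) (hv : v ∈ W0) : Bv u v = false := by
  have h := List.all_eq_true.1 W0_perp u (List.mem_range.2 (W0_facts hu).2)
  rw [beq_iff_eq, memN_iff.2 hu] at h
  have := List.all_eq_true.1 h.symm v hv
  simpa using this

namespace Pr

variable (P : Pr K g) (hw : permW y1W = K.π ⟨_, P.mem⟩)
include P hw

theorem YY_W0 {y : G} : y ∈ YY t Q g ↔ y ∈ Q ∧ K.c y ∈ W0 := by
  refine ⟨fun h => ⟨(mem_YY.1 h).1, y1_fixed (K.c_lt y (mem_YY.1 h).1) (P.YY_fix hw h)⟩, fun ⟨hy, hc⟩ => ?_⟩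
  obtain ⟨q, hq, e, rfl⟩ := P.lift_mm hw hy (List.all_eq_true.1 y1_com.2.1 _ hc)
  refine P.mm_YY hq ?_ e
  rw [K.c_mul _ (P.mm_mem hq) _ (NA.Setup.tw_mem P.S e), NA.Coord.c_tw P.S K, Nat.xor_zero] at hc
  exact (W0_facts hc).1

theorem card_YY_y1 : Nat.card ↥(YY t Q g) = 32 := by
  rw [← show 2 * W0.length = 32 by rw [W0_ok.1],
    ← card_pre P.S K W0 W0_ok.2.1 fun v hv => (W0_facts hv).2]
  exact Nat.card_congr (Equiv.subtypeEquivRight fun y => P.YY_W0 hw)

theorem YY_sq {y : G} (hy : y ∈ YY t Q g) : y * y = 1 := by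
  obtain ⟨hq, hc⟩ := (P.YY_W0 hw).1 hy
  rw [K.sq y hq, (W0_facts hc).1, NA.tw_false]

theorem lift_y1 {y : G} (hy : y ∈ YY t Q g) : ∃ q ∈ Q, ∃ e, y = mm t g q * tw t e := by
  obtain ⟨hq, hc⟩ := (P.YY_W0 hw).1 hy
  exact P.lift_mm hw hq (List.all_eq_true.1 y1_com.2.1 _ hc)

theorem II_lift {i : G} (hi : i ∈ II Q g) (h1 : i ≠ 1) : ∃ q ∈ Q, i = mm t g q * t := by
  obtain ⟨q, hq, e, he⟩ := P.lift_y1 hw (P.II_YY hi)
  cases e
  · rw [NA.tw_false, mul_one] at he
    exact absurd (P.mm_RR (he ▸ hi.2)) (fun h => h1 (he.trans h))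
  · exact ⟨q, hq, he⟩

/-- The pairing of two elements of the meet. -/
theorem II_pair {i j : G} (hi : i ∈ II Q g) (hj : j ∈ II Q g) (hj1 : j ≠ 1) (hij : i * j ≠ 1)
    {q : G} (hq : q ∈ Q) (e : i = mm t g q * t) : Bv (K.c q) (K.c j) = true := by
  obtain ⟨r, hr, rfl⟩ := P.II_lift hw hj hj1
  have hc : K.c (mm t g r * t) = K.c (mm t g r) := by
    rw [K.c_mul _ (P.mm_mem hr) _ (NA.Setup.na_mem P.S), NA.Coord.c_t P.S K, Nat.xor_zero]
  rw [hc]
  cases hB : Bv (K.c q) (K.c (mm t g r))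
  · exfalso
    refine hij ?_
    have hp : mm t g (q * r) = i * (mm t g r * t) := by
      rw [P.mm_prod hq hr, hB, NA.tw_false, mul_one, e,
        show mm t g q * t * (mm t g r * t) = mm t g q * (t * mm t g r) * t by group,
        ← NA.Setup.na_comm P.S (P.mm_mem hr), ← mul_assoc, mul_assoc (mm t g q * mm t g r),
        NA.Setup.na_sq P.S, mul_one]
    exact hp ▸ P.mm_RR (hp ▸ (RR Q g).mul_mem hi.2 hj.2)
  · rfl

theorem beta1_eq {i j : G} (hi : i ∈ II Q g) (hj : j ∈ II Q g) (hi1 : i ≠ 1) (hj1 : j ≠ 1)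
    (hij : i * j ≠ 1) : beta1 (K.c i) (K.c j) = true := by
  obtain ⟨q, hq, e⟩ := P.II_lift hw hi hi1
  have hB := P.II_pair hw hi hj hj1 hij hq e
  have hci : K.c i = Nat.xor (ap (eW y1W).2 (K.c q)) (K.c q) := by
    rw [e, K.c_mul _ (P.mm_mem hq) _ (NA.Setup.na_mem P.S), NA.Coord.c_t P.S K, Nat.xor_zero, P.c_mm hw hq]
  set u := preOf (eW y1W) (K.c i) with hu
  have hu2 : u < 256 ∧ Nat.xor (ap (eW y1W).2 u) u = K.c i := by
    rw [hu, preOf]
    cases hf : (List.range 256).find? (fun v => Nat.beq (Nat.xor (ap (eW y1W).2 v) v) (K.c i)) with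
    | none =>
      have := List.find?_eq_none.1 hf (K.c q) (List.mem_range.2 (K.c_lt q hq))
      rw [← hci, Nat.beq_refl] at this
      exact absurd rfl this
    | some v =>
      exact ⟨List.mem_range.1 (List.mem_of_find?_eq_some hf), Nat.eq_of_beq_eq_true (List.find?_some hf :)⟩
  have hd : u ^^^ K.c q ∈ W0 := by
    refine y1_fixed (lt8 hu2.1 (K.c_lt q hq)) ?_
    rw [fixV, ap_xor]
    have e2 : ap (eW y1W).2 u ^^^ u = ap (eW y1W).2 (K.c q) ^^^ K.c q := hu2.2.trans hci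
    have e3 : ap (eW y1W).2 u ^^^ ap (eW y1W).2 (K.c q) = u ^^^ K.c q := by
      refine eq_of_xor ?_
      calc ap (eW y1W).2 u ^^^ ap (eW y1W).2 (K.c q) ^^^ (u ^^^ K.c q)
          = (ap (eW y1W).2 u ^^^ u) ^^^ (ap (eW y1W).2 (K.c q) ^^^ K.c q) := by ac_rfl
        _ = 0 := by rw [e2, Nat.xor_self]
    rw [e3]
    exact Nat.beq_refl _
  have hz := W0_orth_pair hd ((P.YY_W0 hw).1 (P.II_YY hj)).2
  rw [NA.Coord.Bv_add P.S K hu2.1 (K.c_lt q hq) (K.c_lt j hj.1), hB] at hz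
  show Bv u (K.c j) = true
  revert hz
  cases Bv u (K.c j) <;> simp

/-- The meet is one of the listed ones. -/
theorem exists_meet : ∃ Ib ∈ meets, (∀ i ∈ II Q g, K.c i ∈ Ib) ∧
    (∀ v ∈ Ib, ∃ i ∈ II Q g, K.c i = v) ∧ Nat.card ↥(II Q g) = Ib.length ∧
    (Ib.length < 4 ∨ ∃ i ∈ II Q g, ∃ j ∈ II Q g, i ≠ 1 ∧ j ≠ 1 ∧ i * j ≠ 1) := by
  classical
  have hcard : ∀ (l : List G), l.Nodup → (∀ x, x ∈ II Q g ↔ x ∈ l) → Nat.card ↥(II Q g) = l.length := by
    intro l hn hl
    rw [Nat.card_congr (Equiv.subtypeEquivRight fun x => (hl x).trans List.mem_toFinset.symm),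
      Nat.card_eq_finsetCard, List.toFinset_card_of_nodup hn]
  have h0 : K.c 1 = 0 := NA.Coord.c_one P.S K
  have hW : ∀ {i}, i ∈ II Q g → i ≠ 1 → K.c i ∈ W0.filter fun a => !(Nat.beq a 0) := by
    intro i hi h1
    refine List.mem_filter.2 ⟨((P.YY_W0 hw).1 (P.II_YY hi)).2, ?_⟩
    cases hb : Nat.beq (K.c i) 0
    · rfl
    · exact absurd (P.II_c hi (Nat.eq_of_beq_eq_true hb)) h1
  by_cases h1 : ∀ i ∈ II Q g, i = 1
  · refine ⟨[0], List.mem_cons_self, fun i hi => ?_, fun v hv => ⟨1, one_mem _, ?_⟩, ?_, Or.inl (by norm_num)⟩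
    · rw [h1 i hi, h0]; exact List.mem_cons_self
    · rw [h0, List.mem_singleton.1 hv]
    · exact hcard [1] (List.nodup_singleton 1) fun x =>
        ⟨fun hx => List.mem_singleton.2 (h1 x hx), fun hx => by rw [List.mem_singleton.1 hx]; exact one_mem _⟩
  push Not at h1
  obtain ⟨i, hi, i1⟩ := h1
  by_cases h2 : ∀ j ∈ II Q g, j = 1 ∨ j = i
  · refine ⟨[0, K.c i], List.mem_cons_of_mem _ (List.mem_flatMap.2 ⟨K.c i, hW hi i1, List.mem_cons_self⟩),
      fun j hj => ?_, fun v hv => ?_, ?_, Or.inl (by norm_num)⟩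
    · rcases h2 j hj with rfl | rfl
      · rw [h0]; exact List.mem_cons_self
      · exact List.mem_cons_of_mem _ List.mem_cons_self
    · simp only [List.mem_cons, List.not_mem_nil, or_false] at hv
      rcases hv with rfl | rfl
      · exact ⟨1, one_mem _, h0⟩
      · exact ⟨i, hi, rfl⟩
    · refine hcard [1, i] (by simp [Ne.symm i1]) fun x => ⟨fun hx => ?_, fun hx => ?_⟩
      · simpa using h2 x hx
      · simp only [List.mem_cons, List.not_mem_nil, or_false] at hx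
        rcases hx with rfl | rfl
        · exact one_mem _
        · exact hi
  push Not at h2
  obtain ⟨j, hj, j1, ji⟩ := h2
  have inv : ∀ {x}, x ∈ II Q g → x⁻¹ = x := fun hx => inv_eq_of_mul_eq_one_right (P.II_sq hx)
  have hij : i * j ≠ 1 := fun e => ji (by rw [← inv hi, inv_eq_of_mul_eq_one_right e])
  have h3 : ∀ k ∈ II Q g, k = 1 ∨ k = i ∨ k = j ∨ k = i * j := by
    intro k hk
    by_contra hh
    push Not at hh
    obtain ⟨k1, ki, kj, kij⟩ := hh
    obtain ⟨q, hq, e⟩ := P.II_lift hw hi i1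
    have a := P.II_pair hw hi hj j1 hij hq e
    have b := P.II_pair hw hi hk k1 (fun e => ki (by rw [← inv hi, inv_eq_of_mul_eq_one_right e])) hq e
    have hjk : j * k ≠ 1 := fun e => kj (by rw [← inv hj, inv_eq_of_mul_eq_one_right e])
    have c := P.II_pair hw hi (mul_mem hj hk) hjk (fun e => kij (by
      rw [← mul_assoc] at e
      rw [← inv_eq_of_mul_eq_one_right e, inv (mul_mem hi hj)])) hq e
    rw [K.c_mul _ hj.1 _ hk.1, Bv_comm,
      NA.Coord.Bv_add P.S K (K.c_lt j hj.1) (K.c_lt k hk.1) (K.c_lt q hq),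
      Bv_comm (K.c j), Bv_comm (K.c k), a, b] at c
    exact Bool.false_ne_true c
  have hc : K.c (i * j) = Nat.xor (K.c i) (K.c j) := K.c_mul _ hi.1 _ hj.1
  refine ⟨[0, K.c i, K.c j, Nat.xor (K.c i) (K.c j)], List.mem_cons_of_mem _ (List.mem_flatMap.2
      ⟨K.c i, hW hi i1, List.mem_cons_of_mem _ (List.mem_map.2 ⟨K.c j, List.mem_filter.2
        ⟨((P.YY_W0 hw).1 (P.II_YY hj)).2, ?_⟩, rfl⟩)⟩),
    fun k hk => ?_, fun v hv => ?_, ?_, Or.inr ⟨i, hi, j, hj, i1, j1, hij⟩⟩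
  · rw [Bool.and_eq_true, P.beta1_eq hw hi hj i1 j1 hij]
    refine ⟨?_, rfl⟩
    exact (List.mem_filter.1 (hW hj j1)).2
  · rcases h3 k hk with rfl | rfl | rfl | rfl
    · rw [h0]; exact List.mem_cons_self
    · simp
    · simp
    · rw [hc]; simp
  · simp only [List.mem_cons, List.not_mem_nil, or_false] at hv
    rcases hv with rfl | rfl | rfl | rfl
    · exact ⟨1, one_mem _, h0⟩
    · exact ⟨i, hi, rfl⟩
    · exact ⟨j, hj, rfl⟩
    · exact ⟨i * j, mul_mem hi hj, hc⟩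
  · refine hcard [1, i, j, i * j] ?_ fun x => ⟨fun hx => ?_, fun hx => ?_⟩
    · simp [Ne.symm i1, Ne.symm j1, Ne.symm hij, Ne.symm ji, i1, j1]
    · simpa using h3 x hx
    · simp only [List.mem_cons, List.not_mem_nil, or_false] at hx
      rcases hx with rfl | rfl | rfl | rfl
      · exact one_mem _
      · exact hi
      · exact hj
      · exact mul_mem hi hj

end Pr

/-- Two conjugates of the second kind as partners, in standard position, are impossible. -/
theorem Pr.no_y1 (hp : Plain K) {g : G} (P : Pr K g) (hw : permW y1W = K.π ⟨_, P.mem⟩)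
    (hw' : permW y1W = K.π ⟨_, P.partner.mem⟩) (hS : ∀ p ∈ P.imZ, p ∈ Syl) : False := by
  have hZ : Nat.card ↥(ZZ t Q g) = 32 := by rw [card_ZZ]; exact P.partner.card_YY_y1 hw'
  obtain ⟨Ib, hIb, hI1, hI2, hIc, hfour⟩ := P.exists_meet hw
  have hmul := P.card_imZ
  rw [hIc, hZ] at hmul
  have hsq : ∀ p ∈ P.imZ, p * p = 1 := by
    intro p hp'
    obtain ⟨z, hz, rfl⟩ := P.mem_imZ.1 hp'
    rw [← map_mul, ← map_one K.π]
    refine congrArg K.π (Subtype.ext ?_)
    have := P.partner.YY_sq hw' (ZZ_iff_YY.1 hz)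
    calc z * z = g * (g⁻¹ * z * g * (g⁻¹ * z * g)) * g⁻¹ := by group
      _ = 1 := by rw [this]; group
  -- an element of the image is listed or one of two
  let Cw := sylW.filter fun w => decide (eW w ∈ (adm Ib).filter fun e => !(sameK e eId) && !(sameK e (eW y1W)))
  have hb : K.π ⟨_, P.mem⟩ ∈ P.imZ := P.mem_imZ.2 ⟨_, P.b_ZZ, rfl⟩
  have hy1S : permW y1W ∈ Syl := by obtain ⟨v, hv, e⟩ := exists_sylW y_inSyl.2; exact ⟨v, hv, e⟩
  have hcover : ∀ p ∈ P.imZ, InL [[], y1W] p ∨ InL Cw p := by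
    intro p hp'
    by_cases h1 : p = 1
    · exact Or.inl ⟨[], List.mem_cons_self, h1.symm⟩
    by_cases h2 : p = permW y1W
    · exact Or.inl ⟨y1W, by simp, h2.symm⟩
    obtain ⟨w, hwS, e⟩ := hS p hp'
    obtain ⟨z, hz, rfl⟩ := P.mem_imZ.1 hp'
    refine Or.inr ⟨w, List.mem_filter.2 ⟨hwS, decide_eq_true ?_⟩, e⟩
    refine List.mem_filter.2 ⟨?_, ?_⟩
    swap
    · simp only [Bool.and_eq_true, Bool.not_eq_true']
      constructor
      · cases hb : sameK (eW w) eId
        · rfl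
        · exact absurd (e.symm.trans (sameK_id.1 hb)) h1
      · cases hb : sameK (eW w) (eW y1W)
        · rfl
        · exact absurd (e.symm.trans (sameK_iff.1 hb)) h2
    have hcomm : permW w * permW y1W = permW y1W * permW w := by
      rw [e, hw, ← map_mul, ← map_mul]
      exact congrArg K.π (Subtype.ext (P.RR_comm (Subgroup.mem_inf.1 hz).1))
    have hfix : ∀ v ∈ Ib, fixV (eW w) v = true := by
      intro v hv
      obtain ⟨i, hi, rfl⟩ := hI2 v hv
      rw [fixV, ← c_conj K (Subgroup.mem_inf.1 hz).2 e hi.1, P.z_II hz hi]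
      exact Nat.beq_refl _
    have hmove : ∀ h ∈ W0, memN Ib (Nat.xor (ap (eW w).2 h) h) = true := by
      intro h hh
      obtain ⟨y, hy, rfl⟩ := K.c_surj h (W0_facts hh).2
      have hyY := (P.YY_W0 hw).2 ⟨hy, hh⟩
      have := hI1 _ (P.z_move hz hyY)
      rw [K.c_mul _ (P.S.norm z (Subgroup.mem_inf.1 hz).2 y hy) _ (Q.inv_mem hy),
        c_conj K (Subgroup.mem_inf.1 hz).2 e hy, NA.Coord.c_inv P.S K hy] at this
      exact memN_iff.2 this
    -- a witness in a coset of the meet gives a good image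
    have wit : ∀ z' (hz' : z' ∈ ZZ t Q g), IsK t (t * z') → ∀ v : List ℕ,
        permW v = K.π ⟨z', (Subgroup.mem_inf.1 hz').2⟩ → permW v ≠ 1 → good (eW v) = true := by
      intro z' hz' hk v hv hv1
      refine hp.good_of P.S P.nf (P.t_mul_mem hz') hk (fun h => hv1 ?_) (m := 1) (one_mem _) ?_
      · rw [hv]
        have h' : z' = 1 := mul_eq_left.1 h
        subst h'
        exact map_one K.π
      · rw [one_mul, inv_one, mul_one, P.pi_t_mul hz', hv]
    have hy' := ZZ_iff_YY.1 hz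
    obtain ⟨q, hq, ee, hqe⟩ := P.partner.lift_y1 hw' hy'
    have hgood : (bif Nat.blt Ib.length 4 then good (eW w) || good (eMul (eW w) (eW y1W))
        else good (eW w)) = true := by
      cases ee
      · rw [NA.tw_false, mul_one] at hqe
        have := (P.partner.b_mm_isK q).conj g
        rw [← hqe, show g * (g⁻¹ * t * g⁻¹⁻¹ * (g⁻¹ * z * g)) * g⁻¹ = t * z by group] at this
        have hg := wit z hz this w e (e ▸ h1)
        cases Nat.blt Ib.length 4 <;> simp [hg]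
      · rw [NA.tw_true] at hqe
        rcases hfour with h4 | ⟨i, hi, j, hj, i1, j1, hij⟩
        · rw [show Nat.blt Ib.length 4 = true from Nat.ble_eq_true_of_le h4, cond_true, Bool.or_eq_true]
          refine Or.inr ?_
          have hzb : z * (g * t * g⁻¹) ∈ ZZ t Q g := mul_mem hz P.b_ZZ
          have := (P.partner.b_mm_isK q).conj g
          rw [show mm t g⁻¹ q = g⁻¹ * z * g * t by
              rw [hqe, mul_assoc, NA.Setup.na_sq P.S, mul_one],
            show g * (g⁻¹ * t * g⁻¹⁻¹ * (g⁻¹ * z * g * t)) * g⁻¹ = t * (z * (g * t * g⁻¹)) by group] at this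
          rw [← eW_append]
          refine wit _ hzb this (w ++ y1W) ?_ ?_
          · rw [permW_append, pi_mul K (Subgroup.mem_inf.1 hz).2 P.mem, e, hw]
          · rw [permW_append]
            intro h
            refine h2 ?_
            rw [← e, eq_inv_of_mul_eq_one_left h, inv_eq_of_mul_eq_one_right]
            rw [hw, P.pi_sq]
        · have hk : ∀ {x}, x ∈ II Q g → g⁻¹ * x * g ∈ II Q g⁻¹ := fun {x} hx =>
            mem_II.2 ⟨(mem_II.1 hx).2, by
              rw [inv_inv, show g * (g⁻¹ * x * g) * g⁻¹ = x by group]; exact hx.1⟩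
          have hne : ∀ {x}, x ≠ 1 → g⁻¹ * x * g ≠ 1 := fun {x} hx h => hx (by
            calc x = g * (g⁻¹ * x * g) * g⁻¹ := by group
              _ = 1 := by rw [h]; group)
          have sel : ∀ {x}, x ∈ II Q g → x ≠ 1 → Bv (K.c q) (K.c (g⁻¹ * x * g)) = false →
              good (eW w) = true := by
            intro x hx x1 hB
            obtain ⟨r, hr, hre⟩ := P.partner.II_lift hw' (hk hx) (hne x1)
            have hp' : mm t g⁻¹ (q * r) = g⁻¹ * (z * x) * g := by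
              have hc : K.c (g⁻¹ * x * g) = K.c (mm t g⁻¹ r) := by
                rw [hre, K.c_mul _ (P.partner.mm_mem hr) _ (NA.Setup.na_mem P.S), NA.Coord.c_t P.S K,
                  Nat.xor_zero]
              rw [P.partner.mm_prod hq hr, ← hc, hB, NA.tw_false, mul_one,
                show g⁻¹ * (z * x) * g = g⁻¹ * z * g * (g⁻¹ * x * g) by group, hre, hqe,
                show mm t g⁻¹ q * t * (mm t g⁻¹ r * t) = mm t g⁻¹ q * (t * mm t g⁻¹ r) * t by group,
                ← NA.Setup.na_comm P.S (P.partner.mm_mem hr), ← mul_assoc,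
                mul_assoc (mm t g⁻¹ q * mm t g⁻¹ r), NA.Setup.na_sq P.S, mul_one]
            have hzx : z * x ∈ ZZ t Q g := mul_mem hz (P.II_ZZ hx)
            have := (P.partner.b_mm_isK (q * r)).conj g
            rw [hp', show g * (g⁻¹ * t * g⁻¹⁻¹ * (g⁻¹ * (z * x) * g)) * g⁻¹ = t * (z * x) by group] at this
            refine wit _ hzx this w ?_ (e ▸ h1)
            rw [pi_mul K (Subgroup.mem_inf.1 hz).2 (mem_C.2 (NA.Setup.na_comm P.S hx.1)),
              (K.ker ⟨x, _⟩).2 hx.1, mul_one, e]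
          have hg : good (eW w) = true := by
            cases hBi : Bv (K.c q) (K.c (g⁻¹ * i * g))
            · exact sel hi i1 hBi
            cases hBj : Bv (K.c q) (K.c (g⁻¹ * j * g))
            · exact sel hj j1 hBj
            refine sel (mul_mem hi hj) hij ?_
            rw [show g⁻¹ * (i * j) * g = g⁻¹ * i * g * (g⁻¹ * j * g) by group,
              K.c_mul _ (hk hi).1 _ (hk hj).1, Bv_comm,
              NA.Coord.Bv_add P.S K (K.c_lt _ (hk hi).1) (K.c_lt _ (hk hj).1) (K.c_lt q hq),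
              Bv_comm _ (K.c q), Bv_comm _ (K.c q), hBi, hBj]
            rfl
          cases Nat.blt Ib.length 4 <;> simp [hg]
    have hI : eW w ∈ sylI := mem_sylI hwS (by rw [e]; exact hsq _ hp')
    simp only [adm, List.mem_filter, Bool.and_eq_true, Bool.or_eq_true, List.all_eq_true]
    refine ⟨hI, ⟨?_, hfix, hmove⟩, Or.inr hgood⟩
    rw [← eW_append, ← eW_append, sameK_iff, permW_append, permW_append, hcomm]
  have hok := List.all_eq_true.1 meets_ok Ib hIb
  have hmap : Cw.map eW = (adm Ib).filter fun e => !(sameK e eId) && !(sameK e (eW y1W)) := by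
    rw [adm, sylI, sylE_eq, List.filter_filter, List.filter_filter, List.filter_map]
    congr 1
    refine List.filter_congr fun w hw => ?_
    rw [Bool.eq_iff_iff, decide_eq_true_iff]
    simp only [adm, sylI, List.mem_filter, Function.comp_apply, Bool.and_eq_true, sylE_eq]
    constructor
    · rintro ⟨⟨⟨-, h1⟩, h2⟩, h3⟩; exact ⟨⟨h3, h2⟩, h1⟩
    · rintro ⟨⟨h3, h2⟩, h1⟩; exact ⟨⟨⟨List.mem_map_of_mem hw, h1⟩, h2⟩, h3⟩
  have hy11 : permW y1W * permW y1W = 1 := by
    rw [hw]; exact P.pi_sq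
  have hlt := gsearch_spec P.imZ hsq (32 / Ib.length) 7 [[], y1W] Cw (by rw [hmap]; exact hok)
    (fun w hw'' => by
      simp only [List.mem_cons, List.not_mem_nil, or_false] at hw''
      rcases hw'' with rfl | rfl
      · exact one_mem _
      · rw [hw]; exact hb)
    ⟨[], List.mem_cons_self, rfl⟩
    (by
      rintro a b ⟨u, hu, rfl⟩ ⟨v, hv, rfl⟩
      simp only [List.mem_cons, List.not_mem_nil, or_false] at hu hv
      rcases hu with rfl | rfl <;> rcases hv with rfl | rfl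
      · exact ⟨[], by simp, (one_mul _).symm⟩
      · exact ⟨_, by simp, (one_mul _).symm⟩
      · exact ⟨_, by simp, (mul_one _).symm⟩
      · exact ⟨[], List.mem_cons_self, hy11.symm⟩)
    hcover
  have hpos : 0 < Ib.length := Nat.pos_of_ne_zero fun h => by rw [h, zero_mul] at hmul; omega
  rw [← hmul, Nat.mul_div_cancel_left _ hpos] at hlt
  exact lt_irrefl _ hlt

/-- **Some conjugate acts as the first standard involution.** -/
theorem exists_y0 (S : Setup t Q) (nf : ¬ Fused t Q) (K : Coords t Q) (hR : ¬ RootConj t Q K) :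
    ∃ g, ∃ P : Pr K g, permW y0W = K.π ⟨_, P.mem⟩ := by
  by_contra hno
  push Not at hno
  have hp : Plain K := by
    intro g P m hm
    refine ⟨fun e => hR ⟨g, P.mem, 0, m⁻¹, inv_mem hm, ?_⟩, fun e => ?_⟩
    · rw [← e]; group
    · obtain ⟨x, hx, P', e'⟩ := P.move_to hm
      exact hno _ P' (e'.trans e).symm
  obtain ⟨g0, hm0, hn0⟩ := S.moved
  have P0 : Pr K g0 := ⟨S, nf, hm0, hn0⟩
  -- both of the second kind
  obtain ⟨m, hm, e⟩ := P0.plain_kind hp
  obtain ⟨x, hx, P1, e1⟩ := P0.move_to hm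
  have h1 : permW y1W = K.π ⟨_, P1.mem⟩ := (e1.trans e).symm
  obtain ⟨m, hm, e⟩ := P1.partner.plain_kind hp
  obtain ⟨y, hy, P2, e2⟩ := P1.partner.move_to hm
  have h2 : permW y1W = K.π ⟨_, P2.mem⟩ := (e2.trans e).symm
  set g2 := y * (x * g0)⁻¹ with hg2
  have P3 := P2.partner
  have h3 : permW y1W = K.π ⟨_, P3.mem⟩ := h1.trans (pi_congr K (by
    rw [hg2, inv_inv]
    calc x * g0 * t * (x * g0)⁻¹ = x * g0 * (y⁻¹ * (y * t)) * (x * g0)⁻¹ := by group
      _ = x * g0 * (y⁻¹ * (t * y)) * (x * g0)⁻¹ := by rw [mem_C.1 hy]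
      _ = _ := by group) _ _)
  have h3' : permW y1W = K.π ⟨_, P3.partner.mem⟩ := h2.trans (pi_congr K (by rw [inv_inv]) _ _)
  -- conjugate into the Sylow subgroup inside the centraliser of the standard involution
  let H0 : Subgroup (Perm (Fin 63)) := Sp63 ⊓ Subgroup.centralizer {permW y1W}
  have hSH : Syl ≤ H0 := by
    refine le_inf Syl_le fun p hp' => Subgroup.mem_centralizer_singleton_iff.2 ?_
    obtain ⟨w, hw, rfl⟩ := hp'
    have step : ∀ gs L, (∀ a ∈ gs, a ∈ sylGens) → (∀ u ∈ L, permW u * permW y1W = permW y1W * permW u) →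
        ∀ u ∈ double gs L, permW u * permW y1W = permW y1W * permW u := by
      intro gs
      induction gs with
      | nil => exact fun L _ hL => hL
      | cons a gs ih =>
        intro L ha hL
        refine ih _ (fun b hb => ha b (List.mem_cons_of_mem _ hb)) fun u hu => ?_
        rcases List.mem_append.1 hu with hu | hu
        · exact hL u hu
        · obtain ⟨v, hv, rfl⟩ := List.mem_map.1 hu
          have hc := List.all_eq_true.1 y_central a (ha a List.mem_cons_self)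
          rw [Bool.and_eq_true, ← eW_append, ← eW_append, ← eW_append, ← eW_append, sameK_iff, sameK_iff,
            permW_append, permW_append, permW_append, permW_append] at hc
          rw [permW_append, mul_assoc, hL v hv, ← mul_assoc, hc.2, mul_assoc]
    exact step sylGens [[]] (fun _ h => h)
      (fun u hu => by rw [List.mem_singleton.1 hu]; exact (one_mul _).trans (mul_one _).symm) w hw
  have hsub : P3.imZ ≤ H0 := by
    refine le_inf P3.imZ_le fun p hp' => Subgroup.mem_centralizer_singleton_iff.2 ?_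
    obtain ⟨z, hz, rfl⟩ := P3.mem_imZ.1 hp'
    rw [h3, ← map_mul, ← map_mul]
    exact congrArg K.π (Subtype.ext (P3.RR_comm (Subgroup.mem_inf.1 hz).1))
  have hpgrp : IsPGroup 2 P3.imZ := fun p => ⟨1, by
    rw [pow_one, pow_two]
    obtain ⟨z, hz, e⟩ := P3.mem_imZ.1 p.2
    refine Subtype.ext ?_
    show (p : Perm (Fin 63)) * p = 1
    rw [← e, ← map_mul, ← map_one K.π]
    refine congrArg K.π (Subtype.ext ?_)
    have := P3.partner.YY_sq h3' (ZZ_iff_YY.1 hz)
    calc z * z = g2⁻¹ * (g2⁻¹⁻¹ * z * g2⁻¹ * (g2⁻¹⁻¹ * z * g2⁻¹)) * g2⁻¹⁻¹ := by group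
      _ = 1 := by rw [this]; group⟩
  obtain ⟨m, hm, hmc⟩ := exists_conj_Syl hSH inf_le_left hsub hpgrp
  obtain ⟨k, hk⟩ := exists_perm_lift K (Subgroup.mem_inf.1 hm).1
  have P4 := P3.move k.2
  have h4 : permW y1W = K.π ⟨_, P4.mem⟩ := by
    rw [P3.pi_move k.2, ← h3, hk, Subgroup.mem_centralizer_singleton_iff.1 (Subgroup.mem_inf.1 hm).2,
      mul_inv_cancel_right]
  have h4' : permW y1W = K.π ⟨_, P4.partner.mem⟩ := h3'.trans (pi_congr K (by
    calc g2⁻¹⁻¹ * t * g2⁻¹⁻¹⁻¹ = g2⁻¹⁻¹ * ((k : G)⁻¹ * ((k : G) * t)) * g2⁻¹⁻¹⁻¹ := by group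
      _ = g2⁻¹⁻¹ * ((k : G)⁻¹ * (t * k)) * g2⁻¹⁻¹⁻¹ := by rw [mem_C.1 k.2]
      _ = _ := by group) _ _)
  refine P4.no_y1 hp h4 h4' fun p hp' => ?_
  obtain ⟨z, hz, rfl⟩ := P4.mem_imZ.1 hp'
  have hz0 : (k : G)⁻¹ * z * k ∈ ZZ t Q g2⁻¹ := (Pr.ZZ_move (g := g2⁻¹) k.2).1 (by
    rw [show (k : G) * ((k : G)⁻¹ * z * k) * (k : G)⁻¹ = z by group]; exact hz)
  have := hmc _ (P3.mem_imZ.2 ⟨_, hz0, rfl⟩)
  rw [← hk, ← map_mul, ← map_inv, ← map_mul] at this
  convert this using 2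
  refine Subtype.ext ?_
  show z = (k : G) * ((k : G)⁻¹ * z * k) * (k : G)⁻¹
  group

end Cfsg.Agent.Co2Recog.Two
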