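import Cfsg.Agent.Lib.Co2Recog.Main
import Cfsg.Agent.Lib.Co2Recog.Close.Classes
import Cfsg.Agent.Lib.Co2Recog.Close.Fusion
import Cfsg.Agent.Lib.Co2Recog.Close.Endgame

/-!
**The recognition of the second Conway group** from the centraliser of an involution.
-/

set_option autoImplicit false
set_option maxRecDepth 20000

namespace Cfsg.Agent.Co2Recog

open Cfsg

universe u

/-- **The recognition.** -/
theorem recognition {G : Type u} [Group G] [Finite G] (hO : Cfsg.oddCore G = ⊥) (hZ : Subgroup.center G = ⊥)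
    (t : G) (ht : orderOf t = 2) (hcon : Cfsg.IsPConstrained 2 (Subgroup.centralizer ({t} : Set G)))
    (hQ : Cfsg.IsExtraspecial 2 (Cfsg.pCore 2 (Subgroup.centralizer ({t} : Set G))))
    (hcard : Nat.card (Cfsg.pCore 2 (Subgroup.centralizer ({t} : Set G))) = 2 ^ 9)
    (e : (Subgroup.centralizer ({t} : Set G)) ⧸ Cfsg.pCore 2 (Subgroup.centralizer ({t} : Set G)) ≃*
      Matrix.symplecticGroup (Fin 3) (ZMod 2)) : Cfsg.Spor.IsoCo2 G := by
  obtain ⟨φ, inj, hC, hN⟩ := exists_copy hO hZ t ht hcon hQ hcard e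
  have H := Co2Close.Hyp.of inj hC (fun _ h => Co2Close.conj_A2 h)
    (fun _ _ ha hb h => Co2Close.conj_of_tr ha hb h)
    fun _ _ ha hb h => Co2Close.fusion φ inj hN ha hb h
  exact ⟨(MulEquiv.ofBijective φ ⟨inj, H.surjective⟩).symm⟩

end Cfsg.Agent.Co2Recog
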