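import Cfsg.Agent.Lib.Co2Recog.Elt
import Cfsg.Agent.Lib.Techniques.PConstrained
import Cfsg.Agent.Lib.SEBrick.Basic
import Cfsg.Agent.S0215

/-!
The setting of the recognition from the hypotheses on the centraliser of the involution.
-/

set_option autoImplicit false
set_option linter.style.haveILetI false

namespace Cfsg.Agent.Co2Recog.Start

open Cfsg

variable {G : Type*} [Group G] [Finite G]

open Subgroup in
/-- Transport of being extraspecial. -/
theorem extraspecial_iso {A B : Type*} [Group A] [Group B] (e : A ≃* B) {p : ℕ}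
    (h : Cfsg.IsExtraspecial p A) : Cfsg.IsExtraspecial p B := by
  obtain ⟨⟨hp, hf, hc⟩, hz⟩ := h
  have hcen : (center A).map e.toMonoidHom = center B := by
    ext b
    constructor
    · rintro ⟨a, ha, rfl⟩
      refine mem_center_iff.2 fun x => ?_
      obtain ⟨x, rfl⟩ := e.surjective x
      show e x * e a = e a * e x
      rw [← map_mul, ← map_mul, mem_center_iff.1 ha x]
    · intro hb
      refine ⟨e.symm b, mem_center_iff.2 fun x => e.injective ?_, e.apply_symm_apply b⟩
      rw [map_mul, map_mul, e.apply_symm_apply, mem_center_iff.1 hb (e x)]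
  have hfr : (frattini A).map e.toMonoidHom = frattini B := by
    refine le_antisymm (map_le_iff_le_comap.2
      (frattini_le_comap_frattini_of_surjective (φ := e.toMonoidHom) e.surjective)) fun x hx => ?_
    exact ⟨e.symm x, frattini_le_comap_frattini_of_surjective (φ := e.symm.toMonoidHom) e.symm.surjective hx,
      e.apply_symm_apply x⟩
  have hcm : (commutator A).map e.toMonoidHom = commutator B := by
    rw [commutator_def, commutator_def, map_commutator, map_top_of_surjective _ e.surjective]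
  refine ⟨⟨hp.of_equiv e, ?_, ?_⟩, ?_⟩
  · rw [← hfr, hf, hcen]
  · rw [← hcm, hc, hcen]
  · rw [← hcen, card_map_of_injective e.injective, hz]

/-- An involution with no further conjugate in its centraliser is central modulo a normal subgroup of odd
order. -/
theorem isolated (z : G) (hz : orderOf z = 2)
    (h : ∀ g : G, g * z * g⁻¹ ∈ Subgroup.centralizer ({z} : Set G) → g * z * g⁻¹ = z) :
    ∃ N : Subgroup G, N.Normal ∧ Odd (Nat.card N) ∧ Subgroup.centralizer ({z} : Set G) ⊔ N = ⊤ := by
  classical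
  set C := Subgroup.centralizer ({z} : Set G) with hC
  haveI : Fact (Nat.Prime 2) := ⟨Nat.prime_two⟩
  have hzz : z * z = 1 := by rw [← pow_two, ← hz, pow_orderOf_eq_one]
  have hzi : z⁻¹ = z := inv_eq_of_mul_eq_one_left hzz
  have hZ : IsPGroup 2 ↥(Subgroup.zpowers z) :=
    IsPGroup.of_card (n := 1) (by rw [Nat.card_zpowers, hz, pow_one])
  have hindex : ¬ 2 ∣ C.index := by
    intro hdvd
    have hmod := hZ.card_modEq_card_fixedPoints (G ⧸ C)
    have hfix : MulAction.fixedPoints ↥(Subgroup.zpowers z) (G ⧸ C) = {((1 : G) : G ⧸ C)} := by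
      ext x
      obtain ⟨g, rfl⟩ := QuotientGroup.mk_surjective x
      simp only [MulAction.mem_fixedPoints, Set.mem_singleton_iff]
      constructor
      · intro hf
        have e := hf ⟨z, Subgroup.mem_zpowers z⟩
        have e' : ((z * g : G) : G ⧸ C) = (g : G ⧸ C) := e
        rw [QuotientGroup.eq] at e'
        have e2 : g⁻¹ * z * g ∈ C := by
          have := C.inv_mem e'
          simpa [mul_assoc, hzi] using this
        have e3 := h g⁻¹ (by rwa [inv_inv])
        rw [inv_inv] at e3
        rw [QuotientGroup.eq, mul_one, Subgroup.inv_mem_iff, hC, Subgroup.mem_centralizer_singleton_iff]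
        calc g * z = g * (g⁻¹ * z * g) := by rw [e3]
          _ = z * g := by group
      · intro hg v
        rw [hg]
        show (((v : G) * 1 : G) : G ⧸ C) = ((1 : G) : G ⧸ C)
        rw [QuotientGroup.eq, mul_one, mul_one]
        refine C.inv_mem ?_
        exact (Subgroup.zpowers_le.2 (Subgroup.mem_centralizer_singleton_iff.2 rfl)) v.2
    rw [hfix, Nat.card_eq_fintype_card (α := ({((1 : G) : G ⧸ C)} : Set (G ⧸ C))), Set.card_singleton] at hmod
    rw [← Subgroup.index_eq_card] at hmod
    unfold Nat.ModEq at hmod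
    omega
  let z' : ↥C := ⟨z, Subgroup.mem_centralizer_singleton_iff.2 rfl⟩
  have hz' : orderOf z' = 2 := by rw [← Subgroup.orderOf_coe]; exact hz
  obtain ⟨R, hR⟩ := (IsPGroup.of_card (n := 1)
    (by rw [Nat.card_zpowers, hz', pow_one]) : IsPGroup 2 ↥(Subgroup.zpowers z')).exists_le_sylow
  have hRcard : Nat.card ↥((R : Subgroup ↥C).map C.subtype) = 2 ^ (Nat.card G).factorization 2 := by
    rw [Subgroup.card_map_of_injective C.subtype_injective, R.card_eq_multiplicity]
    congr 1
    rw [← C.card_mul_index, Nat.factorization_mul Nat.card_pos.ne' Subgroup.index_ne_zero_of_finite]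
    simp [Nat.factorization_eq_zero_of_not_dvd hindex]
  let P : Sylow 2 G := Sylow.ofCard ((R : Subgroup ↥C).map C.subtype) hRcard
  have hPle : ∀ x ∈ P, x ∈ C := by
    intro x hx
    have hx' : x ∈ (R : Subgroup ↥C).map C.subtype := hx
    obtain ⟨y, -, rfl⟩ := hx'
    exact y.2
  have hzP : z ∈ P := by
    show z ∈ ((P : Subgroup G))
    simp only [P, Sylow.coe_ofCard]
    exact ⟨z', hR (Subgroup.mem_zpowers z'), rfl⟩
  obtain ⟨N, hN, hodd, hcomm⟩ :=
    Cfsg.Agent.S0215.result P z hz hzP fun g hg => h g (hPle _ hg)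
  refine ⟨N, hN, hodd, eq_top_iff.2 fun g _ => ?_⟩
  set n := g⁻¹ * z * g * z with hn
  have hzn : z * n * z = n⁻¹ := by
    calc z * n * z = z * g⁻¹ * z * g * (z * z) := by rw [hn]; group
      _ = z⁻¹ * g⁻¹ * z⁻¹ * g := by rw [hzz, hzi, mul_one]
      _ = n⁻¹ := by rw [hn]; group
  have hnN : n ∈ N := by
    rw [← inv_mem_iff, ← hzn]
    convert hcomm g⁻¹ using 1
    calc z * n * z = z * g⁻¹ * z * g * (z * z) := by rw [hn]; group
      _ = _ := by rw [hzz, mul_one, hzi, inv_inv]
  obtain ⟨k, hk⟩ := hodd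
  set r := n ^ (k + 1) with hr
  have hrN : r ∈ N := N.pow_mem hnN _
  have hr2 : r * r = n := by
    have h1 : n ^ (2 * k + 1) = 1 := by
      rw [← hk]
      exact congrArg Subtype.val (pow_card_eq_one' (x := (⟨n, hnN⟩ : ↥N)))
    rw [hr, ← pow_add, show k + 1 + (k + 1) = 2 * k + 1 + 1 by ring, pow_succ, h1, one_mul]
  have hzr : z * r⁻¹ = r * z := by
    have e : z * r * z = r⁻¹ := by
      have hc : ∀ m : ℕ, z * n ^ m * z = (z * n * z) ^ m := fun m => by
        have := (conj_pow (i := m) (a := z) (b := n)).symm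
        rwa [hzi] at this
      rw [hr, hc, hzn, inv_pow]
    rw [← e]
    calc z * (z * r * z) = z * z * (r * z) := by group
      _ = r * z := by rw [hzz, one_mul]
  have e1 : g⁻¹ * z * g = r * z * r⁻¹ := by
    calc g⁻¹ * z * g = n * z⁻¹ := by rw [hn]; group
      _ = r * r * z := by rw [hzi, hr2]
      _ = r * z * r⁻¹ := by rw [mul_assoc r z, hzr, mul_assoc]
  have hgr : g * r ∈ C := by
    refine Subgroup.mem_centralizer_singleton_iff.2 ?_
    calc g * r * z = g * (r * z * r⁻¹) * r := by group
      _ = g * (g⁻¹ * z * g) * r := by rw [e1]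
      _ = z * (g * r) := by group
  rw [show g = g * r * r⁻¹ by group]
  exact Subgroup.mul_mem_sup hgr (N.inv_mem hrN)

/-- The six-dimensional symplectic group over two elements is simple. -/
theorem simple_sp : IsSimpleGroup (Matrix.symplecticGroup (Fin 3) (ZMod 2)) := by
  haveI := ClassicalSp.isSimpleGroup_psp (m := 3) (F := ZMod 2) (by norm_num) (by norm_num)
  have h1 : Subgroup.center (Matrix.symplecticGroup (Fin 3) (ZMod 2)) = ⊥ := by
    refine Subgroup.card_eq_one.1 ?_
    rw [ClassicalSp.card_center_sp (by norm_num)]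
    simp
  exact ((QuotientGroup.quotientMulEquivOfEq h1).trans QuotientGroup.quotientBot).symm.isSimpleGroup

/-- The centraliser has trivial odd core and contains the centraliser of its two-core. -/
theorem self_centralizing {C : Type*} [Group C] [Finite C] (hcon : Cfsg.IsPConstrained 2 C)
    (e : C ⧸ Cfsg.pCore 2 C ≃* Matrix.symplecticGroup (Fin 3) (ZMod 2)) :
    Subgroup.centralizer (Cfsg.pCore 2 C : Set C) ≤ Cfsg.pCore 2 C := by
  haveI : Fact (Nat.Prime 2) := ⟨Nat.prime_two⟩
  haveI := simple_sp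
  haveI : IsSimpleGroup (C ⧸ Cfsg.pCore 2 C) := e.isSimpleGroup
  refine PConstr.isCharP_of_isPConstrained hcon ?_
  set O := Cfsg.pPrimeCore 2 C
  have hO : (Nat.card O).Coprime 2 := PBasic.pPrimeCore_coprime 2 C
  rcases (Subgroup.Normal.map (inferInstance : O.Normal) _
    (QuotientGroup.mk'_surjective (Cfsg.pCore 2 C))).eq_bot_or_eq_top with h | h
  · rw [Subgroup.map_eq_bot_iff, QuotientGroup.ker_mk'] at h
    refine Subgroup.eq_bot_of_card_eq _ ?_
    obtain ⟨k, hk⟩ := IsPGroup.iff_card.1 (PBasic.pCore_isPGroup 2 C)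
    have h2 := Subgroup.card_dvd_of_le h
    rw [hk] at h2
    exact Nat.Coprime.eq_one_of_dvd (hO.pow_right k) h2
  · exfalso
    have h1 : Nat.card (C ⧸ Cfsg.pCore 2 C) ∣ Nat.card O := by
      rw [← Subgroup.card_top (G := C ⧸ Cfsg.pCore 2 C), ← h]
      exact Subgroup.card_map_dvd _ _
    obtain ⟨φ, hφ, hr⟩ := SchurMult.exists_sp62_hom (F := ZMod 2) (ZMod.card 2)
    have h2 : 2 ∣ Nat.card (C ⧸ Cfsg.pCore 2 C) := by
      rw [Nat.card_congr e.toEquiv, Nat.card_congr (MonoidHom.ofInjective hφ).toEquiv, hr]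
      have hm : tv 0 ∈ Sp63 := tv_mem 0
      have h3 : orderOf (⟨tv 0, hm⟩ : Sp63) = 2 := by
        rw [← Subgroup.orderOf_coe]
        show orderOf (tv 0) = 2
        exact orderOf_eq_prime (by decide +kernel) (by decide +kernel)
      exact h3 ▸ orderOf_dvd_natCard _
    exact absurd (Nat.eq_one_of_dvd_coprimes hO (h2.trans h1) dvd_rfl) (by norm_num)

/-- **The setting** of the recognition. -/
theorem exists_setup (hO : Cfsg.oddCore G = ⊥) (hZ : Subgroup.center G = ⊥) (t : G) (ht : orderOf t = 2)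
    (hcon : Cfsg.IsPConstrained 2 (Subgroup.centralizer ({t} : Set G)))
    (hQ : Cfsg.IsExtraspecial 2 (Cfsg.pCore 2 (Subgroup.centralizer ({t} : Set G))))
    (hcard : Nat.card (Cfsg.pCore 2 (Subgroup.centralizer ({t} : Set G))) = 2 ^ 9)
    (e : (Subgroup.centralizer ({t} : Set G)) ⧸ Cfsg.pCore 2 (Subgroup.centralizer ({t} : Set G)) ≃*
      Matrix.symplecticGroup (Fin 3) (ZMod 2)) : ∃ Q : Subgroup G, Setup t Q := by
  set C := Subgroup.centralizer ({t} : Set G) with hC
  set J := Cfsg.pCore 2 C with hJ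
  have hCJ := self_centralizing hcon e
  refine ⟨J.map C.subtype, ?_⟩
  let i : ↥J ≃* ↥(J.map C.subtype) := J.equivMapOfInjective _ C.subtype_injective
  refine
    { ht := ht
      le := Subgroup.map_subtype_le _
      norm := ?_
      extra := extraspecial_iso i hQ
      card := by rw [← Nat.card_congr i.toEquiv, hcard]; norm_num
      self := ?_
      quot := ?_
      moved := ?_ }
  · rintro x hx _ ⟨q, hq, rfl⟩
    exact ⟨⟨x, hx⟩ * q * ⟨x, hx⟩⁻¹, (inferInstance : J.Normal).conj_mem q hq _, rfl⟩
  · intro x hx h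
    refine ⟨⟨x, hx⟩, hCJ ?_, rfl⟩
    rw [Subgroup.mem_centralizer_iff]
    intro q hq
    exact Subtype.ext (h _ ⟨q, hq, rfl⟩).symm
  · obtain ⟨φ, hφ, hr⟩ := SchurMult.exists_sp62_hom (F := ZMod 2) (ZMod.card 2)
    refine ⟨(φ.comp e.toMonoidHom).comp (QuotientGroup.mk' J), ?_, ?_⟩
    · rw [MonoidHom.range_comp, QuotientGroup.range_mk', ← MonoidHom.range_eq_map, MonoidHom.range_comp,
        MonoidHom.range_eq_top.2 e.surjective, ← MonoidHom.range_eq_map, hr]
    · ext x
      rw [MonoidHom.mem_ker, Subgroup.mem_subgroupOf, MonoidHom.comp_apply, MonoidHom.comp_apply,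
        map_eq_one_iff _ hφ, MulEquiv.coe_toMonoidHom, MulEquiv.map_eq_one_iff, QuotientGroup.mk'_apply,
        QuotientGroup.eq_one_iff]
      constructor
      · exact fun h => ⟨x, h, rfl⟩
      · rintro ⟨y, hy, e'⟩
        exact (Subtype.ext e' : y = x) ▸ hy
  · by_contra hc
    push Not at hc
    obtain ⟨N, hN, hodd, htop⟩ := isolated t ht hc
    have hN' : N = ⊥ := le_bot_iff.1 ((SEBrick.le_oddCore hN hodd).trans hO.le)
    rw [hN', sup_bot_eq] at htop
    have hmem : t ∈ Subgroup.center G := Subgroup.mem_center_iff.2 fun g => by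
      have h := Subgroup.mem_top g
      rw [← htop] at h
      exact (Subgroup.mem_centralizer_singleton_iff.1 h)
    rw [hZ, Subgroup.mem_bot] at hmem
    rw [hmem, orderOf_one] at ht
    norm_num at ht

end Cfsg.Agent.Co2Recog.Start
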