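import Cfsg.Agent.Lib.Co2Recog.Elt
import Mathlib.GroupTheory.Sylow

/-!
A Sylow two-subgroup of the symplectic group in six dimensions as a list of 512 words.
-/

set_option autoImplicit false
set_option maxRecDepth 100000

namespace Cfsg.Agent.Co2Recog

open Equiv

/-- A chain of generators, each doubling the group. -/
def sylGens : List (List ℕ) :=
  [[0], [2], [4], [1, 2, 0, 1], [3, 2, 6, 5, 2, 3, 4, 3, 2, 6, 5, 2, 3, 1, 2, 0, 1, 3, 2, 6, 5, 2, 3, 4, 3, 2,
    6, 5, 2, 3], [3, 2, 6, 5, 2, 3, 4, 3, 2, 6, 5, 2, 3], [3, 2, 6, 5, 2, 3, 1, 2, 0, 1, 3, 2, 6, 5, 2, 3, 4,
    3, 2, 6, 5, 2, 3, 1, 2, 0, 1, 3, 2, 6, 5, 2, 3], [3, 2, 6, 5, 2, 3, 1, 2, 0, 1, 3, 2, 6, 5, 2, 3], [3, 2,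
    6, 5, 2, 3]]

/-- Doubling along the chain. -/
def double : List (List ℕ) → List (List ℕ) → List (List ℕ)
  | [], L => L
  | g :: gs, L => double gs (L ++ L.map (fun w => g ++ w))

/-- The words. -/
def sylW : List (List ℕ) := double sylGens [[]]

/-- Doubling on pairs of matrices. -/
def doubleE : List (List ℕ) → List Elt → List Elt
  | [], L => L
  | g :: gs, L => doubleE gs (L ++ L.map (eMul (eW g)))

/-- The elements. -/
def sylE : List Elt := doubleE sylGens [eId]

theorem doubleE_eq : ∀ gs L, doubleE gs (L.map eW) = (double gs L).map eW
  | [], _ => rfl
  | g :: gs, L => by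
    rw [doubleE, double, ← doubleE_eq gs, List.map_append, List.map_map, List.map_map]
    congr 2
    exact List.map_congr_left fun w _ => (eW_append g w).symm

theorem sylE_eq : sylE = sylW.map eW := doubleE_eq sylGens [[]]

/-- The codes. -/
def sylK : List ℕ := sylE.map key

/-- The codes with their positions, in 61 classes by the remainder. -/
def sylB : List (List (ℕ × ℕ)) :=
  [[(38959071361, 30), (38020333699, 114), (37919670401, 122), (39529242753, 143), (40242802819, 269),
    (34789945475, 343), (40712032387, 449)], [(35907190915, 55), (37516763267, 154), (36477362307, 165),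
    (38524182659, 190), (37575479427, 411), (42256060545, 465)], [(35756195969, 99), (42248454273, 100),
    (42903298179, 184), (37381759105, 207), (41166327937, 427), (38532567171, 446), (37541138563, 453),
    (35713470593, 497)], [(34815099011, 9), (41291366531, 12), (40251965571, 43), (41190703233, 88),
    (42298785923, 111), (36276035713, 173), (42725568641, 284), (37021577347, 333)], [(34664104065, 94),
    (35334938755, 128), (35218284673, 137), (35175559297, 258), (40628416641, 263), (41619845249, 291),
    (41635836033, 382), (42893332611, 391), (40058245249, 458)], [(39714054275, 134), (41760874627, 157),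
    (40721473667, 162), (40620810369, 170), (40604819585, 247), (39538684033, 314), (35343323267, 385),
    (41803600003, 418), (37945102465, 491), (38968512641, 495)], [(40000307329, 32), (37953486977, 36),
    (41609879681, 202), (39563059329, 209), (34823762051, 265), (41284038787, 298), (42323439747, 331),
    (38464942209, 378), (36887351425, 401), (39706448003, 441)], [(36895735937, 24), (38942556289, 28),
    (38003818627, 47), (36996399235, 76), (35956998275, 107), (38457335937, 183), (37566570627, 198),
    (38573990019, 226), (38473326721, 234), (42289098883, 277), (37407191169, 327), (40226287747, 336),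
    (40695517315, 412)], [(37415575681, 145), (36460847235, 248), (35747287169, 431), (38582374531, 482)],
    [(42332602499, 49), (42231939201, 102), (36267126913, 318), (36251136129, 355), (39086223491, 366),
    (34689536129, 394), (37524623491, 455), (41149812865, 502), (36485222531, 505)], [(41274851459, 14),
    (35705340033, 96), (37005062275, 272), (42709053569, 286), (41669652609, 288), (38012481667, 302),
    (35209375873, 348), (42927149187, 473)], [(41139847297, 91), (34647588993, 92), (41794691203, 195),
    (35318423683, 221), (42701447297, 239), (40654626945, 244), (40611901569, 346), (39572500609, 356),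
    (35915329667, 362)], [(35167428737, 138), (40704958595, 160), (38498758785, 292), (41333846147, 374),
    (41787084931, 416), (37928587393, 438), (40007389313, 457), (35326808195, 476), (38951997569, 493)],
    [(37936971905, 38), (38976372865, 66), (39093026947, 75), (38037635203, 113), (38507143297, 180),
    (39546544257, 211), (34807246979, 267), (40729333891, 450), (39689932931, 484)], [(36979884163, 78),
    (38557474947, 224), (37390676097, 282), (34772906115, 341)], [(36844880001, 27), (42265755777, 56),
    (37399060609, 147), (36300943489, 352), (37558440067, 409), (41183629441, 424), (35730772097, 429),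
    (42239021185, 467), (38565859459, 480), (41199620225, 501)], [(42316087427, 51), (41324658819, 82),
    (42886258819, 186), (42742870145, 320), (39069708419, 364), (36468707459, 420)], [(34681405569, 2),
    (41173663873, 5), (34798059651, 11), (40234926211, 41), (42281746563, 109), (35352240259, 131),
    (36258996353, 175), (40645718145, 260), (37995966595, 300), (35965137027, 310), (40661708929, 345),
    (35192860801, 350), (41653137537, 381), (42910634115, 388), (34638680193, 393)], [(40638111873, 169),
    (42684932225, 178), (41778176131, 193), (39555985537, 358), (35360624771, 386), (40041205889, 407),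
    (38985814145, 435), (37978394753, 437), (37962403969, 488)], [(37970788481, 120), (40017608833, 124),
    (40033599617, 126), (39697014915, 132), (39580360833, 141), (41643171969, 148), (41627181185, 150),
    (41743835267, 159), (38482243713, 294), (41317331075, 372), (39723749507, 442)], [(37029691523, 18),
    (39076511875, 22), (38021120131, 115), (38490628225, 233), (42306400387, 278), (37440483457, 281),
    (37424492673, 324), (36870312065, 403), (40712818819, 448)], [(37986779267, 45), (38925516929, 65),
    (36878696577, 69), (35939958915, 105), (37549531267, 196), (37432877185, 205), (40209248387, 338),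
    (40678477955, 414), (35764588673, 499)], [(42936066179, 230), (36443807875, 250), (39119515779, 304),
    (36284428417, 317), (42222506113, 398), (37541924995, 452), (36502524035, 506)], [(42214899841, 59),
    (35722641537, 60), (35738632321, 62), (35226677377, 256), (38045773955, 368), (34672496769, 471)],
    [(41157148801, 7), (34781544579, 86), (40218411139, 116), (35335725187, 129), (42734739585, 177),
    (42718748801, 236), (36242481281, 242), (36988022915, 274), (35948621955, 308), (39589802113, 312),
    (42692014209, 323)], [(34630549633, 1), (40722260099, 163), (35200721025, 212), (35184730241, 214),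
    (35301384323, 223), (38516060289, 376), (35344109699, 384), (40024690817, 405), (41804386435, 419)],
    [(39110328451, 72), (39680499843, 217), (40687919235, 253), (38934958209, 432), (39707234435, 440),
    (35309768835, 478), (41770045571, 509)], [(37919932545, 123), (39529504897, 142), (38574776451, 227),
    (40259055747, 270), (42289885315, 276), (34790207619, 342), (36853796993, 462), (39672893571, 486)],
    [(35923443843, 52), (36862181505, 71), (37533016195, 153), (36493615235, 166), (38540435587, 189),
    (42272313473, 397), (42256322689, 464), (38583160963, 483)], [(37382021249, 206), (42919551107, 228),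
    (38548820099, 445), (35713732737, 496), (36486008963, 504)], [(34815361155, 8), (40252227715, 42),
    (41307619459, 80), (41190965377, 89), (42299048067, 110), (36276297857, 172), (36292288641, 241),
    (37037830275, 334), (36451668099, 422), (34655981697, 469)], [(35175821441, 259), (41636098177, 383),
    (42893594755, 390), (40058507393, 459)], [(40050901121, 34), (39714316419, 135), (41761136771, 156),
    (40621072513, 171), (41660473473, 200), (39538946177, 315), (41334632579, 375)], [(39093813379, 74),
    (40671404163, 255), (41300291715, 297), (42339692675, 328), (38465204353, 379), (36887613569, 400),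
    (36903604353, 461), (41753530499, 511)], [(37012652163, 16), (39059472515, 20), (36895998081, 25),
    (38942818433, 29), (38958809217, 31), (38004080771, 46), (35957260419, 106), (37566832771, 199),
    (38473588865, 235), (40242540675, 268), (34773692547, 340), (40695779459, 413)], [(36477100163, 164),
    (38523920515, 191)], [(35755933825, 98), (42248192129, 101), (42232201345, 103), (39102476419, 306),
    (36267389057, 319), (34689798273, 395), (41166065793, 426), (38532305027, 447), (37524885635, 454),
    (41150075009, 503)], [(34798846083, 10), (41291104387, 13), (40235712643, 40), (42282532995, 108),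
    (42725306497, 285), (42709315713, 287), (35965923459, 311), (37021315203, 332), (38028734595, 370),
    (42943402115, 474)], [(34764505219, 84), (41140109441, 90), (34647851137, 93), (34663841921, 95),
    (40201371779, 118), (35218022529, 136), (35318685827, 220), (40628154497, 262), (41619583105, 290),
    (40612163713, 347), (35931582595, 361)], [(39697801347, 133), (41744621699, 158), (40705220739, 161),
    (40604557441, 246), (41787347075, 417), (37928849537, 439), (40007651457, 456), (35327070339, 477),
    (37944840321, 490), (38952259713, 492), (38968250497, 494)], [(40000045185, 33), (37953224833, 37),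
    (37937234049, 39), (41609617537, 203), (39562797185, 208), (39546806401, 210), (39663460483, 219),
    (34823499907, 264), (41283776643, 299), (39690195075, 485)], [(37987565699, 44), (36996137091, 77),
    (35940745347, 104), (38457073793, 182), (37550317699, 197), (38557737091, 225), (37390938241, 283),
    (37406929025, 326), (40679264387, 415)], [(36845142145, 26), (35906404483, 54), (37415313537, 144),
    (37399322753, 146), (37515976835, 155), (42936852611, 231), (37574692995, 410), (35731034241, 428),
    (35747025025, 430), (38566121603, 481), (41199882369, 500)], [(42332340355, 48), (41324920963, 83),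
    (42902511747, 185), (36250873985, 354), (39085961347, 367), (36468969603, 421)], [(35705077889, 97),
    (41669390465, 289), (38012219523, 303), (40661971073, 344), (35209113729, 349), (35193122945, 351),
    (41653399681, 380), (34638942337, 392), (42926887043, 472)], [(40638374017, 168), (42685194369, 179),
    (41794429059, 194), (35302170755, 222), (42701185153, 238), (40654364801, 245), (39572238465, 357),
    (39556247681, 359), (35915067523, 363), (37978656897, 436)], [(40033861761, 127), (35167166593, 139),
    (41643434113, 149), (40688705667, 252), (38498496641, 293), (38482505857, 295), (41317593219, 373),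
    (35310555267, 479), (41770832003, 508)], [(37029953667, 19), (39076774019, 23), (38976110721, 67),
    (38037373059, 112), (38506881153, 181), (38490890369, 232), (40259842179, 271), (37440745601, 280),
    (42322653315, 330), (40729071747, 451), (39673680003, 487)], [(36494401667, 167), (38541222019, 188),
    (40225501315, 337)], [(42265493633, 57), (36460060803, 249), (39119777923, 305), (36284690561, 316),
    (36300681345, 353), (42222768257, 399), (37558177923, 408), (41183367297, 425), (38549606531, 444),
    (42238759041, 466)], [(35738894465, 63), (41308405891, 81), (42885996675, 187), (42742608001, 321),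
    (37038616707, 335), (38046036099, 369), (36452454531, 423)], [(34681143425, 3), (41173401729, 4),
    (41157410945, 6), (41274065027, 15), (34781806723, 87), (40218673283, 117), (35351978115, 130),
    (36258734209, 174), (42735001729, 176), (36242743425, 243), (40645456001, 261), (37004275843, 273),
    (35948884099, 309)], [(35200983169, 213), (35360362627, 387), (40024952961, 404), (40040943745, 406),
    (38985552001, 434), (37962141825, 489)], [(37970526337, 121), (40017346689, 125), (39580098689, 140),
    (41626919041, 151), (39680761987, 216), (41301078147, 296), (39723487363, 443)], [(37013438595, 17),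
    (39060258947, 21), (34806460547, 266), (42306138243, 279), (37424230529, 325), (36870049921, 402),
    (36854059137, 463)], [(35923705987, 53), (38925254785, 64), (36878434433, 68), (36862443649, 70),
    (36979097731, 79), (37533278339, 152), (37432615041, 204), (40208986243, 339), (42272575617, 396),
    (35764326529, 498)], [(42919813251, 229), (36443545731, 251), (39103262851, 307), (36502261891, 507)],
    [(42315300995, 50), (42214637697, 58), (35722379393, 61), (36292550785, 240), (35226415233, 257),
    (39068921987, 365), (38029521027, 371), (34656243841, 468), (34672234625, 470), (42944188547, 475)],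
    [(34765291651, 85), (40202158211, 119), (42718486657, 237), (36987760771, 275), (37995180163, 301),
    (39589539969, 313), (42691752065, 322), (35932369027, 360), (42909847683, 389)], [(34630287489, 0),
    (40051163265, 35), (41777389699, 192), (41660735617, 201), (35184468097, 215), (38515798145, 377)],
    [(39110066307, 73), (39664246915, 218), (40671666307, 254), (42339954819, 329), (38934696065, 433),
    (36903866497, 460), (41753792643, 510)]]

/-- The position of a code, or 512. -/
def sylPos (n : ℕ) : ℕ :=
  ((sylB.getD (n % 61) []).find? fun p => Nat.beq p.1 n).elim 512 Prod.snd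

/-- Membership of a code. -/
def inSyl (n : ℕ) : Bool := Nat.blt (sylPos n) 512

theorem sylB_ok : (sylB.all fun b => b.all fun p => Nat.beq (sylK.getD p.2 0) p.1) = true := by decide +kernel

theorem sylPos_map : sylK.map sylPos = List.range 512 := by decide +kernel

theorem sylK_nodup : sylK.Nodup := List.Nodup.of_map sylPos (sylPos_map ▸ List.nodup_range)

theorem sylK_length : sylK.length = 512 := by
  have h := congrArg List.length sylPos_map
  rwa [List.length_map, List.length_range] at h

theorem inSyl_mem {n : ℕ} (h : inSyl n = true) : n ∈ sylK := by
  have hlt : sylPos n < 512 := Nat.le_of_ble_eq_true h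
  unfold sylPos at hlt
  cases hf : (sylB.getD (n % 61) []).find? (fun p => Nat.beq p.1 n) with
  | none => rw [hf] at hlt; exact absurd hlt (lt_irrefl _)
  | some p =>
    rw [hf] at hlt
    have hm := List.mem_of_find?_eq_some hf
    have hp : p.1 = n := Nat.eq_of_beq_eq_true (List.find?_some hf :)
    have hb : sylB.getD (n % 61) [] ∈ sylB := by
      by_cases hl : n % 61 < sylB.length
      · rw [List.getD_eq_getElem _ _ hl]; exact List.getElem_mem hl
      · rw [List.getD_eq_default _ _ (by omega)] at hm; exact absurd hm (List.not_mem_nil)
    have e := Nat.eq_of_beq_eq_true (List.all_eq_true.1 (List.all_eq_true.1 sylB_ok _ hb) p hm)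
    have hl : p.2 < sylK.length := by rw [sylK_length]; exact hlt
    rw [List.getD_eq_getElem _ _ hl] at e
    rw [← hp, ← e]
    exact List.getElem_mem hl

theorem sylE_closed :
    (sylGens.all fun g => sylE.all fun x => inSyl (key (eMul (eW g) x))) = true := by decide +kernel

theorem exists_sylW {w : List ℕ} (h : inSyl (key (eW w)) = true) : ∃ v ∈ sylW, permW v = permW w := by
  have hn := inSyl_mem h
  rw [sylK, sylE_eq, List.map_map] at hn
  obtain ⟨v, hv, e⟩ := List.mem_map.1 hn
  exact ⟨v, hv, permW_eq_iff.2 e⟩

theorem nil_mem_double : ∀ gs L, [] ∈ L → ([] : List ℕ) ∈ double gs L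
  | [], _, h => h
  | g :: gs, L, h => nil_mem_double gs _ (List.mem_append_left _ h)

theorem closed_step {g v : List ℕ} (hg : g ∈ sylGens) (hv : v ∈ sylW) :
    ∃ u ∈ sylW, permW u = permW g * permW v := by
  have h := List.all_eq_true.1 (List.all_eq_true.1 sylE_closed g hg) (eW v)
    (sylE_eq ▸ List.mem_map_of_mem hv)
  rw [← eW_append] at h
  obtain ⟨u, hu, e⟩ := exists_sylW h
  exact ⟨u, hu, e.trans (permW_append g v)⟩

theorem closed_double : ∀ gs L, (∀ g ∈ gs, g ∈ sylGens) →
    (∀ x ∈ L, ∀ v ∈ sylW, ∃ u ∈ sylW, permW u = permW x * permW v) →
    ∀ x ∈ double gs L, ∀ v ∈ sylW, ∃ u ∈ sylW, permW u = permW x * permW v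
  | [], _, _, hL => hL
  | g :: gs, L, hg, hL => closed_double gs _ (fun a ha => hg a (List.mem_cons_of_mem _ ha)) (by
      intro x hx v hv
      rcases List.mem_append.1 hx with hx | hx
      · exact hL x hx v hv
      · obtain ⟨y, hy, rfl⟩ := List.mem_map.1 hx
        obtain ⟨u, hu, e⟩ := hL y hy v hv
        obtain ⟨u', hu', e'⟩ := closed_step (hg g List.mem_cons_self) hu
        exact ⟨u', hu', by rw [e', e, permW_append, mul_assoc]⟩)

theorem sylW_mul {x v : List ℕ} (hx : x ∈ sylW) (hv : v ∈ sylW) :
    ∃ u ∈ sylW, permW u = permW x * permW v :=
  closed_double sylGens [[]] (fun _ h => h)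
    (fun y hy v hv => ⟨v, hv, by rw [List.mem_singleton.1 hy]; exact (one_mul _).symm⟩) x hx v hv

/-- The submonoid of the listed permutations. -/
def sylM : Submonoid (Perm (Fin 63)) where
  carrier := {p | ∃ w ∈ sylW, permW w = p}
  one_mem' := ⟨[], nil_mem_double _ _ List.mem_cons_self, rfl⟩
  mul_mem' := by
    rintro _ _ ⟨x, hx, rfl⟩ ⟨v, hv, rfl⟩
    exact sylW_mul hx hv

/-- The Sylow subgroup. -/
def Syl : Subgroup (Perm (Fin 63)) :=
  { sylM with
    inv_mem' := fun {x} hx => by
      rw [inv_eq_of_mul_eq_one_right (a := x) (b := x ^ (orderOf x - 1))
        (by rw [← pow_succ', Nat.sub_add_cancel (orderOf_pos x), pow_orderOf_eq_one])]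
      exact sylM.pow_mem hx _ }

theorem mem_Syl {p : Perm (Fin 63)} : p ∈ Syl ↔ ∃ w ∈ sylW, permW w = p := Iff.rfl

theorem Syl_le : Syl ≤ Sp63 := by
  rintro _ ⟨w, _, rfl⟩
  exact permW_mem w

theorem sylW_inj {u v : List ℕ} (hu : u ∈ sylW) (hv : v ∈ sylW) (h : permW u = permW v) : u = v :=
  List.inj_on_of_nodup_map (f := fun w => key (eW w))
    (by have := sylK_nodup; rwa [sylK, sylE_eq, List.map_map] at this) hu hv (permW_eq_iff.1 h)

theorem card_Syl : Nat.card Syl = 512 := by
  classical
  have hn : (sylW.map permW).Nodup := by
    refine List.Nodup.map_on (fun u hu v hv h => sylW_inj hu hv h) ?_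
    have := sylK_nodup
    rw [sylK, sylE_eq, List.map_map] at this
    exact List.Nodup.of_map _ this
  have e : ∀ p, p ∈ Syl ↔ p ∈ (sylW.map permW).toFinset := fun p => by
    rw [mem_Syl, List.mem_toFinset, List.mem_map]
  rw [Nat.card_congr (Equiv.subtypeEquivRight e), Nat.card_eq_finsetCard, List.toFinset_card_of_nodup hn,
    List.length_map]
  have := sylK_length
  rwa [sylK, sylE_eq, List.map_map, List.length_map] at this

/-- A two-subgroup of a subgroup containing the Sylow subgroup has a conjugate there inside it. -/
theorem exists_conj_Syl {H P : Subgroup (Perm (Fin 63))} (hS : Syl ≤ H) (hH : H ≤ Sp63) (hP : P ≤ H)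
    (h2 : IsPGroup 2 P) : ∃ m ∈ H, ∀ x ∈ P, m * x * m⁻¹ ∈ Syl := by
  have : Fact (Nat.Prime 2) := ⟨Nat.prime_two⟩
  have hS2 : IsPGroup 2 (Syl.subgroupOf H) :=
    (IsPGroup.of_card (p := 2) (n := 9) card_Syl).of_equiv (Subgroup.subgroupOfEquivOfLe hS).symm
  have hidx : ¬ 2 ∣ (Syl.subgroupOf H).index := by
    intro h
    have h1 := (Syl.subgroupOf H).card_mul_index
    have h3 : Nat.card H ∣ 1451520 := card_Sp63 ▸ Subgroup.card_dvd_of_le hH
    rw [Nat.card_congr (Subgroup.subgroupOfEquivOfLe hS).toEquiv, card_Syl] at h1
    obtain ⟨k, hk⟩ := h
    rw [← h1, hk] at h3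
    have : 512 * (2 * k) ∣ 512 * 2835 := h3
    have h4 := Nat.dvd_of_mul_dvd_mul_left (by norm_num) this
    have : 2 ∣ 2835 := dvd_trans (Dvd.intro k rfl) h4
    norm_num at this
  set T := hS2.toSylow hidx with hT
  obtain ⟨T', hT'⟩ := IsPGroup.exists_le_sylow (h2.of_equiv (Subgroup.subgroupOfEquivOfLe hP).symm)
  obtain ⟨g, hg⟩ := MulAction.exists_smul_eq H T' T
  refine ⟨g, g.2, fun x hx => ?_⟩
  have hx' : g * (⟨x, hP hx⟩ : H) * g⁻¹ ∈ ((g • T' : Sylow 2 H) : Subgroup H) := by
    rw [Sylow.coe_subgroup_smul]
    exact Subgroup.smul_mem_pointwise_smul _ (MulAut.conj g) (T' : Subgroup H)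
      (hT' (Subgroup.mem_subgroupOf.2 hx))
  rw [hg] at hx'
  exact hx'

end Cfsg.Agent.Co2Recog
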